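import Groth.Agent.ProjBundleLib.Classify
import Groth.Agent.Props.QStalk
import Groth.Agent.PullStalk.Exact
import Groth.Agent.Omega.Stalks

/-! Epimorphisms `g^*E → L` and generating families of sections. -/

noncomputable section

universe u

open CategoryTheory CategoryTheory.Limits AlgebraicGeometry TopologicalSpace Opposite
open Groth.Agent.QCoh Groth.Agent.Props.GenLocus Groth.Agent.PullStalk.Sky
open Groth.Agent.PullStalk.Exact (stalkLin stalkLin_germ)

namespace Groth.Agent.ProjBundleLib

variable {Y X : Scheme.{u}} {E : Y.Modules} {g : X ⟶ Y} {L : X.Modules}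

/-- The sections given by a map out of the pullback. -/
def adjMap (s : (Scheme.Modules.pullback g).obj E ⟶ L) : E ⟶ (Scheme.Modules.pushforward g).obj L :=
  (Scheme.Modules.pullbackPushforwardAdjunction g).homEquiv E L s

lemma vsec_adjMap (s : (Scheme.Modules.pullback g).obj E ⟶ L) (U : Y.Opens) (e : Γ(E, U)) :
    vsec (adjMap s) U e = s.app (g ⁻¹ᵁ U) (LFFrame.unitSec g E U e) := by
  rw [adjMap, Adjunction.homEquiv_unit]
  rfl

lemma exists_affine_mem (x : X) : ∃ U : Y.Opens, IsAffineOpen U ∧ x ∈ g ⁻¹ᵁ U := by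
  obtain ⟨U, hU, hx, -⟩ := exists_isAffineOpen_mem_and_subset (X := Y) (x := g x) (U := ⊤) trivial
  exact ⟨U, hU, hx⟩

/-- Generating sections give an epimorphism. -/
theorem epi_of_gens {s : (Scheme.Modules.pullback g).obj E ⟶ L} (hv : Gens (adjMap s)) : Epi s := by
  refine Omega.Stalks.epi_of_stalk fun x => ?_
  obtain ⟨U, hU, hx⟩ := exists_affine_mem (g := g) x
  obtain ⟨e₀, V, hxV, hf⟩ := hv U hU x hx
  intro t
  have hb := ((isGen_iff_isFrame _).mp hf.gen).stalkComb_bijective x hxV
  obtain ⟨a, rfl⟩ := hb.2 t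
  refine ⟨a 0 • germM _ (g ⁻¹ᵁ U) x hx (LFFrame.unitSec g E U e₀), ?_⟩
  rw [map_smul, LFFrame.stalkComb, Fintype.linearCombination_apply, Fin.sum_univ_one, stalkLin_germ,
    ← vsec_adjMap]
  exact congrArg (a 0 • ·) (L.presheaf.germ_res_apply (homOfLE hf.le) x hxV _).symm

variable [E.IsQuasicoherent]

lemma span_unitSec_germ (U : Y.Opens) (hU : IsAffineOpen U) (x : X) (hx : x ∈ g ⁻¹ᵁ U) :
    Submodule.span (X.presheaf.stalk x) (Set.range fun e : Γ(E, U) =>
      germM ((Scheme.Modules.pullback g).obj E) (g ⁻¹ᵁ U) x hx (LFFrame.unitSec g E U e)) = ⊤ := by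
  let := (g.stalkMap x).hom.toAlgebra
  let := PullStalk.Basic.moduleOver g E x
  have : IsScalarTower (Y.presheaf.stalk (g x)) (X.presheaf.stalk x)
        (((Scheme.Modules.pullback g).obj E).presheaf.stalk x) :=
      IsScalarTower.of_algebraMap_smul fun _ _ => rfl
  refine eq_top_iff.2 fun t _ => ?_
  clear ‹t ∈ (⊤ : Submodule _ _)›
  induction t using (PullStalk.Basic.isBaseChange_unitStalk g E x).inductionOn with
  | zero => exact zero_mem _
  | tmul t =>
    let := Props.QStalk.moduleSections E (x := g x) hx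
    obtain ⟨⟨m, a⟩, hm⟩ := (Props.QStalk.isLocalizedModule_germLin E hx hU).surj t
    have hu : IsUnit (Y.presheaf.germ U (g x) hx (a : Γ(Y, U))) := by
      let := Y.presheaf.algebra_section_stalk ⟨g x, hx⟩
      have := hU.isLocalization_stalk ⟨g x, hx⟩
      exact IsLocalization.map_units (M := (hU.primeIdealOf ⟨g x, hx⟩).asIdeal.primeCompl)
        (Y.presheaf.stalk (g x)) a
    obtain ⟨w, hw⟩ := hu
    have ht : t = (↑w⁻¹ : Y.presheaf.stalk (g x)) • germM E U (g x) hx m := by
      have h1 : (w : Y.presheaf.stalk (g x)) • t = germM E U (g x) hx m := by rw [hw]; exact hm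
      rw [← h1, smul_smul, Units.inv_mul, one_smul]
    rw [ht, map_smul, ← algebraMap_smul (X.presheaf.stalk x)]
    refine Submodule.smul_mem _ _ (Submodule.subset_span ⟨m, ?_⟩)
    exact (PullStalk.Basic.unitStalkHom_germ g E x U hx m).symm
  | smul r t ht => exact Submodule.smul_mem _ _ ht
  | add t t' ht ht' => exact add_mem ht ht'

/-- An epimorphism onto an invertible module gives generating sections. -/
theorem gens_of_epi (hL : PicF.IsInvertible L) (s : (Scheme.Modules.pullback g).obj E ⟶ L) [Epi s] :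
    Gens (adjMap s) := by
  intro U hU x hx
  obtain ⟨W, w, hxW, hw⟩ := exists_isGen hL x
  let W' := W ⊓ g ⁻¹ᵁ U
  have hw' := hw.restrict (inf_le_left : W' ≤ W)
  have hxW' : x ∈ W' := ⟨hxW, hx⟩
  by_contra! hne
  have hc : ∀ e : Γ(E, U), ∃ c : Γ(X, W'),
      res L (inf_le_right : W' ≤ g ⁻¹ᵁ U) (vsec (adjMap s) U e) = c • res L (inf_le_left : W' ≤ W) w := by
    intro e
    obtain ⟨c, hc, -⟩ := hw'.exists_eq le_rfl (res L inf_le_right (vsec (adjMap s) U e))
    exact ⟨c, by rwa [res_self] at hc⟩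
  choose c hc using hc
  have hm : ∀ e, X.presheaf.germ W' x hxW' (c e) ∈ IsLocalRing.maximalIdeal (X.presheaf.stalk x) := by
    intro e hu
    have hxB : x ∈ X.basicOpen (c e) := (X.mem_basicOpen _ x hxW').mpr hu
    have hle : X.basicOpen (c e) ≤ W' := X.basicOpen_le _
    refine hne e (X.basicOpen (c e)) hxB ⟨hle.trans inf_le_right, ?_⟩
    rw [← res_res L (inf_le_right : W' ≤ g ⁻¹ᵁ U) hle, hc, res_smul]
    exact (hw'.restrict hle).smul_unit (RingedSpace.isUnit_res_basicOpen _ (c e))
  let t₀ : L.presheaf.stalk x := germM L W' x hxW' (res L (inf_le_left : W' ≤ W) w)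
  have hspan : ∀ t, stalkLin s x t ∈ IsLocalRing.maximalIdeal (X.presheaf.stalk x) •
      Submodule.span (X.presheaf.stalk x) {t₀} := by
    intro t
    have ht : t ∈ Submodule.span (X.presheaf.stalk x) _ :=
      (span_unitSec_germ (E := E) U hU x hx).ge Submodule.mem_top
    induction ht using Submodule.span_induction with
    | mem t h =>
      obtain ⟨e, rfl⟩ := h
      rw [stalkLin_germ, ← vsec_adjMap,
        show germM L (g ⁻¹ᵁ U) x hx (vsec (adjMap s) U e) =
          germM L W' x hxW' (res L (inf_le_right : W' ≤ g ⁻¹ᵁ U) (vsec (adjMap s) U e)) from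
          (L.presheaf.germ_res_apply _ x hxW' _).symm,
        hc, germM_smul]
      exact Submodule.smul_mem_smul (hm e) (Submodule.mem_span_singleton_self _)
    | zero => rw [map_zero]; exact zero_mem _
    | add a b _ _ ha hb => rw [map_add]; exact add_mem ha hb
    | smul r a _ ha => rw [map_smul]; exact Submodule.smul_mem _ _ ha
  obtain ⟨t, ht⟩ := PullStalk.Exact.stalk_surjective s x t₀
  have h0 := hspan t
  rw [ht, Submodule.mem_smul_span_singleton] at h0
  obtain ⟨a, ha, hae⟩ := h0
  have hb := ((isGen_iff_isFrame _).mp hw').stalkComb_bijective x hxW'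
  have h2 : LFFrame.stalkComb L (fun _ : Fin 1 => res L (inf_le_left : W' ≤ W) w) x hxW' (fun _ => a) =
      LFFrame.stalkComb L (fun _ : Fin 1 => res L (inf_le_left : W' ≤ W) w) x hxW' (fun _ => 1) := by
    simp only [LFFrame.stalkComb, Fintype.linearCombination_apply, Fin.sum_univ_one, one_smul]
    exact hae
  have h3 : a = 1 := congr_fun (hb.1 h2) 0
  exact (IsLocalRing.maximalIdeal.isMaximal _).ne_top
    ((Ideal.eq_top_iff_one _).mpr (h3 ▸ ha))

end Groth.Agent.ProjBundleLib
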