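import Groth.Agent.ProjBundleLib.Pull
import Groth.Agent.ProjBundleLib.Gens

/-! The universal property of a projective bundle. -/

noncomputable section

universe u

open CategoryTheory CategoryTheory.Limits AlgebraicGeometry TopologicalSpace Opposite
open RelProj Groth.Agent.QCoh Groth.Agent.Props.GenLocus

namespace Groth.Agent.ProjBundleLib

variable {Y P X : Scheme.{u}} {E : Y.Modules} {p : P ⟶ Y} {O1 : P.Modules}
  {φ : E ⟶ (Scheme.Modules.pushforward p).obj O1}

/-- The unit of a composite, on sections. -/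
lemma pullbackComp_inv_unitSec (r : X ⟶ P) (p : P ⟶ Y) (E : Y.Modules) (U : Y.Opens) (e : Γ(E, U)) :
    ((Scheme.Modules.pullbackComp r p).inv.app E).app ((r ≫ p) ⁻¹ᵁ U)
        (LFFrame.unitSec (r ≫ p) E U e) =
      LFFrame.unitSec r ((Scheme.Modules.pullback p).obj E) (p ⁻¹ᵁ U) (LFFrame.unitSec p E U e) := by
  have h := unit_conjugateEquiv
    ((Scheme.Modules.pullbackPushforwardAdjunction p).comp (Scheme.Modules.pullbackPushforwardAdjunction r))
    (Scheme.Modules.pullbackPushforwardAdjunction (r ≫ p)) (Scheme.Modules.pullbackComp r p).inv E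
  rw [Scheme.Modules.conjugateEquiv_pullbackComp_inv] at h
  exact (ConcreteCategory.congr_hom (congrArg (fun f => Scheme.Modules.Hom.app f U) h) e).symm

lemma adj_unitSec (φ : E ⟶ (Scheme.Modules.pushforward p).obj O1) (U : Y.Opens) (e : Γ(E, U)) :
    (((Scheme.Modules.pullbackPushforwardAdjunction p).homEquiv E O1).symm φ).app (p ⁻¹ᵁ U)
      (LFFrame.unitSec p E U e) = te φ U e := by
  have h : (Scheme.Modules.pullbackPushforwardAdjunction p).unit.app E ≫
      (Scheme.Modules.pushforward p).map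
        (((Scheme.Modules.pullbackPushforwardAdjunction p).homEquiv E O1).symm φ) = φ := by
    exact ((Scheme.Modules.pullbackPushforwardAdjunction p).homEquiv_unit _ _ _).symm.trans
      (Equiv.apply_symm_apply _ _)
  exact ConcreteCategory.congr_hom (congrArg (fun f => Scheme.Modules.Hom.app f U) h) e

/-- The composite out of the pullback of `E` built from `r` and `τ`. -/
def compMap (φ : E ⟶ (Scheme.Modules.pushforward p).obj O1) {g : X ⟶ Y} {L : X.Modules} (r : X ⟶ P)
    (hr : r ≫ p = g) (τ : (Scheme.Modules.pullback r).obj O1 ⟶ L) : (Scheme.Modules.pullback g).obj E ⟶ L :=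
  (Scheme.Modules.pullbackCongr hr).inv.app E ≫ (Scheme.Modules.pullbackComp r p).inv.app E ≫
    (Scheme.Modules.pullback r).map
      (((Scheme.Modules.pullbackPushforwardAdjunction p).homEquiv E O1).symm φ) ≫ τ

lemma compMap_unitSec {g : X ⟶ Y} {L : X.Modules} (r : X ⟶ P) (hr : r ≫ p = g)
    (τ : (Scheme.Modules.pullback r).obj O1 ⟶ L) (U : Y.Opens) (e : Γ(E, U)) :
    (compMap φ r hr τ).app (g ⁻¹ᵁ U) (LFFrame.unitSec g E U e) =
      res L (le_preimage hr U) (τ.app _ (uSec φ r U e)) := by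
  subst hr
  refine Eq.trans ?_ (res_self L le_rfl _).symm
  let β := ((Scheme.Modules.pullbackPushforwardAdjunction p).homEquiv E O1).symm φ
  change τ.app _ (((Scheme.Modules.pullback r).map β).app _
    (((Scheme.Modules.pullbackComp r p).inv.app E).app _ (LFFrame.unitSec (r ≫ p) E U e))) = _
  rw [pullbackComp_inv_unitSec r p E U e, uSec, ← adj_unitSec φ U e]
  congr 1
  exact (ConcreteCategory.congr_hom (congrArg (fun f => Scheme.Modules.Hom.app f (p ⁻¹ᵁ U))
    ((Scheme.Modules.pullbackPushforwardAdjunction r).unit.naturality β))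
      (LFFrame.unitSec p E U e)).symm

lemma eq_of_unitSec {g : X ⟶ Y} {L : X.Modules} {s t : (Scheme.Modules.pullback g).obj E ⟶ L}
    (h : ∀ (U : Y.Opens), IsAffineOpen U → ∀ e : Γ(E, U),
      s.app (g ⁻¹ᵁ U) (LFFrame.unitSec g E U e) = t.app (g ⁻¹ᵁ U) (LFFrame.unitSec g E U e)) : s = t := by
  refine ((Scheme.Modules.pullbackPushforwardAdjunction g).homEquiv E L).injective
    (SymLib.hom_ext_affine fun U hU => ?_)
  ext e
  exact (vsec_adjMap s U e).trans ((h U hU e).trans (vsec_adjMap t U e).symm)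

lemma compMap_eq_iff {g : X ⟶ Y} {L : X.Modules} (r : X ⟶ P) (hr : r ≫ p = g)
    (τ : (Scheme.Modules.pullback r).obj O1 ⟶ L) (s : (Scheme.Modules.pullback g).obj E ⟶ L) :
    compMap φ r hr τ = s ↔ Compat φ (adjMap s) hr τ := by
  constructor
  · intro h U _ e
    subst hr
    refine Eq.trans ?_ (res_self L le_rfl _).symm
    rw [vsec_adjMap, ← h, compMap_unitSec]
    exact (res_self L le_rfl _).symm
  · intro h
    refine eq_of_unitSec fun U hU e => ?_
    rw [compMap_unitSec, h U hU e, res_res, res_self, vsec_adjMap]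

variable [E.IsQuasicoherent] {𝒮 : QCGrAlg Y} {j : E ⟶ 𝒮.toModule}
  {chart : ∀ (U : Y.Opens) (hU : IsAffineOpen U), ((p ⁻¹ᵁ U : P.Opens) : Scheme.{u}) ≅ Proj (𝒮.deg U hU)}
  {lam : ∀ (U : Y.Opens) (hU : IsAffineOpen U),
    O1 ⟶ (Scheme.Modules.pushforward (emb p chart U hU)).obj (GrTwist.twist (𝒮.deg U hU) 1)}
  (hj : IsGrSymAlg E 𝒮 j) (hP : IsRelProj 𝒮 p chart) (hO1 : IsRelTwist 𝒮 p chart 1 O1 lam)
  (hφ : IsCan j p chart lam φ)

include hj hO1 hφ in
/-- The canonical sections generate `O(1)`. -/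
theorem gens_can : Gens φ := fun U hU x hx => by
  obtain ⟨e₀, he⟩ := exists_mem_Dop (chart := chart) hj U hU hx
  exact ⟨e₀, Dop j p chart U hU e₀, he, Dop_le U hU e₀, isGen_te hj hO1 hφ U hU e₀⟩

include hj hP hO1 hφ in
/-- The universal property of `P(E)`. -/
theorem existsUnique_hom {g : X ⟶ Y} {L : X.Modules} (hL : PicF.IsInvertible L)
    (s : (Scheme.Modules.pullback g).obj E ⟶ L) (hs : Epi s) :
    ∃! r : X ⟶ P, ∃ (hr : r ≫ p = g) (τ : (Scheme.Modules.pullback r).obj O1 ≅ L),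
      compMap φ r hr τ.hom = s := by
  have hv := gens_of_epi hL s
  obtain ⟨r, hr, huniq⟩ := existsUnique_cls hj hP hv
  obtain ⟨τ, hτ⟩ := exists_compat hj hP hO1 hφ hv hr
  refine ⟨r, ⟨_, τ, (compMap_eq_iff _ _ _ _).2 hτ⟩, ?_⟩
  rintro r' ⟨hr', τ', h'⟩
  exact huniq r' (cls_of_compat hj hP hO1 hφ hr' τ' ((compMap_eq_iff _ _ _ _).1 h'))

end Groth.Agent.ProjBundleLib
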