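import Groth.Agent.ProjBundleLib.RelVA
import Groth.Agent.KFlat.PullTensor
import Groth.Agent.LimTop.TensorQC
import Groth.Agent.Props.GenTensor
import Groth.Agent.ProjTwist.Tensor

/-! Tensor products of generating maps. -/

noncomputable section

universe u

open CategoryTheory CategoryTheory.Limits AlgebraicGeometry TopologicalSpace Opposite
open RelProj Groth.Agent.QCoh Groth.Agent.Props.GenLocus Groth.Agent.KFlat.StalkTensor
open Groth.Agent.KFlat.PullTensor (tensMap_tmulSec pullTensor pullTensor_ηS)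

namespace Groth.Agent.ProjBundleLib

variable {Y X : Scheme.{u}} {g : X ⟶ Y} {E E' : Y.Modules} {L L' : X.Modules}

/-- The tensor product of two maps into direct images. -/
def tensV (v : E ⟶ (Scheme.Modules.pushforward g).obj L) (v' : E' ⟶ (Scheme.Modules.pushforward g).obj L') :
    CohB1.tensorMod E E' ⟶ (Scheme.Modules.pushforward g).obj (CohB1.tensorMod L L') :=
  adjMap (g := g) (E := tensM E E') (L := tensM L L')
    (pullTensor g E E' ≫ tensMap
      (((Scheme.Modules.pullbackPushforwardAdjunction g).homEquiv E L).symm v)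
      (((Scheme.Modules.pullbackPushforwardAdjunction g).homEquiv E' L').symm v'))

lemma vsec_symm (v : E ⟶ (Scheme.Modules.pushforward g).obj L) (U : Y.Opens) (e : Γ(E, U)) :
    (((Scheme.Modules.pullbackPushforwardAdjunction g).homEquiv E L).symm v).app (g ⁻¹ᵁ U)
      (LFFrame.unitSec g E U e) = vsec v U e :=
  adj_unitSec (p := g) v U e

lemma vsec_tens_aux (φ : E ⟶ (Scheme.Modules.pushforward g).obj L)
    (ψ : E' ⟶ (Scheme.Modules.pushforward g).obj L') (U : Y.Opens) (m : Γ(E, U)) (n : Γ(E', U)) :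
    (pullTensor g E E' ≫ tensMap
      (((Scheme.Modules.pullbackPushforwardAdjunction g).homEquiv E L).symm φ)
      (((Scheme.Modules.pullbackPushforwardAdjunction g).homEquiv E' L').symm ψ)).app (g ⁻¹ᵁ U)
        (LFFrame.unitSec g (tensM E E') U (tmulSec U m n)) = tmulSec (g ⁻¹ᵁ U) (vsec φ U m) (vsec ψ U n) := by
  rw [Scheme.Modules.Hom.comp_app, ConcreteCategory.comp_apply]
  erw [pullTensor_ηS g U m n, tensMap_tmulSec]
  exact congrArg₂ (tmulSec (g ⁻¹ᵁ U)) (vsec_symm φ U m) (vsec_symm ψ U n)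

lemma tmul_eq {U : X.Opens} (m : Γ(L, U)) (n : Γ(L', U)) : Props.GenTensor.tmul m n = tmulSec U m n := rfl

lemma vsec_tensV (v : E ⟶ (Scheme.Modules.pushforward g).obj L)
    (v' : E' ⟶ (Scheme.Modules.pushforward g).obj L') (U : Y.Opens) (m : Γ(E, U)) (n : Γ(E', U)) :
    vsec (tensV v v') U (Props.GenTensor.tmul m n) = Props.GenTensor.tmul (vsec v U m) (vsec v' U n) := by
  rw [tmul_eq, tmul_eq, tensV]
  exact (vsec_adjMap (g := g) (E := tensM E E') (L := tensM L L') _ U (tmulSec U m n)).trans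
    (vsec_tens_aux v v' U m n)

variable {v : E ⟶ (Scheme.Modules.pushforward g).obj L} {v' : E' ⟶ (Scheme.Modules.pushforward g).obj L'}

lemma Frame.tmul {U : Y.Opens} {e : Γ(E, U)} {e' : Γ(E', U)} {V : X.Opens} (h : Frame v U e V)
    (h' : Frame v' U e' V) : Frame (tensV v v') U (Props.GenTensor.tmul e e') V := by
  refine ⟨h.le, ?_⟩
  rw [vsec_tensV, Props.GenTensor.res_tmul]
  exact Props.GenTensor.isGen_tmul h.gen h'.gen

lemma gens_tensV (hv : Gens v) (hv' : Gens v') : Gens (tensV v v') := fun U hU x hx => by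
  obtain ⟨e, V, hxV, hf⟩ := hv U hU x hx
  obtain ⟨e', V', hxV', hf'⟩ := hv' U hU x hx
  exact ⟨_, V ⊓ V', ⟨hxV, hxV'⟩, (hf.restrict inf_le_left).tmul (hf'.restrict inf_le_right)⟩

lemma isUnit_of_mul_gen {W : X.Opens} {l : Γ(L, W)} {l' : Γ(L', W)} (hl : IsGen L W l) (hl' : IsGen L' W l')
    {a b : Γ(X, W)} (h : IsGen (CohB1.tensorMod L L') W (Props.GenTensor.tmul (a • l) (b • l'))) :
    IsUnit a := by
  obtain ⟨u, hu, he⟩ := Props.GenProd.exists_unit_smul (Props.GenTensor.isGen_tmul hl hl') h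
  rw [Props.GenTensor.tmul_smul_left, Props.GenTensor.tmul_smul_right, smul_smul] at he
  have h1 : a * b = u := (Props.GenTensor.isGen_tmul hl hl').injective le_rfl (by rw [res_self]; exact he)
  exact isUnit_of_mul_isUnit_left (h1 ▸ hu)

/-- Tensoring with a generating map preserves immersive classifying morphisms. -/
theorem clsImm_tensV [E.IsQuasicoherent] [E'.IsQuasicoherent] [(CohB1.tensorMod E E').IsQuasicoherent]
    (hL : PicF.IsInvertible L) (hL' : PicF.IsInvertible L') (hv : Gens v) (hv' : Gens v') (h : ClsImm v) :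
    ClsImm (tensV v v') := by
  refine clsImm_of_refine (gens_tensV hv hv') hv h fun x => ?_
  obtain ⟨U, hU, hx⟩ := exists_affine_mem (g := g) x
  obtain ⟨e, V, hxV, hf⟩ := hv U hU x hx
  obtain ⟨e', V', hxV', hf'⟩ := hv' U hU x hx
  refine ⟨U, hU, e, Props.GenTensor.tmul e e',
    AddMonoidHom.mk' (fun z => Props.GenTensor.tmul z e') fun a b => ?_,
    fun a z => Props.GenTensor.tmul_smul_left a z e', rfl,
    ⟨V ⊓ V', ⟨hxV, hxV'⟩, (hf.restrict inf_le_left).tmul (hf'.restrict inf_le_right)⟩, fun W hW => ?_,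
    fun W hW z c hc => ?_⟩
  · exact (tmulSec_add_left (U := U) a b e' :)
  · refine ⟨hW.le, IsGen.of_local fun y hy => ?_⟩
    obtain ⟨W₁, l, hy₁, hl⟩ := exists_isGen hL y
    obtain ⟨W₂, l', hy₂, hl'⟩ := exists_isGen hL' y
    let O : X.Opens := W ⊓ W₁ ⊓ W₂
    have hOW : O ≤ W := inf_le_left.trans inf_le_left
    have hl0 := hl.restrict (inf_le_left.trans inf_le_right : O ≤ W₁)
    have hl0' := hl'.restrict (inf_le_right : O ≤ W₂)
    obtain ⟨a, ha, -⟩ := hl0.exists_eq le_rfl (res L (hOW.trans hW.le) (vsec v U e))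
    obtain ⟨b, hb, -⟩ := hl0'.exists_eq le_rfl (res L' (hOW.trans hW.le) (vsec v' U e'))
    rw [res_self] at ha hb
    have hg := hW.gen.restrict hOW
    rw [res_res, vsec_tensV, Props.GenTensor.res_tmul, ha, hb] at hg
    refine ⟨O, hOW, ⟨⟨hy, hy₁⟩, hy₂⟩, ?_⟩
    rw [res_res, ha]
    exact hl0.smul_unit (isUnit_of_mul_gen hl0 hl0' hg)
  · change res _ hW (vsec (tensV v v') U (Props.GenTensor.tmul z e')) = _
    rw [vsec_tensV, vsec_tensV, Props.GenTensor.res_tmul, Props.GenTensor.res_tmul, hc,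
      Props.GenTensor.tmul_smul_left]

/-- Very ample tensor globally generated is very ample. -/
theorem isRelVeryAmple_tensor (hva : IsRelVeryAmple g L) (hL : PicF.IsInvertible L) (hL' : PicF.IsInvertible L')
    [E'.IsQuasicoherent] (hv' : Gens v') : IsRelVeryAmple g (CohB1.tensorMod L L') := by
  obtain ⟨E, hE, v, hv, h⟩ := exists_of_isRelVeryAmple hva
  have : (CohB1.tensorMod E E').IsQuasicoherent := LimTop.TensorQC.isQuasicoherent_tensM E E'
  exact isRelVeryAmple_of (gens_tensV hv hv') (clsImm_tensV hL hL' hv hv' h)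

end Groth.Agent.ProjBundleLib

namespace Groth.Agent.ProjBundleLib

variable {Y X : Scheme.{u}} {g : X ⟶ Y}

lemma isRelVeryAmple_of_iso {L L' : X.Modules} (e : L ≅ L') (h : IsRelVeryAmple g L) : IsRelVeryAmple g L' := by
  obtain ⟨E, hE, 𝒮, j, hj, P, p, chart, hP, O1, lam, hO1, i, hi, hip, ⟨τ⟩⟩ := h
  exact ⟨E, hE, 𝒮, j, hj, P, p, chart, hP, O1, lam, hO1, i, hi, hip, ⟨e.symm ≪≫ τ⟩⟩

/-- An invertible module pulled back from the base is generated by it. -/
lemma gens_pullback {K : Y.Modules} [K.IsQuasicoherent] (hK : PicF.IsInvertible K) :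
    Gens (adjMap (𝟙 ((Scheme.Modules.pullback g).obj K))) :=
  gens_of_epi (PicCl.isInvertible_pullback g hK) _

end Groth.Agent.ProjBundleLib
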