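import Groth.Agent.ProjBundleLib.Crit
import Groth.Agent.ProjBundleLib.Tensor

/-! Pairs of classifying morphisms forming an immersion. -/

noncomputable section

universe u

open CategoryTheory CategoryTheory.Limits AlgebraicGeometry TopologicalSpace Opposite
open HomogeneousLocalization
open RelProj Groth.Agent.QCoh Groth.Agent.Props.GenLocus

namespace Groth.Agent.ProjBundleLib

variable {Y X : Scheme.{u}} {g : X ⟶ Y} {E E' : Y.Modules} {L L' : X.Modules}
  {v : E ⟶ (Scheme.Modules.pushforward g).obj L} {v' : E' ⟶ (Scheme.Modules.pushforward g).obj L'}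

lemma gLoc_tmul (hL : PicF.IsInvertible L) (hL' : PicF.IsInvertible L') {U : Y.Opens} (e : Γ(E, U))
    (e' : Γ(E', U)) :
    gLoc (tensV v v') U (Props.GenTensor.tmul e e') = gLoc v U e ⊓ gLoc v' U e' := by
  refine le_antisymm ?_ (le_gLoc ((frame_gLoc.restrict inf_le_left).tmul (frame_gLoc.restrict inf_le_right)))
  intro y hy
  obtain ⟨W₁, l, hy₁, hl⟩ := exists_isGen hL y
  obtain ⟨W₂, l', hy₂, hl'⟩ := exists_isGen hL' y
  let O : X.Opens := gLoc (tensV v v') U (Props.GenTensor.tmul e e') ⊓ W₁ ⊓ W₂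
  have hOW : O ≤ gLoc (tensV v v') U (Props.GenTensor.tmul e e') := inf_le_left.trans inf_le_left
  have hO : O ≤ g ⁻¹ᵁ U := hOW.trans gLoc_le
  have hl0 := hl.restrict (inf_le_left.trans inf_le_right : O ≤ W₁)
  have hl0' := hl'.restrict (inf_le_right : O ≤ W₂)
  obtain ⟨a, ha, -⟩ := hl0.exists_eq le_rfl (res L hO (vsec v U e))
  obtain ⟨b, hb, -⟩ := hl0'.exists_eq le_rfl (res L' hO (vsec v' U e'))
  rw [res_self] at ha hb
  have hg := ((frame_gLoc (v := tensV v v') (U := U) (e := Props.GenTensor.tmul e e')).restrict hOW).gen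
  rw [vsec_tensV, Props.GenTensor.res_tmul, ha, hb] at hg
  have hua : IsUnit a := isUnit_of_mul_gen hl0 hl0' hg
  have hub : IsUnit b := by
    obtain ⟨u, hu, he⟩ := Props.GenProd.exists_unit_smul (Props.GenTensor.isGen_tmul hl0 hl0') hg
    rw [Props.GenTensor.tmul_smul_left, Props.GenTensor.tmul_smul_right, smul_smul] at he
    have h1 : a * b = u :=
      (Props.GenTensor.isGen_tmul hl0 hl0').injective le_rfl (by rw [res_self]; exact he)
    exact isUnit_of_mul_isUnit_right (h1 ▸ hu)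
  have f1 : Frame v U e O := ⟨hO, ha.symm ▸ hl0.smul_unit hua⟩
  have f2 : Frame v' U e' O := ⟨hO, hb.symm ▸ hl0'.smul_unit hub⟩
  exact ⟨le_gLoc f1 ⟨⟨hy, hy₁⟩, hy₂⟩, le_gLoc f2 ⟨⟨hy, hy₁⟩, hy₂⟩⟩

variable [E.IsQuasicoherent]

omit [E.IsQuasicoherent] in
lemma chartι_comp (B : Bundle E) {U : Y.Opens} (hU : IsAffineOpen U) (e : Γ(E, U)) :
    (Proj.awayι (B.alg.deg U hU) (el B.j U e) (el_mem B.hj hU e) one_pos ≫ emb B.p B.chart U hU) ≫ B.p =
      Spec.map (CommRingCat.ofHom ((fromZeroRingHom (B.alg.deg U hU) (Submonoid.powers (el B.j U e))).comp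
        (B.alg.strZero U hU).hom)) ≫ hU.fromSpec := by
  rw [Category.assoc, RelProjLib.emb_comp B.hP, ← Category.assoc, Proj.awayι_toSpecZero,
    CommRingCat.ofHom_comp, Spec.map_comp, CommRingCat.ofHom_hom, Category.assoc]

lemma restr_chartCo_mem (B : Bundle E) {U : Y.Opens} (hU : IsAffineOpen U) (e : Γ(E, U)) {W : X.Opens}
    (hW : W ≤ gLoc v U e) {T : Subring Γ(X, W)} (h0 : ∀ a, g.appLE U W (hW.trans gLoc_le) a ∈ T)
    (h1 : ∀ z c, res L (hW.trans gLoc_le) (vsec v U z) = c • res L (hW.trans gLoc_le) (vsec v U e) → c ∈ T)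
    (w : Away (B.alg.deg U hU) (el B.j U e)) :
    rres hW (chartCo B.hj U hU e (gLoc v U e) frame_gLoc w) ∈ T := by
  have h : chartCo B.hj U hU e (gLoc v U e) frame_gLoc w ∈ coefRing v U e (gLoc v U e) := by
    rw [← range_chartCo B.hj (hU := hU) frame_gLoc]
    exact ⟨w, rfl⟩
  refine (coefRing_le gLoc_le (T := T.comap (rres hW).hom) (fun a => ?_) fun z c hc => ?_) h
  · rw [Subring.mem_comap]
    convert h0 a using 1
    exact ConcreteCategory.congr_hom (g.appLE_map gLoc_le (homOfLE hW).op) a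
  · refine h1 z _ ?_
    have h2 := congrArg (res L hW) hc
    rw [res_smul, res_res, res_res] at h2
    exact h2

/-- If two classified morphisms jointly form an immersion, so does the tensor product's. -/
theorem clsImm_tensV_pair [E'.IsQuasicoherent] [(CohB1.tensorMod E E').IsQuasicoherent]
    (hL : PicF.IsInvertible L) (hL' : PicF.IsInvertible L') (hv : Gens v) (hv' : Gens v')
    (B : Bundle E) (B' : Bundle E') {r : X ⟶ B.P} {r' : X ⟶ B'.P}
    (hr : Cls B.hj (v := v) (chart := B.chart) r) (hr' : Cls B'.hj (v := v') (chart := B'.chart) r')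
    (π : X ⟶ pullback B.p B'.p) [IsImmersion π] (hπ₁ : π ≫ pullback.fst _ _ = r)
    (hπ₂ : π ≫ pullback.snd _ _ = r') : ClsImm (tensV v v') := by
  refine clsImm_of_subImm (gens_tensV hv hv') fun x => ?_
  obtain ⟨U, hU, hx⟩ := exists_affine_mem (g := g) x
  obtain ⟨e, V, hxV, hf⟩ := hv U hU x hx
  obtain ⟨e', V', hxV', hf'⟩ := hv' U hU x hx
  refine ⟨U, hU, Props.GenTensor.tmul e e', ?_, ?_⟩
  · rw [gLoc_tmul hL hL']
    exact ⟨le_gLoc hf hxV, le_gLoc hf' hxV'⟩
  rw [gLoc_tmul hL hL']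
  let W : X.Opens := gLoc v U e ⊓ gLoc v' U e'
  let S : Subring Γ(X, W) := coefRing (tensV v v') U (Props.GenTensor.tmul e e') W
  have hWU : W ≤ g ⁻¹ᵁ U := inf_le_left.trans gLoc_le
  let A : Away (B.alg.deg U hU) (el B.j U e) →+* S :=
    ((rres (inf_le_left : W ≤ gLoc v U e)).hom.comp (chartCo B.hj U hU e (gLoc v U e) frame_gLoc)).codRestrict S
      (restr_chartCo_mem B hU e inf_le_left (fun a => appLE_mem_coefRing hWU a) fun z c hc => by
        refine coef_mem_coefRing (z := Props.GenTensor.tmul z e') hWU ?_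
        rw [vsec_tensV, vsec_tensV, Props.GenTensor.res_tmul, Props.GenTensor.res_tmul, hc,
          Props.GenTensor.tmul_smul_left])
  let A' : Away (B'.alg.deg U hU) (el B'.j U e') →+* S :=
    ((rres (inf_le_right : W ≤ gLoc v' U e')).hom.comp (chartCo B'.hj U hU e' (gLoc v' U e') frame_gLoc)).codRestrict
      S (restr_chartCo_mem B' hU e' inf_le_right (fun a => appLE_mem_coefRing hWU a) fun z c hc => by
        refine coef_mem_coefRing (z := Props.GenTensor.tmul e z) hWU ?_
        rw [vsec_tensV, vsec_tensV, Props.GenTensor.res_tmul, Props.GenTensor.res_tmul, hc,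
          Props.GenTensor.tmul_smul_right])
  let m : (W : Scheme.{u}) ⟶ Spec (CommRingCat.of S) := W.toSpecΓ ≫ Spec.map (CommRingCat.ofHom S.subtype)
  let n₁ : Spec (CommRingCat.of S) ⟶ B.P := Spec.map (CommRingCat.ofHom A) ≫
    Proj.awayι (B.alg.deg U hU) (el B.j U e) (el_mem B.hj hU e) one_pos ≫ emb B.p B.chart U hU
  let n₂ : Spec (CommRingCat.of S) ⟶ B'.P := Spec.map (CommRingCat.ofHom A') ≫
    Proj.awayι (B'.alg.deg U hU) (el B'.j U e') (el_mem B'.hj hU e') one_pos ≫ emb B'.p B'.chart U hU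
  have hn : n₁ ≫ B.p = n₂ ≫ B'.p := by
    simp only [n₁, n₂, Category.assoc]
    rw [← Category.assoc (Proj.awayι _ _ _ _), chartι_comp B hU e, ← Category.assoc (Proj.awayι _ _ _ _),
      chartι_comp B' hU e', ← Spec.map_comp_assoc, ← Spec.map_comp_assoc]
    congr 2
    refine CommRingCat.hom_ext (RingHom.ext fun a => Subtype.ext ?_)
    simp only [CommRingCat.hom_comp, CommRingCat.hom_ofHom, RingHom.comp_apply, A, A']
    change rres _ (chartCo B.hj U hU e _ _ _) = rres _ (chartCo B'.hj U hU e' _ _ _)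
    rw [chartCo_zero, chartCo_zero]
    exact (ConcreteCategory.congr_hom (g.appLE_map gLoc_le (homOfLE (inf_le_left : W ≤ gLoc v U e)).op) a).trans
      (ConcreteCategory.congr_hom (g.appLE_map gLoc_le (homOfLE (inf_le_right : W ≤ gLoc v' U e')).op) a).symm
  let n := pullback.lift n₁ n₂ hn
  have key : m ≫ n = W.ι ≫ π := by
    apply pullback.hom_ext
    · simp only [n, Category.assoc, pullback.lift_fst, hπ₁]
      rw [hr U hU e W (frame_gLoc.restrict inf_le_left),
        ← homOfLE_chartMor B.hj (chart := B.chart) (p := B.p) (hU := hU) frame_gLoc (inf_le_left : W ≤ _),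
        chartMor, awayHom]
      simp only [m, n₁, Category.assoc]
      rw [← Scheme.Opens.toSpecΓ_SpecMap_presheaf_map_assoc W (gLoc v U e) inf_le_left,
        ← Spec.map_comp_assoc, ← Spec.map_comp_assoc]
      rfl
    · simp only [n, Category.assoc, pullback.lift_snd, hπ₂]
      rw [hr' U hU e' W (frame_gLoc.restrict inf_le_right),
        ← homOfLE_chartMor B'.hj (chart := B'.chart) (p := B'.p) (hU := hU) frame_gLoc (inf_le_right : W ≤ _),
        chartMor, awayHom]
      simp only [m, n₂, Category.assoc]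
      rw [← Scheme.Opens.toSpecΓ_SpecMap_presheaf_map_assoc W (gLoc v' U e') inf_le_right,
        ← Spec.map_comp_assoc, ← Spec.map_comp_assoc]
      rfl
  have : IsImmersion (m ≫ n) := by rw [key]; infer_instance
  exact IsImmersion.of_comp m n

end Groth.Agent.ProjBundleLib
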