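import Groth.Agent.ProjBundleLib.PushId
import Groth.Agent.ProjBundleLib.Pair
import Groth.Agent.AmpleLib.Counit
import Groth.Agent.AmpleLib.Rel
import Groth.Agent.RelProjLib.Preimage

/-! Very ample modules are relatively ample. -/

noncomputable section

universe u

open CategoryTheory CategoryTheory.Limits AlgebraicGeometry TopologicalSpace Opposite
open HomogeneousLocalization
open RelProj Groth.Agent.QCoh Groth.Agent.Props.GenLocus

namespace Groth.Agent.ProjBundleLib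

variable {Y X : Scheme.{u}}

/-- The second factor of a generating product generates. -/
lemma isGen_of_tmul {M N : X.Modules} (hM : PicF.IsInvertible M) (hN : PicF.IsInvertible N) {W : X.Opens}
    {a : Γ(M, W)} {b : Γ(N, W)} (h : IsGen (CohB1.tensorMod M N) W (Props.GenTensor.tmul a b)) : IsGen N W b := by
  refine IsGen.of_local fun y hy => ?_
  obtain ⟨W₁, l, hy₁, hl⟩ := exists_isGen hM y
  obtain ⟨W₂, l', hy₂, hl'⟩ := exists_isGen hN y
  let O : X.Opens := W ⊓ W₁ ⊓ W₂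
  have hOW : O ≤ W := inf_le_left.trans inf_le_left
  have hl0 := hl.restrict (inf_le_left.trans inf_le_right : O ≤ W₁)
  have hl0' := hl'.restrict (inf_le_right : O ≤ W₂)
  obtain ⟨x, hx, -⟩ := hl0.exists_eq le_rfl (res M hOW a)
  obtain ⟨z, hz, -⟩ := hl0'.exists_eq le_rfl (res N hOW b)
  rw [res_self] at hx hz
  have hg := h.restrict hOW
  rw [Props.GenTensor.res_tmul, hx, hz] at hg
  obtain ⟨u, hu, he⟩ := Props.GenProd.exists_unit_smul (Props.GenTensor.isGen_tmul hl0 hl0') hg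
  rw [Props.GenTensor.tmul_smul_left, Props.GenTensor.tmul_smul_right, smul_smul] at he
  have h1 : x * z = u :=
    (Props.GenTensor.isGen_tmul hl0 hl0').injective le_rfl (by rw [res_self]; exact he)
  exact ⟨O, hOW, ⟨⟨hy, hy₁⟩, hy₂⟩, hz.symm ▸ hl0'.smul_unit (isUnit_of_mul_isUnit_right (h1 ▸ hu))⟩

variable {g : X ⟶ Y} {E : Y.Modules} {L : X.Modules} {v : E ⟶ (Scheme.Modules.pushforward g).obj L}
  [E.IsQuasicoherent] {𝒮 : QCGrAlg Y} {j : E ⟶ 𝒮.toModule} (hj : IsGrSymAlg E 𝒮 j)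
include hj

/-- Combinations of products of sections as sections of tensor powers. -/
lemma exists_evalSec (U : Y.Opens) (hU : IsAffineOpen U) (e₀ : Γ(E, U)) (k : ℕ) (a : 𝒮.presheaf.obj (op U))
    (ha : a ∈ 𝒮.deg U hU k) :
    ∃ σ : Γ(CohB1.tensorPow L k, g ⁻¹ᵁ U), ∀ (G : X.Opens) (hf : Frame v U e₀ G),
      res _ hf.le σ = chartAlg hj U hU e₀ G hf a • Props.GenTensor.pw L (res L hf.le (vsec v U e₀)) k := by
  let := (𝒮.str.app (op U)).hom.toAlgebra
  have ha' := (SymLib.mem_deg_iff hj hU).1 ha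
  clear ha
  unfold SymLib.piece at ha'
  induction ha' using Submodule.pow_induction_on_left' with
  | algebraMap r =>
    refine ⟨(g.app U r : Γ(X, g ⁻¹ᵁ U)), fun G hf => ?_⟩
    refine Eq.trans ?_ (congrArg (· • Props.GenTensor.pw L _ 0) (chartAlg_str hj hf r).symm)
    change rres hf.le (g.app U r) = g.appLE U G hf.le r * (1 : Γ(X, G))
    rw [mul_one]
    rfl
  | add a b i _ _ iha ihb =>
    obtain ⟨σ, hσ⟩ := iha
    obtain ⟨τ, hτ⟩ := ihb
    refine ⟨σ + τ, fun G hf => ?_⟩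
    rw [map_add, hσ G hf, hτ G hf, map_add, add_smul]
  | mem_mul m hm i y _ ih =>
    obtain ⟨e, rfl⟩ := hm
    obtain ⟨σ, hσ⟩ := ih
    refine ⟨Props.GenTensor.tmul σ (vsec v U e), fun G hf => ?_⟩
    refine (Props.GenTensor.res_tmul hf.le σ _).trans ?_
    rw [hσ G hf, chartAlg_spec hj (hU := hU) hf e, Props.GenTensor.tmul_smul_left,
      Props.GenTensor.tmul_smul_right, smul_smul, mul_comm]
    exact congrArg (· • _) (map_mul (chartAlg hj U hU e₀ G hf) _ _).symm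

omit hj

/-- A classified morphism which is a topological embedding gives ampleness over affine opens. -/
theorem ampleOn_of_cls (hL : PicF.IsInvertible L) (hv : Gens v) (B : Bundle E) {r : X ⟶ B.P}
    (hr : Cls B.hj (v := v) (chart := B.chart) r) (hemb : Topology.IsInducing r)
    {U : Y.Opens} (hU : IsAffineOpen U) (hc : IsCompact ((g ⁻¹ᵁ U : X.Opens) : Set X)) :
    AmpleLib.AmpleOn L (g ⁻¹ᵁ U) := by
  refine ⟨hc, fun x hx => ?_⟩
  obtain ⟨W, hW, hxW, hWg⟩ := exists_isAffineOpen_mem_and_subset (X := X) (x := x) (U := g ⁻¹ᵁ U) hx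
  obtain ⟨e₀, V, hxV, hf⟩ := hv U hU x hx
  obtain ⟨Ω, hΩ, hΩW⟩ := hemb.isOpen_iff.1 W.2
  let G := gLoc v U e₀
  have hG : r ⁻¹ᵁ Dop B.j B.p B.chart U hU e₀ = G := preimage_Dop_eq_gLoc hv hr hU e₀
  let O : B.P.Opens := ⟨Ω, hΩ⟩ ⊓ Dop B.j B.p B.chart U hU e₀
  have hrO : r x ∈ O := ⟨hΩW.ge hxW, hG.ge (le_gLoc hf hxV)⟩
  have hrange : r x ∈ (emb B.p B.chart U hU).opensRange := Scheme.Hom.image_le_opensRange _ _ hrO.2
  obtain ⟨y, hy⟩ := hrange
  obtain ⟨d, hd, f, hfd, hfy, hfO⟩ := RelProjLib.exists_basicOpen_subset (p := B.p) (chart := B.chart) hU y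
    (O := O) (hy.symm ▸ hrO)
  obtain ⟨σ, hσ⟩ := exists_evalSec (v := v) B.hj U hU e₀ d f hfd
  refine ⟨d, Props.GenTensor.tmul σ (vsec v U e₀), ?_⟩
  let ρ : Γ(CohB1.tensorPow L (d + 1), g ⁻¹ᵁ U) := Props.GenTensor.tmul σ (vsec v U e₀)
  have hle : AmpleLib.locus ρ ≤ G := le_gLoc ⟨AmpleLib.locus_le ρ, isGen_of_tmul
    (AmpleLib.isInvertible_tensorPow hL d) hL (by
      have h := AmpleLib.isGen_locus ρ
      rwa [show res (CohB1.tensorPow L (d + 1)) (AmpleLib.locus_le ρ) ρ = _ from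
        Props.GenTensor.res_tmul (AmpleLib.locus_le ρ) σ (vsec v U e₀)] at h)⟩
  let c := chartAlg B.hj U hU e₀ G frame_gLoc f
  have hgen : IsGen (CohB1.tensorPow L (d + 1)) G (Props.GenTensor.pw L (res L gLoc_le (vsec v U e₀)) (d + 1)) :=
    Props.GenTensor.isGen_pw (frame_gLoc (v := v)).gen _
  have hGU : G ≤ g ⁻¹ᵁ U := gLoc_le
  have hρ : res _ hGU ρ = c • Props.GenTensor.pw L (res L hGU (vsec v U e₀)) (d + 1) := by
    refine (Props.GenTensor.res_tmul hGU σ _).trans ?_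
    rw [hσ G frame_gLoc, Props.GenTensor.tmul_smul_left]
    rfl
  have hloc : AmpleLib.locus ρ = X.basicOpen c := by
    rw [← AmpleLib.locus_inf hGU hgen ρ hρ, inf_eq_left.mpr hle]
  let ι' := emb B.p B.chart U hU
  have hpre : G.ι ⁻¹ᵁ (r ⁻¹ᵁ (ι' ''ᵁ Proj.basicOpen (B.alg.deg U hU) f)) = G.ι ⁻¹ᵁ X.basicOpen c := by
    rw [← Scheme.Hom.comp_preimage, hr U hU e₀ G frame_gLoc, chartMor, Scheme.Hom.comp_preimage,
      Scheme.Hom.preimage_image_eq, awayHom_preimage _ hfd hd]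
    exact congrArg (G.ι ⁻¹ᵁ ·) (liftAway_isLocalizationElem (hg := el_mem B.hj hU e₀) _ _ hfd one_pos)
  have hsub : r ⁻¹ᵁ (ι' ''ᵁ Proj.basicOpen (B.alg.deg U hU) f) ≤ G :=
    (r.preimage_mono (hfO.trans inf_le_right)).trans hG.le
  have heq : r ⁻¹ᵁ (ι' ''ᵁ Proj.basicOpen (B.alg.deg U hU) f) = X.basicOpen c := by
    have h := congrArg (G.ι ''ᵁ ·) hpre
    simp only [Scheme.Hom.image_preimage_eq_opensRange_inf, Scheme.Opens.opensRange_ι] at h
    rwa [inf_eq_right.mpr hsub, inf_eq_right.mpr (X.basicOpen_le c)] at h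
  refine ⟨?_, ?_⟩
  · change x ∈ AmpleLib.locus ρ
    rw [hloc, ← heq]
    exact ⟨y, hfy, hy⟩
  · refine AmpleLib.isAffineOpen_locus_of_le hL ρ hW hWg ?_
    rw [hloc, ← heq]
    intro z hz
    exact hΩW.le ((hfO hz).1)

/-- A generating map with embedding classified morphism makes the module relatively ample. -/
theorem isRelAmple_of_cls [QuasiCompact g] (hL : PicF.IsInvertible L) (hv : Gens v) (B : Bundle E) {r : X ⟶ B.P}
    (hr : Cls B.hj (v := v) (chart := B.chart) r) (hemb : Topology.IsInducing r) :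
    RelAmple.IsRelAmple g L :=
  AmpleLib.isRelAmple_iff.mpr ⟨inferInstance, hL, fun V =>
    ampleOn_of_cls hL hv B hr hemb V.2 (g.isCompact_preimage V.2.isCompact)⟩

theorem isRelAmple_of_isRelVeryAmple [QuasiCompact g] (hL : PicF.IsInvertible L) (h : IsRelVeryAmple g L) :
    RelAmple.IsRelAmple g L := by
  obtain ⟨E, hE, v, hv, B, r, hr, hi⟩ := exists_of_isRelVeryAmple h
  exact isRelAmple_of_cls hL hv B hr r.isEmbedding.isInducing

end Groth.Agent.ProjBundleLib
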