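import Groth.Agent.ProjBundleLib.VAmple
import Groth.Agent.AmpleLib.GenOn
import Groth.Agent.AmpleLib.Twist
import Groth.Agent.AmpleLib.CompLemma
import Groth.Agent.ProjTwist.Tensor
import Groth.Agent.ZeroSchemeLib.Basic

/-! Over an affine base large powers of an ample module, twisted, are very ample. -/

noncomputable section

universe u

open CategoryTheory CategoryTheory.Limits AlgebraicGeometry TopologicalSpace Opposite
open RelProj Groth.Agent.QCoh Groth.Agent.Props.GenLocus Groth.Agent.Props.GenProd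

namespace Groth.Agent.ProjBundleLib

variable {Y X : Scheme.{u}} {g : X ⟶ Y}

lemma subImm_top_of_isAffineOpen {W : X.Opens} (hW : IsAffineOpen W) : SubImm W (⊤ : Subring Γ(X, W)) := by
  have e : (⊤ : Subring Γ(X, W)) = (𝟙 Γ(X, W) : Γ(X, W) ⟶ Γ(X, W)).hom.range := by
    rw [eq_comm, RingHom.range_eq_top]
    exact fun a => ⟨a, rfl⟩
  rw [e, subImm_range_iff, Spec.map_id, Category.comp_id]
  have : IsIso W.toSpecΓ := by
    have : IsAffine W.toScheme := hW
    rw [Scheme.Opens.toSpecΓ]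
    infer_instance
  infer_instance

/-- Frames with affine loci and full coefficient rings make the direct image separate. -/
theorem isRelVeryAmple_of_frames [QuasiCompact g] [QuasiSeparated g] {M : X.Modules} (hM : PicF.IsInvertible M)
    (H : ∀ x : X, ∃ (U : Y.Opens) (_ : IsAffineOpen U) (e : Γ((Scheme.Modules.pushforward g).obj M, U)),
      x ∈ gLoc (𝟙 ((Scheme.Modules.pushforward g).obj M)) U e ∧
      IsAffineOpen (gLoc (𝟙 ((Scheme.Modules.pushforward g).obj M)) U e) ∧
      coefRing (𝟙 ((Scheme.Modules.pushforward g).obj M)) U e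
        (gLoc (𝟙 ((Scheme.Modules.pushforward g).obj M)) U e) = ⊤) :
    IsRelVeryAmple g M := by
  have := isQuasicoherent_push (g := g) hM
  have hv : Gens (𝟙 ((Scheme.Modules.pushforward g).obj M)) := gens_of_frames hM fun x => by
    obtain ⟨U, -, e, hx, -⟩ := H x
    exact ⟨U, e, _, hx, frame_gLoc⟩
  refine isRelVeryAmple_of hv (clsImm_of_subImm hv fun x => ?_)
  obtain ⟨U, hU, e, hx, haff, htop⟩ := H x
  exact ⟨U, hU, e, hx, htop ▸ subImm_top_of_isAffineOpen haff⟩

variable {U₀ : Y.Opens}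

/-- A frame with a given affine locus and coefficient ring containing given functions. -/
lemma frame_data {P Q : X.Modules} (hP : PicF.IsInvertible P) (hQ : PicF.IsInvertible Q) {E : Y.Modules}
    (v : E ⟶ (Scheme.Modules.pushforward g).obj (CohB1.tensorMod P Q)) (e : Γ(E, U₀)) {W : X.Opens}
    (hWU : W ≤ g ⁻¹ᵁ U₀) (s : Γ(Q, g ⁻¹ᵁ U₀)) (hW : W = AmpleLib.locus s) (ρ₀ : Γ(P, g ⁻¹ᵁ U₀))
    (hgen₀ : IsGen P W (res P hWU ρ₀)) (he : vsec v U₀ e = Props.GenTensor.tmul ρ₀ s) :
    gLoc v U₀ e = W ∧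
      ∀ (c : Γ(X, W)) (z : Γ(E, U₀)) (ρ : Γ(P, g ⁻¹ᵁ U₀)), vsec v U₀ z = Props.GenTensor.tmul ρ s →
        res P hWU ρ = c • res P hWU ρ₀ → c ∈ coefRing v U₀ e W := by
  have hsgen : IsGen Q W (res Q hWU s) := by
    have h := (AmpleLib.isGen_locus s).restrict hW.le
    rwa [res_res] at h
  refine ⟨le_antisymm (le_trans ?_ hW.ge) (le_gLoc ⟨hWU, ?_⟩), fun c z ρ hz hρ => ?_⟩
  · have h := (frame_gLoc (v := v) (U := U₀) (e := e)).gen
    rw [he, Props.GenTensor.res_tmul] at h
    exact AmpleLib.le_locus gLoc_le (isGen_of_tmul hP hQ h)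
  · rw [he, Props.GenTensor.res_tmul]
    exact Props.GenTensor.isGen_tmul hgen₀ hsgen
  · refine coef_mem_coefRing (z := z) hWU ?_
    rw [hz, he, Props.GenTensor.res_tmul, Props.GenTensor.res_tmul, hρ, Props.GenTensor.tmul_smul_left]

lemma coef_eq_smul {P : X.Modules} {W : X.Opens} (hu : Γ(X, W)) (q : Γ(P, W)) (b : Γ(X, W)) :
    Props.GenTensor.tmul (M := Coh.structureModule X) (hu • (id b : Γ(Coh.structureModule X, W))) q =
      b • Props.GenTensor.tmul (M := Coh.structureModule X) (hu • (id (1 : Γ(X, W)) : Γ(Coh.structureModule X, W))) q := by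
  rw [← Props.GenTensor.tmul_smul_left, smul_smul, mul_comm, ← smul_smul]
  refine congrArg (fun t => Props.GenTensor.tmul (hu • t) q) ?_
  exact (mul_one b).symm

lemma isUnit_co {L : X.Modules} {k : ℕ} {W O : X.Opens} (s : Γ(CohB1.tensorPow L k, O)) (hW : W = AmpleLib.locus s)
    (hWO : W ≤ O) {e : Γ(L, W)} (he : IsGen L W e) : IsUnit (co k s hWO he) := by
  have h := (AmpleLib.isGen_locus s).restrict hW.le
  rw [res_res] at h
  obtain ⟨u, hu, hue⟩ := exists_unit_smul (Props.GenTensor.isGen_pw he k) h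
  exact (co_unique _ _ _ hue) ▸ hu

/-- Some positive power of an ample module is very ample over an affine base. -/
theorem exists_veryAmple_pow [IsAffine Y] [LocallyOfFiniteType g] [QuasiCompact g] {L : X.Modules}
    (hL : PicF.IsInvertible L) (hA : RelAmple.IsRelAmple g L) :
    ∃ N, 0 < N ∧ IsRelVeryAmple g (CohB1.tensorMod (Coh.structureModule X) (CohB1.tensorPow L N)) := by
  classical
  let O : X.Opens := g ⁻¹ᵁ ⊤
  have hO : AmpleLib.AmpleOn L O := (AmpleLib.isRelAmple_iff.mp hA).2.2 ⟨⊤, isAffineOpen_top Y⟩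
  have hsep : IsSeparated g := by
    have := AmpleLib.isSeparated_of_isAmple ((AmpleLib.isRelAmple_iff_isAmple g).mp hA)
    have : IsSeparated (g ≫ terminal.from Y) := by
      rw [terminal.hom_ext (g ≫ terminal.from Y) (terminal.from X)]; infer_instance
    exact IsSeparated.of_comp g (terminal.from Y)
  have hqs : IsQuasiSeparated (O : Set X) := g.isQuasiSeparated_preimage (isAffineOpen_top Y).isQuasiSeparated
  obtain ⟨n, k, s, W, hk, hW, hWO, hWa, he, hcov⟩ := AmpleLib.exists_common_cover_on hL hO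
  choose e he using he
  have hO1 := ProjTwist.isQuasicoherent_structureModule X
  have hgenW : ∀ i, ∃ (d : ℕ) (b : Fin d → Γ(X, W i)),
      ∀ T : Subring Γ(X, W i), (∀ a, g.appLE ⊤ (W i) (hWO i) a ∈ T) → (∀ j, b j ∈ T) → T = ⊤ := by
    intro i
    have hft := g.finiteType_appLE (isAffineOpen_top Y) (hWa i) (hWO i)
    let := (g.appLE ⊤ (W i) (hWO i)).hom.toAlgebra
    obtain ⟨t, ht⟩ := (hft : Algebra.FiniteType Γ(Y, ⊤) Γ(X, W i)).out
    refine ⟨t.card, fun j => (t.equivFin.symm j).1, fun T h0 h1 => eq_top_iff.2 fun z _ => ?_⟩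
    have hz : z ∈ Algebra.adjoin Γ(Y, ⊤) (t : Set Γ(X, W i)) := ht.ge trivial
    induction hz using Algebra.adjoin_induction with
    | mem a ha =>
      have := h1 (t.equivFin ⟨a, ha⟩)
      simpa using this
    | algebraMap a => exact h0 a
    | add a b _ _ ha hb => exact add_mem (ha trivial) (hb trivial)
    | mul a b _ _ ha hb => exact mul_mem (ha trivial) (hb trivial)
  choose d b hb using hgenW
  let σ' : ∀ p : Σ i : Fin n, Option (Fin (d i)), Γ(Coh.structureModule X, W p.1) := fun p =>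
    p.2.elim (1 : Γ(X, W p.1)) (b p.1)
  choose N hN using fun p : Σ i : Fin n, Option (Fin (d i)) =>
    AmpleLib.exists_twist_on hO1 hL hO.1 hqs (s p.1) (hW p.1) (hWO p.1) (he p.1) (σ' p) 0
  let m : ℕ := Finset.univ.sup N
  have hNm : ∀ p, N p ≤ m := fun p => Finset.le_sup (Finset.mem_univ p)
  choose ρ hρ using fun p => hN p m (hNm p)
  let P := CohB1.tensorMod (Coh.structureModule X) (CohB1.tensorPow L (0 + k * m))
  let M := CohB1.tensorMod P (CohB1.tensorPow L k)
  have hP : PicF.IsInvertible P := AmpleLib.isInvertible_tensorMod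
    (AmpleLib.isInvertible_tensorPow hL 0) (AmpleLib.isInvertible_tensorPow hL _)
  have hLk := AmpleLib.isInvertible_tensorPow hL k
  have hM : PicF.IsInvertible M := AmpleLib.isInvertible_tensorMod hP hLk
  have hva : IsRelVeryAmple g M := by
    refine isRelVeryAmple_of_frames hM fun x => ?_
    obtain ⟨i, hxi⟩ := Opens.mem_iSup.mp (hcov (show x ∈ O from trivial))
    have hgen₀ : IsGen P (W i) (res _ (hWO i) (ρ ⟨i, none⟩)) := by
      rw [hρ ⟨i, none⟩, Props.GenTensor.tmul_smul_left]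
      exact (Props.GenTensor.isGen_tmul (Props.GenTensor.isGen_one (X := X) (W i))
        (Props.GenTensor.isGen_pw (he i) _)).smul_unit ((isUnit_co (s i) (hW i) (hWO i) (he i)).pow m)
    obtain ⟨hloc, hcoef⟩ := frame_data (g := g) (U₀ := ⊤) hP hLk
      (𝟙 ((Scheme.Modules.pushforward g).obj M))
      (id (Props.GenTensor.tmul (ρ ⟨i, none⟩) (s i)) : Γ(M, g ⁻¹ᵁ ⊤))
      (hWO i) (s i) (hW i) (ρ ⟨i, none⟩) hgen₀ rfl
    refine ⟨⊤, isAffineOpen_top Y, _, hloc.ge hxi, hloc ▸ hWa i, ?_⟩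
    rw [hloc]
    refine hb i _ (fun a => appLE_mem_coefRing (hWO i) a) fun j => hcoef (b i j)
      (id (Props.GenTensor.tmul (ρ ⟨i, some j⟩) (s i)) : Γ(M, g ⁻¹ᵁ ⊤)) (ρ ⟨i, some j⟩) rfl ?_
    rw [hρ ⟨i, some j⟩, hρ ⟨i, none⟩]
    exact coef_eq_smul _ _ _
  obtain ⟨φ⟩ := AmpleLib.exists_iso_tensor_pow_add (AmpleLib.isInvertible_tensorPow hL 0) hL (0 + k * m) k
  exact ⟨0 + k * m + k, by omega, isRelVeryAmple_of_iso φ hva⟩

/-- Large twisted powers are generated by their direct images. -/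
theorem eventually_gens [IsAffine Y] [QuasiCompact g] [QuasiSeparated g] {L : X.Modules} (hL : PicF.IsInvertible L)
    (hA : RelAmple.IsRelAmple g L) {F : X.Modules} (hF : PicF.IsInvertible F) :
    ∃ n₀ : ℕ, ∀ n, n₀ ≤ n →
      Gens (𝟙 ((Scheme.Modules.pushforward g).obj (CohB1.tensorMod F (CohB1.tensorPow L n)))) := by
  let O : X.Opens := g ⁻¹ᵁ ⊤
  have hO : AmpleLib.AmpleOn L O := (AmpleLib.isRelAmple_iff.mp hA).2.2 ⟨⊤, isAffineOpen_top Y⟩
  have hqs : IsQuasiSeparated (O : Set X) := g.isQuasiSeparated_preimage (isAffineOpen_top Y).isQuasiSeparated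
  obtain ⟨n₀, hn₀⟩ := AmpleLib.eventually_spanAt hL hO hqs (ProjTwist.isQCoh_of_isInvertible hF)
    (by have := ProjTwist.isQCoh_of_isInvertible hF; exact ZeroSchemeLib.isFiniteType_of_isInvertible hF)
  refine ⟨n₀, fun n hn => ?_⟩
  have hG := AmpleLib.isInvertible_tensorMod hF (AmpleLib.isInvertible_tensorPow hL n)
  have := isQuasicoherent_push (g := g) hG
  have : Epi ((Scheme.Modules.pullbackPushforwardAdjunction g).counit.app
      (CohB1.tensorMod F (CohB1.tensorPow L n))) :=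
    AmpleLib.epi_counit_of_spanAt g fun x => ⟨⊤, trivial, fun V hV m => hn₀ n hn x trivial V hV m⟩
  have h := gens_of_epi hG ((Scheme.Modules.pullbackPushforwardAdjunction g).counit.app
    (CohB1.tensorMod F (CohB1.tensorPow L n)))
  rwa [adjMap, Adjunction.homEquiv_unit, Adjunction.right_triangle_components] at h

/-- Over an affine base, `L^n ⊗ L'` is very ample for large `n`. -/
theorem eventually_veryAmple [IsAffine Y] [LocallyOfFiniteType g] [QuasiCompact g] {L L' : X.Modules}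
    (hL : PicF.IsInvertible L) (hL' : PicF.IsInvertible L') (hA : RelAmple.IsRelAmple g L) :
    ∃ n₀ : ℕ, ∀ n, n₀ ≤ n → IsRelVeryAmple g (CohB1.tensorMod (CohB1.tensorPow L n) L') := by
  obtain ⟨N, hN, hva⟩ := exists_veryAmple_pow hL hA
  have : IsSeparated g := isSeparated_of_isRelVeryAmple hva
  obtain ⟨n₁, hn₁⟩ := eventually_gens hL hA hL'
  refine ⟨N + n₁, fun n hn => ?_⟩
  obtain ⟨l, rfl⟩ : ∃ l, n = N + l := ⟨n - N, by omega⟩
  have hv := hn₁ l (by omega)
  have hG := AmpleLib.isInvertible_tensorMod hL' (AmpleLib.isInvertible_tensorPow hL l)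
  have := isQuasicoherent_push (g := g) hG
  have h := isRelVeryAmple_tensor hva
    (AmpleLib.isInvertible_tensorMod (AmpleLib.isInvertible_tensorPow hL 0) (AmpleLib.isInvertible_tensorPow hL N))
    hG hv
  obtain ⟨φ⟩ := AmpleLib.exists_iso_tensor_pow_add hL' hL l N
  exact isRelVeryAmple_of_iso
    (ProjTwist.tensCongr (ProjTwist.oneTens _) (Iso.refl _) ≪≫ ProjTwist.tensComm _ _ ≪≫ φ ≪≫
      ProjTwist.tensCongr (Iso.refl _) (eqToIso (by rw [Nat.add_comm])) ≪≫ ProjTwist.tensComm _ _) h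

end Groth.Agent.ProjBundleLib
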