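import Groth.Agent.ProjBundleLib.Crit
import Groth.Agent.QCoh.Qcqs
import Groth.Agent.ProjTwist.Invertible

/-! Very ampleness through the direct image. -/

noncomputable section

universe u

open CategoryTheory CategoryTheory.Limits AlgebraicGeometry TopologicalSpace Opposite
open RelProj Groth.Agent.QCoh Groth.Agent.Props.GenLocus

namespace Groth.Agent.ProjBundleLib

variable {Y X : Scheme.{u}} {g : X ⟶ Y} {L : X.Modules}

lemma isSeparated_of_isRelVeryAmple (h : IsRelVeryAmple g L) : IsSeparated g := by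
  obtain ⟨E, hE, 𝒮, j, hj, P, p, chart, hP, O1, lam, hO1, i, hi, hip, -⟩ := h
  have : IsSeparated p := RelProjLib.property_of_charts @IsSeparated hP fun U hU => by infer_instance
  rw [← hip]
  infer_instance

lemma isQuasicoherent_push [QuasiCompact g] [QuasiSeparated g] (hL : PicF.IsInvertible L) :
    ((Scheme.Modules.pushforward g).obj L).IsQuasicoherent := by
  have : L.IsQuasicoherent := ProjTwist.isQCoh_of_isInvertible hL
  exact QCoh.isQuasicoherent_pushforward g L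

/-- Sections through a larger module still separate. -/
theorem gens_clsImm_of_comp {E E' : Y.Modules} [E.IsQuasicoherent] [E'.IsQuasicoherent]
    (hL : PicF.IsInvertible L) {a : E ⟶ E'} {v' : E' ⟶ (Scheme.Modules.pushforward g).obj L}
    (hv : Gens (a ≫ v')) (h : ClsImm (a ≫ v')) : Gens v' ∧ ClsImm v' := by
  have hv' : Gens v' := gens_of_frames hL fun x => by
    obtain ⟨U, hU, hx⟩ := exists_affine_mem (g := g) x
    obtain ⟨e, V, hxV, hf⟩ := hv U hU x hx
    exact ⟨U, a.app U e, V, hxV, hf⟩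
  refine ⟨hv', clsImm_of_subImm hv' fun x => ?_⟩
  obtain ⟨U, hU, hx⟩ := exists_affine_mem (g := g) x
  obtain ⟨e, V, hxV, hf⟩ := hv U hU x hx
  refine ⟨U, hU, a.app U e, le_gLoc (v := v') (e := a.app U e) hf hxV, ?_⟩
  refine (subImm_of_clsImm hv h hU e).mono ?_
  exact coefRing_le gLoc_le (fun r => appLE_mem_coefRing gLoc_le r)
    fun z c hc => coef_mem_coefRing (z := a.app U z) gLoc_le hc

/-- A very ample module has separating sections in its direct image. -/
theorem push_of_isRelVeryAmple [QuasiCompact g] (hL : PicF.IsInvertible L) (h : IsRelVeryAmple g L) :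
    ∃ _ : ((Scheme.Modules.pushforward g).obj L).IsQuasicoherent,
      Gens (𝟙 ((Scheme.Modules.pushforward g).obj L)) ∧ ClsImm (𝟙 ((Scheme.Modules.pushforward g).obj L)) := by
  have : IsSeparated g := isSeparated_of_isRelVeryAmple h
  have := isQuasicoherent_push (g := g) hL
  obtain ⟨E, hE, v, hv, hi⟩ := exists_of_isRelVeryAmple h
  refine ⟨this, gens_clsImm_of_comp (a := v) (v' := 𝟙 _) hL ?_ ?_⟩
  all_goals simpa using (by assumption)

theorem epi_counit_of_isRelVeryAmple [QuasiCompact g] (hL : PicF.IsInvertible L) (h : IsRelVeryAmple g L) :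
    Epi ((Scheme.Modules.pullbackPushforwardAdjunction g).counit.app L) := by
  obtain ⟨_, hv, -⟩ := push_of_isRelVeryAmple hL h
  refine epi_of_gens ?_
  rw [adjMap, Adjunction.homEquiv_unit, Adjunction.right_triangle_components]
  exact hv

section transfer

variable {Y' X' : Scheme.{u}} {κ : X' ⟶ X} [IsOpenImmersion κ] {ι : Y' ⟶ Y} [IsOpenImmersion ι]
  {g' : X' ⟶ Y'}

omit [IsOpenImmersion ι] in
lemma subImm_image {G : X'.Opens} {S : Subring Γ(X', G)} (h : SubImm G S) :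
    SubImm (κ ''ᵁ G) (S.map (κ.appIso G).inv.hom) := by
  have e1 : S.map (κ.appIso G).inv.hom = (CommRingCat.ofHom S.subtype ≫ (κ.appIso G).inv).hom.range := by
    rw [CommRingCat.hom_comp, RingHom.range_eq_map, ← Subring.map_map, CommRingCat.hom_ofHom,
      ← RingHom.range_eq_map, Subring.range_subtype]
  rw [e1, subImm_range_iff, Spec.map_comp, ← Category.assoc]
  have hle : G ≤ κ ⁻¹ᵁ (κ ''ᵁ G) := (Scheme.Hom.preimage_image_eq _ _).ge
  have hiso : IsIso (κ.resLE (κ ''ᵁ G) G hle) := by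
    have : κ.resLE (κ ''ᵁ G) G hle = (κ.isoImage G).hom := by
      rw [← cancel_mono (κ ''ᵁ G).ι, Scheme.Hom.resLE_comp_ι, Scheme.Hom.isoImage_hom_ι]
    rw [this]
    infer_instance
  have key : κ.resLE (κ ''ᵁ G) G hle ≫ ((κ ''ᵁ G).toSpecΓ ≫ Spec.map (κ.appIso G).inv) = G.toSpecΓ := by
    rw [← Scheme.Opens.toSpecΓ_SpecMap_appLE_assoc κ (κ ''ᵁ G) G hle, ← Spec.map_comp]
    have e : (κ.appIso G).inv ≫ κ.appLE (κ ''ᵁ G) G hle = 𝟙 _ := by
      rw [Scheme.Hom.appIso_inv_appLE]; simp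
    rw [e, Spec.map_id, Category.comp_id]
  have h' : IsImmersion (G.toSpecΓ ≫ Spec.map (CommRingCat.ofHom S.subtype)) := h
  have e2 : ((κ ''ᵁ G).toSpecΓ ≫ Spec.map (κ.appIso G).inv) ≫ Spec.map (CommRingCat.ofHom S.subtype) =
      inv (κ.resLE (κ ''ᵁ G) G hle) ≫ G.toSpecΓ ≫ Spec.map (CommRingCat.ofHom S.subtype) := by
    rw [← key]; simp
  rw [e2]
  infer_instance

lemma isGen_restrict_iff {W : X'.Opens} (s : Γ(L.restrict κ, W)) :
    IsGen (L.restrict κ) W s ↔ IsGen L (κ ''ᵁ W) ((L.restrictAppIso κ W).hom s) := by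
  have key : ∀ {W' : X'.Opens} (h : W' ≤ W), sm ((L.restrictAppIso κ W).hom s) (κ.image_mono h) ∘
      ((κ.appIso W').inv : _ → _) = ((L.restrictAppIso κ W').hom : _ → _) ∘ sm s h := by
    intro W' h
    funext a
    simp only [Function.comp_apply, sm]
    rw [restrict_smul, restrict_res]
  constructor
  · intro hs O hO
    obtain ⟨W', rfl⟩ : ∃ W', κ ''ᵁ W' = O :=
      ⟨κ ⁻¹ᵁ O, (κ.image_preimage_eq_opensRange_inf _).trans
        (inf_eq_right.mpr (hO.trans (Scheme.Hom.image_le_opensRange _ _)))⟩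
    have h : W' ≤ W := by
      have := κ.preimage_mono hO
      rwa [Scheme.Hom.preimage_image_eq, Scheme.Hom.preimage_image_eq] at this
    have hb := (ConcreteCategory.bijective_of_isIso (L.restrictAppIso κ W').hom).comp (hs W' h)
    rw [← key h] at hb
    exact (Function.Bijective.of_comp_iff _ (ConcreteCategory.bijective_of_isIso _)).mp hb
  · intro hs W' h
    have hb := (hs _ (κ.image_mono h)).comp (ConcreteCategory.bijective_of_isIso (κ.appIso W').inv)
    rw [key h] at hb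
    exact (Function.Bijective.of_comp_iff' (ConcreteCategory.bijective_of_isIso _) _).mp hb

section piece

variable {E : Y'.Modules} {v : E ⟶ (Scheme.Modules.pushforward g').obj (L.restrict κ)}
  (hpre : ∀ W : Y'.Opens, g ⁻¹ᵁ (ι ''ᵁ W) ≤ κ ''ᵁ (g' ⁻¹ᵁ W))
include hpre

/-- A section over a piece of the base as a section of the direct image. -/
def up (v : E ⟶ (Scheme.Modules.pushforward g').obj (L.restrict κ)) (U : Y'.Opens) (z : Γ(E, U)) :
    Γ((Scheme.Modules.pushforward g).obj L, ι ''ᵁ U) :=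
  res L (hpre U) ((L.restrictAppIso κ _).hom (vsec v U z))

variable {U : Y'.Opens}

set_option linter.unusedSectionVars false

lemma res_up {W : X'.Opens} (hW : W ≤ g' ⁻¹ᵁ U) (hW' : κ ''ᵁ W ≤ g ⁻¹ᵁ (ι ''ᵁ U)) (z : Γ(E, U)) :
    res L hW' (vsec (𝟙 _) (ι ''ᵁ U) (up hpre v U z)) =
      (L.restrictAppIso κ W).hom (res (L.restrict κ) hW (vsec v U z)) := by
  change res L hW' (res L (hpre U) _) = _
  rw [res_res, restrict_res]

lemma image_le (hsq : g' ≫ ι = κ ≫ g) (U : Y'.Opens) : κ ''ᵁ (g' ⁻¹ᵁ U) ≤ g ⁻¹ᵁ (ι ''ᵁ U) := by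
  rintro _ ⟨y, hy, rfl⟩
  exact ⟨g' y, hy, congr(($hsq) y)⟩

lemma gLoc_up (hsq : g' ≫ ι = κ ≫ g) (e : Γ(E, U)) :
    gLoc (𝟙 ((Scheme.Modules.pushforward g).obj L)) (ι ''ᵁ U) (up hpre v U e) = κ ''ᵁ gLoc v U e := by
  refine le_antisymm ?_ (le_gLoc ?_)
  · let O : X.Opens := gLoc (𝟙 ((Scheme.Modules.pushforward g).obj L)) (ι ''ᵁ U) (up hpre v U e)
    have hsub : O ≤ κ ''ᵁ (g' ⁻¹ᵁ U) := gLoc_le.trans (hpre U)
    have hO : κ ''ᵁ (κ ⁻¹ᵁ O) = O := (κ.image_preimage_eq_opensRange_inf _).trans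
      (inf_eq_right.mpr (hsub.trans (Scheme.Hom.image_le_opensRange _ _)))
    refine hO.ge.trans (κ.image_mono (le_gLoc ?_))
    have hW : κ ⁻¹ᵁ O ≤ g' ⁻¹ᵁ U := (κ.preimage_mono hsub).trans (Scheme.Hom.preimage_image_eq _ _).le
    refine ⟨hW, (isGen_restrict_iff _).2 ?_⟩
    rw [← res_up hpre hW ((κ.image_mono hW).trans (image_le hpre hsq U)) e]
    exact ((frame_gLoc (v := 𝟙 ((Scheme.Modules.pushforward g).obj L)) (U := ι ''ᵁ U)
      (e := up hpre v U e)).restrict hO.le).gen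
  · have hW' : κ ''ᵁ gLoc v U e ≤ g ⁻¹ᵁ (ι ''ᵁ U) := (κ.image_mono gLoc_le).trans (image_le hpre hsq U)
    refine ⟨hW', ?_⟩
    rw [res_up hpre gLoc_le hW']
    exact (isGen_restrict_iff _).1 frame_gLoc.gen

lemma map_appLE_piece (hsq : g' ≫ ι = κ ≫ g) {G : X'.Opens} (hG : G ≤ g' ⁻¹ᵁ U)
    (hG' : κ ''ᵁ G ≤ g ⁻¹ᵁ (ι ''ᵁ U)) (a : Γ(Y', U)) :
    (κ.appIso G).inv (g'.appLE U G hG a) = g.appLE (ι ''ᵁ U) (κ ''ᵁ G) hG' ((ι.appIso U).inv a) := by
  have e1 : g'.appLE U G hG ≫ (κ.appIso G).inv = (ι.appIso U).inv ≫ g.appLE (ι ''ᵁ U) (κ ''ᵁ G) hG' := by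
    rw [Iso.comp_inv_eq, Category.assoc, Iso.eq_inv_comp, Scheme.Hom.appIso_hom', Scheme.Hom.appIso_hom',
      Scheme.Hom.appLE_comp_appLE, Scheme.Hom.appLE_comp_appLE]
    simp only [hsq]
  exact congr($e1 a)

lemma map_coefRing_le (hsq : g' ≫ ι = κ ≫ g) (e : Γ(E, U)) (G : X'.Opens) (hG : G ≤ g' ⁻¹ᵁ U) :
    (coefRing v U e G).map (κ.appIso G).inv.hom ≤
      coefRing (𝟙 ((Scheme.Modules.pushforward g).obj L)) (ι ''ᵁ U) (up hpre v U e) (κ ''ᵁ G) := by
  rw [Subring.map_le_iff_le_comap]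
  have hG' : κ ''ᵁ G ≤ g ⁻¹ᵁ (ι ''ᵁ U) := (κ.image_mono hG).trans (image_le hpre hsq U)
  refine coefRing_le hG (fun a => ?_) fun z c hc => ?_
  · simp only [Subring.mem_comap]
    rw [map_appLE_piece hpre hsq hG hG']
    exact appLE_mem_coefRing hG' _
  · simp only [Subring.mem_comap]
    refine coef_mem_coefRing (z := up hpre v U z) hG' ?_
    rw [res_up hpre hG hG', res_up hpre hG hG', hc]
    exact restrict_smul κ L c _

/-- Separating sections on an open piece of the base give separating sections of the direct image. -/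
lemma exists_frame_push [E.IsQuasicoherent] (hsq : g' ≫ ι = κ ≫ g) (hv : Gens v) (hi : ClsImm v) (x' : X') :
    ∃ (U : Y.Opens) (_ : IsAffineOpen U) (e : Γ((Scheme.Modules.pushforward g).obj L, U)),
      κ x' ∈ gLoc (𝟙 ((Scheme.Modules.pushforward g).obj L)) U e ∧
        SubImm (gLoc (𝟙 ((Scheme.Modules.pushforward g).obj L)) U e)
          (coefRing (𝟙 ((Scheme.Modules.pushforward g).obj L)) U e
            (gLoc (𝟙 ((Scheme.Modules.pushforward g).obj L)) U e)) := by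
  obtain ⟨U, hU, hx⟩ := exists_affine_mem (g := g') x'
  obtain ⟨e, V, hxV, hf⟩ := hv U hU x' hx
  refine ⟨ι ''ᵁ U, hU.image_of_isOpenImmersion ι, up hpre v U e, ?_, ?_⟩
  · rw [gLoc_up hpre hsq]
    exact ⟨x', le_gLoc hf hxV, rfl⟩
  · rw [gLoc_up hpre hsq]
    exact (subImm_image (subImm_of_clsImm hv hi hU e)).mono (map_coefRing_le hpre hsq e _ gLoc_le)

end piece

end transfer

end Groth.Agent.ProjBundleLib
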