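import Groth.Agent.ProjBundleLib.RelVA

/-! Base change of projective bundles. -/

noncomputable section

universe u

open CategoryTheory CategoryTheory.Limits AlgebraicGeometry TopologicalSpace Opposite
open RelProj Groth.Agent.QCoh Groth.Agent.Props.GenLocus

namespace Groth.Agent.ProjBundleLib

section sComp

variable {Y Y' X : Scheme.{u}} {E : Y.Modules} {ψ : Y' ⟶ Y} {f : X ⟶ Y'} {L : X.Modules}

/-- A map out of an iterated inverse image as a map out of the inverse image along the composite. -/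
def sComp (s : (Scheme.Modules.pullback f).obj ((Scheme.Modules.pullback ψ).obj E) ⟶ L) :
    (Scheme.Modules.pullback (f ≫ ψ)).obj E ⟶ L :=
  (Scheme.Modules.pullbackComp f ψ).inv.app E ≫ s

lemma sComp_unitSec (s : (Scheme.Modules.pullback f).obj ((Scheme.Modules.pullback ψ).obj E) ⟶ L)
    (U : Y.Opens) (e : Γ(E, U)) :
    (sComp s).app ((f ≫ ψ) ⁻¹ᵁ U) (LFFrame.unitSec (f ≫ ψ) E U e) =
      s.app (f ⁻¹ᵁ (ψ ⁻¹ᵁ U))
        (LFFrame.unitSec f ((Scheme.Modules.pullback ψ).obj E) (ψ ⁻¹ᵁ U) (LFFrame.unitSec ψ E U e)) := by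
  change s.app _ (((Scheme.Modules.pullbackComp f ψ).inv.app E).app _ (LFFrame.unitSec (f ≫ ψ) E U e)) = _
  rw [pullbackComp_inv_unitSec f ψ E U e]
  rfl

lemma sComp_injective {s t : (Scheme.Modules.pullback f).obj ((Scheme.Modules.pullback ψ).obj E) ⟶ L}
    (h : sComp s = sComp t) : s = t := (cancel_epi _).1 h

end sComp

variable {Y Y' P P' : Scheme.{u}} {E : Y.Modules} {ψ : Y' ⟶ Y} {p : P ⟶ Y} {p' : P' ⟶ Y'}
  {O1 : P.Modules} {O1' : P'.Modules} {φ : E ⟶ (Scheme.Modules.pushforward p).obj O1}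
  {φ' : (Scheme.Modules.pullback ψ).obj E ⟶ (Scheme.Modules.pushforward p').obj O1'}

/-- Composition of morphisms to bundles, on the maps they classify. -/
lemma compMap_comp (θ : P' ⟶ P) (hθ : θ ≫ p = p' ≫ ψ) (τθ : (Scheme.Modules.pullback θ).obj O1 ⟶ O1')
    (hτθ : compMap φ θ hθ τθ =
      sComp (((Scheme.Modules.pullbackPushforwardAdjunction p').homEquiv _ O1').symm φ'))
    {T : Scheme.{u}} {b : T ⟶ Y'} {L : T.Modules} (c : T ⟶ P') (hc : c ≫ p' = b)
    (τ : (Scheme.Modules.pullback c).obj O1' ⟶ L) (h : (c ≫ θ) ≫ p = b ≫ ψ) :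
    compMap φ (c ≫ θ) h
        ((Scheme.Modules.pullbackComp c θ).inv.app O1 ≫ (Scheme.Modules.pullback c).map τθ ≫ τ) =
      sComp (compMap φ' c hc τ) := by
  subst hc
  refine eq_of_unitSec fun U _ e => ?_
  rw [compMap_unitSec, sComp_unitSec, compMap_unitSec]
  have h1 := congrArg (fun f => f.app ((p' ≫ ψ) ⁻¹ᵁ U) (LFFrame.unitSec (p' ≫ ψ) E U e)) hτθ
  simp only [compMap_unitSec, sComp_unitSec, adj_unitSec] at h1
  have h2 : τθ.app _ (uSec φ θ U e) =
      res O1' (preimage_le hθ U) (te φ' (ψ ⁻¹ᵁ U) (LFFrame.unitSec ψ E U e)) := by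
    rw [← h1]
    exact ((res_res _ _ _ _).trans (res_self _ _ _)).symm
  have h3 : ((Scheme.Modules.pullbackComp c θ).inv.app O1 ≫ (Scheme.Modules.pullback c).map τθ ≫ τ).app _
      (uSec φ (c ≫ θ) U e) = τ.app _ (LFFrame.unitSec c O1' (θ ⁻¹ᵁ (p ⁻¹ᵁ U)) (τθ.app _ (uSec φ θ U e))) := by
    change τ.app _ (((Scheme.Modules.pullback c).map τθ).app _
      (((Scheme.Modules.pullbackComp c θ).inv.app O1).app _
        (LFFrame.unitSec (c ≫ θ) O1 (p ⁻¹ᵁ U) (te φ U e)))) = _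
    rw [pullbackComp_inv_unitSec c θ O1 (p ⁻¹ᵁ U) (te φ U e)]
    congr 1
    exact (ConcreteCategory.congr_hom (congrArg (fun f => Scheme.Modules.Hom.app f (θ ⁻¹ᵁ (p ⁻¹ᵁ U)))
      ((Scheme.Modules.pullbackPushforwardAdjunction c).unit.naturality τθ))
        (LFFrame.unitSec θ O1 (p ⁻¹ᵁ U) (te φ U e))).symm
  rw [h3, h2]
  let m := te φ' (ψ ⁻¹ᵁ U) (LFFrame.unitSec ψ E U e)
  refine (congrArg (fun z => res L _ (τ.app _ z))
    (LFFrame.unitSec_res c O1' (preimage_le hθ U) m)).trans ?_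
  refine (congrArg (res L _) (app_res τ (c.preimage_mono (preimage_le hθ U)) (LFFrame.unitSec c O1' _ m))).trans ?_
  exact res_res _ _ _ _

/-- The bundle of the inverse image is the base change of the bundle. -/
theorem exists_baseChange [E.IsQuasicoherent] (B : Bundle E) (B' : Bundle ((Scheme.Modules.pullback ψ).obj E)) :
    ∃ θ : B'.P ⟶ B.P, IsPullback θ B'.p B.p ψ ∧ Nonempty ((Scheme.Modules.pullback θ).obj B.O1 ≅ B'.O1) := by
  let adj' := Scheme.Modules.pullbackPushforwardAdjunction B'.p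
  let s' := (adj'.homEquiv _ B'.O1).symm B'.φ
  have hs' : Epi s' := by
    refine epi_of_gens ?_
    rw [adjMap, Equiv.apply_symm_apply]
    exact gens_can B'.hj B'.hO1 B'.hφ
  have : Epi (sComp s') := epi_comp _ _
  obtain ⟨θ, ⟨hθ, τθ, hτθ⟩, -⟩ := existsUnique_hom B.hj B.hP B.hO1 B.hφ (isInvertible_O1 B') (sComp s') this
  suffices H : ∀ (T : Scheme.{u}) (a : T ⟶ B.P) (b : T ⟶ Y'), a ≫ B.p = b ≫ ψ →
      ∃! c : T ⟶ B'.P, c ≫ θ = a ∧ c ≫ B'.p = b by
    exact ⟨θ, IsPullback.mk' hθ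
      (fun T c c' h1 h2 => (H T (c ≫ θ) (c ≫ B'.p) (by simp only [Category.assoc, hθ])).unique ⟨rfl, rfl⟩
        ⟨h1.symm, h2.symm⟩)
      fun T a b hab => (H T a b hab).exists, ⟨τθ⟩⟩
  intro T a b hab
  let adj := Scheme.Modules.pullbackPushforwardAdjunction B.p
  have hβ : Epi ((adj.homEquiv E B.O1).symm B.φ) := by
    refine epi_of_gens ?_
    rw [adjMap, Equiv.apply_symm_apply]
    exact gens_can B.hj B.hO1 B.hφ
  have : PreservesColimitsOfSize.{u, u} (Scheme.Modules.pullback a) :=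
    (Scheme.Modules.pullbackPushforwardAdjunction a).leftAdjoint_preservesColimits
  have : Epi ((Scheme.Modules.pullback a).map ((adj.homEquiv E B.O1).symm B.φ)) :=
    (Scheme.Modules.pullback a).map_epi _
  let sA := compMap B.φ a hab (𝟙 _)
  have hsA : Epi sA := inferInstanceAs (Epi ((Scheme.Modules.pullbackCongr hab).inv.app E ≫
    (Scheme.Modules.pullbackComp a B.p).inv.app E ≫
      (Scheme.Modules.pullback a).map ((adj.homEquiv E B.O1).symm B.φ) ≫ 𝟙 _))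
  let sB := (Scheme.Modules.pullbackComp b ψ).hom.app E ≫ sA
  have hAB : sComp sB = sA := Iso.inv_hom_id_app_assoc _ _ _
  have hLa := PicCl.isInvertible_pullback a (isInvertible_O1 B)
  obtain ⟨c, ⟨hc, τ, hτ⟩, huc⟩ := existsUnique_hom B'.hj B'.hP B'.hO1 B'.hφ hLa sB (epi_comp _ _)
  obtain ⟨a', -, hua⟩ := existsUnique_hom B.hj B.hP B.hO1 B.hφ hLa sA hsA
  have hca : c ≫ θ = a := by
    refine (hua _ ⟨?_, (Scheme.Modules.pullbackComp c θ).symm.app B.O1 ≪≫
      (Scheme.Modules.pullback c).mapIso τθ ≪≫ τ, ?_⟩).trans (hua a ⟨hab, Iso.refl _, rfl⟩).symm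
    · rw [Category.assoc, hθ, reassoc_of% hc]
    · exact (compMap_comp θ hθ τθ.hom hτθ c hc τ.hom _).trans ((congrArg sComp hτ).trans hAB)
  refine ⟨c, ⟨hca, hc⟩, fun c' ⟨hca', hc'⟩ => huc c' ⟨hc', (Scheme.Modules.pullback c').mapIso τθ.symm ≪≫
    (Scheme.Modules.pullbackComp c' θ).app B.O1 ≪≫ (Scheme.Modules.pullbackCongr hca').app B.O1, ?_⟩⟩
  refine sComp_injective ?_
  rw [← compMap_comp θ hθ τθ.hom hτθ c' hc' _ (by rw [hca', hab]), hAB]
  subst hca'
  simp [sA, compMap, Scheme.Modules.pullbackCongr]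

end Groth.Agent.ProjBundleLib
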