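import Groth.Agent.ProjBundleLib.FTSub
import Groth.Agent.ProjBundleLib.VAmple
import Groth.Agent.S12478

/-! Quasi-projective morphisms over qcqs bases. -/

noncomputable section

universe u

open CategoryTheory CategoryTheory.Limits AlgebraicGeometry TopologicalSpace Opposite
open RelProj

namespace Groth.Agent.ProjBundleLib

variable {X Y : Scheme.{u}}

lemma qcqs_of_or (hY : (CompactSpace Y ∧ Y.IsSeparated) ∨ TopologicalSpace.NoetherianSpace Y) :
    CompactSpace Y ∧ QuasiSeparatedSpace Y := by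
  rcases hY with ⟨h, h'⟩ | h
  · exact ⟨h, inferInstance⟩
  · exact ⟨inferInstance, inferInstance⟩

/-- A quasi-projective morphism over a qcqs base embeds in the bundle of a finite type module. -/
theorem exists_ft_bundle_of_isQuasiProjective [CompactSpace Y] [QuasiSeparatedSpace Y] {f : X ⟶ Y}
    (hf : RelProj.IsQuasiProjective f) :
    ∃ (E : Y.Modules) (_ : E.IsQuasicoherent) (B : Bundle E) (i : X ⟶ B.P),
      CohB1.IsFT E ∧ IsImmersion i ∧ i ≫ B.p = f := by
  obtain ⟨hlft, hqc, L, hA⟩ := hf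
  have hL : PicF.IsInvertible L := (AmpleLib.isRelAmple_iff.mp hA).2.1
  obtain ⟨n₀, -, hn⟩ := S12478.result f L hL hA
  obtain ⟨E, hE, B, i, hft, hi, hip, -⟩ :=
    exists_ft_bundle (AmpleLib.isInvertible_tensorPow hL n₀) (hn n₀ le_rfl)
  exact ⟨E, hE, B, i, hft, hi, hip⟩

end Groth.Agent.ProjBundleLib
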