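import Groth.Agent.ProjBundleLib.Away
import Groth.Agent.SymLib.Grading
import Groth.Agent.GrModLib.RelTwistLoc

/-! The graded symmetric algebra over an affine open: generators, homomorphisms out of it and out of
its charts. -/

noncomputable section

universe u

open CategoryTheory CategoryTheory.Limits AlgebraicGeometry TopologicalSpace Opposite
open HomogeneousLocalization
open RelProj

namespace Groth.Agent.ProjBundleLib

variable {Y : Scheme.{u}} {E : Y.Modules} {𝒮 : QCGrAlg Y}

/-- A section of `E` as an element of the algebra. -/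
def el (j : E ⟶ 𝒮.toModule) (U : Y.Opens) (e : Γ(E, U)) : (𝒮.presheaf.obj (op U) : Type u) := j.app U e

variable {j : E ⟶ 𝒮.toModule}

lemma el_mem (hj : IsGrSymAlg E 𝒮 j) {U : Y.Opens} (hU : IsAffineOpen U) (e : Γ(E, U)) :
    el j U e ∈ 𝒮.deg U hU 1 := hj.2 U hU e

lemma el_add (U : Y.Opens) (e e' : Γ(E, U)) : el j U (e + e') = el j U e + el j U e' := map_add _ e e'

lemma el_smul (U : Y.Opens) (r : Γ(Y, U)) (e : Γ(E, U)) :
    el j U (r • e) = (𝒮.str.app (op U)).hom r * el j U e := j.app_smul r e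

lemma el_res {U V : Y.Opens} (h : V ≤ U) (e : Γ(E, U)) :
    (𝒮.presheaf.map (homOfLE h).op).hom (el j U e) = el j V (QCoh.res E h e) :=
  (QCoh.app_res j h e).symm

variable [E.IsQuasicoherent] (hj : IsGrSymAlg E 𝒮 j) {U : Y.Opens} (hU : IsAffineOpen U)
include hj

lemma piece_one_iff {x : 𝒮.presheaf.obj (op U)} : x ∈ SymLib.piece j U 1 ↔ ∃ e, el j U e = x := by
  simp only [SymLib.piece, pow_one]
  exact Iff.rfl

/-- The sections of `E` cover `Proj` of the symmetric algebra. -/
lemma exists_el_notMem (y : ProjectiveSpectrum (𝒮.deg U hU)) :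
    ∃ e : Γ(E, U), el j U e ∉ y.asHomogeneousIdeal := by
  obtain ⟨f, hf, hfy⟩ := GrModLib.exists_degree_one_of_closure _ (SymLib.isGenDegOne_affine hj hU) y
  obtain ⟨e, rfl⟩ := (piece_one_iff hj).1 ((SymLib.mem_deg_iff hj hU).1 hf)
  exact ⟨e, hfy⟩

/-- A homomorphism out of the symmetric algebra from a semilinear map. -/
lemma exists_lift {B : Type u} [CommRing B] (φ : Γ(Y, U) →+* B) (f : Γ(E, U) →+ B)
    (hU : IsAffineOpen U) (hf : ∀ r m, f (r • m) = φ r * f m) :
    ∃ F : (𝒮.presheaf.obj (op U) : Type u) →+* B,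
      (∀ r, F ((𝒮.str.app (op U)).hom r) = φ r) ∧ ∀ m, F (el j U m) = f m := by
  let := φ.toAlgebra
  let L : Γ(E, U) →ₗ[Γ(Y, U)] B :=
    { toFun := f, map_add' := map_add f, map_smul' := fun r m => by rw [hf]; rfl }
  let e := RingEquiv.ofBijective _ (SymLib.affLift_bijective hj.1 hU)
  refine ⟨(SymmetricAlgebra.lift L).toRingHom.comp e.symm.toRingHom, fun r => ?_, fun m => ?_⟩
  · have : e.symm ((𝒮.str.app (op U)).hom r) = algebraMap _ _ r :=
      e.symm_apply_eq.2 (SymLib.affLift_algebraMap j U r).symm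
    change SymmetricAlgebra.lift L (e.symm _) = φ r
    rw [this]
    exact AlgHom.commutes _ r
  · have : e.symm (el j U m) = SymmetricAlgebra.ι _ _ m :=
      e.symm_apply_eq.2 (SymLib.affLift_ι j U m).symm
    change SymmetricAlgebra.lift L (e.symm _) = f m
    rw [this]
    exact SymmetricAlgebra.lift_ι_apply L m

lemma lift_ext {B : Type u} [CommRing B] (hU : IsAffineOpen U)
    {F G : (𝒮.presheaf.obj (op U) : Type u) →+* B}
    (h0 : ∀ r, F ((𝒮.str.app (op U)).hom r) = G ((𝒮.str.app (op U)).hom r))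
    (h1 : ∀ m, F (el j U m) = G (el j U m)) : F = G := by
  refine RingHom.ext fun a => ?_
  induction a using SymLib.affInduction hj.1 hU with
  | hstr r => exact h0 r
  | hj m => exact h1 m
  | hmul a b ha hb => rw [map_mul, map_mul, ha, hb]
  | hadd a b ha hb => rw [map_add, map_add, ha, hb]

/-- The ratio `e / e₀` on the chart of `e₀`. -/
def ratio (hU : IsAffineOpen U) (e₀ e : Γ(E, U)) : Away (𝒮.deg U hU) (el j U e₀) :=
  Away.mk (𝒮.deg U hU) (el_mem hj hU e₀) 1 (el j U e) (by
    rw [smul_eq_mul, one_mul]; exact el_mem hj hU e)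

/-- A ring map out of the chart of `e₀` is determined by the base and the ratios. -/
lemma away_ext {B : Type u} [CommRing B] (e₀ : Γ(E, U))
    {φ ψ : Away (𝒮.deg U hU) (el j U e₀) →+* B}
    (h0 : ∀ r, φ (fromZeroRingHom _ _ ((𝒮.strZero U hU).hom r)) =
      ψ (fromZeroRingHom _ _ ((𝒮.strZero U hU).hom r)))
    (h1 : ∀ e, φ (ratio hj hU e₀ e) = ψ (ratio hj hU e₀ e)) : φ = ψ := by
  let := (𝒮.str.app (op U)).hom.toAlgebra
  refine RingHom.ext fun z => ?_
  obtain ⟨d, a, ha, rfl⟩ := Away.mk_surjective (𝒮.deg U hU) (el_mem hj hU e₀) z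
  have hdeg : ∀ {k : ℕ} {x : 𝒮.presheaf.obj (op U)}, x ∈ SymLib.piece j U k →
      x ∈ 𝒮.deg U hU (k • 1) := fun hx => by
    rw [smul_eq_mul, mul_one]; exact (SymLib.mem_deg_iff hj hU).2 hx
  have hP : a ∈ SymLib.piece j U d := (SymLib.mem_deg_iff hj hU).1 (by simpa using ha)
  suffices H : ∀ (k : ℕ) (x : 𝒮.presheaf.obj (op U)) (hx : x ∈ SymLib.piece j U k),
      φ (Away.mk (𝒮.deg U hU) (el_mem hj hU e₀) k x (hdeg hx)) =
        ψ (Away.mk (𝒮.deg U hU) (el_mem hj hU e₀) k x (hdeg hx)) from H d a hP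
  intro k x hx
  unfold SymLib.piece at hx
  induction hx using Submodule.pow_induction_on_left' with
  | algebraMap r =>
    have : Away.mk (𝒮.deg U hU) (el_mem hj hU e₀) 0 (algebraMap Γ(Y, U) _ r)
        (by rw [zero_smul]; exact 𝒮.str_mem U hU r) =
        fromZeroRingHom _ _ ((𝒮.strZero U hU).hom r) := by
      refine val_injective _ ?_
      rw [Away.val_mk]
      exact congrArg _ (Subtype.ext (pow_zero _))
    rw [this]; exact h0 r
  | add a b i ha hb iha ihb =>
    have : Away.mk (𝒮.deg U hU) (el_mem hj hU e₀) i (a + b) (add_mem (hdeg ha) (hdeg hb)) =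
        Away.mk (𝒮.deg U hU) (el_mem hj hU e₀) i a (hdeg ha) +
          Away.mk (𝒮.deg U hU) (el_mem hj hU e₀) i b (hdeg hb) := by
      refine val_injective _ ?_
      rw [val_add, Away.val_mk, Away.val_mk, Away.val_mk, Localization.add_mk_self]
    rw [this, map_add, map_add, iha, ihb]
  | mem_mul m hm i y hy ih =>
    obtain ⟨e, rfl⟩ := hm
    have : Away.mk (𝒮.deg U hU) (el_mem hj hU e₀) (i + 1) (el j U e * y) (by
          have h := SetLike.mul_mem_graded (A := 𝒮.deg U hU) (el_mem hj hU e) (hdeg hy)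
          simpa [add_comm] using h) =
        ratio hj hU e₀ e * Away.mk (𝒮.deg U hU) (el_mem hj hU e₀) i y (hdeg hy) := by
      refine val_injective _ ?_
      rw [val_mul, ratio, Away.val_mk, Away.val_mk, Away.val_mk, Localization.mk_mul]
      exact congrArg _ (Subtype.ext (by simp [pow_succ']))
    exact (congrArg φ this).trans (((map_mul φ _ _).trans
      ((congrArg₂ (· * ·) (h1 e) ih).trans (map_mul ψ _ _).symm)).trans (congrArg ψ this).symm)

end Groth.Agent.ProjBundleLib
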