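import Groth.Agent.SymLib.Sheaf
import Groth.Agent.ProjBundleLib.Algebra
import Groth.Agent.LimTop.SubAlg
import Groth.Agent.QCoh.Exact
import Groth.Agent.QCoh.FiniteType

/-! The degree one part of a quasi-coherent graded algebra as a module. -/

noncomputable section

universe u

open CategoryTheory CategoryTheory.Limits AlgebraicGeometry TopologicalSpace Opposite
open RelProj
open Scheme (AffineZariskiSite)

namespace Groth.Agent.ProjBundleLib

variable {Y : Scheme.{u}} (𝒮 : QCGrAlg Y)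

/-- The degree one component of a section. -/
def comp1 (U : Y.Opens) (hU : IsAffineOpen U) :
    (𝒮.presheaf.obj (op U) : Type u) →+ (𝒮.presheaf.obj (op U) : Type u) :=
  AddMonoidHom.mk' (fun x => (DirectSum.decompose (𝒮.deg U hU) x 1 : 𝒮.presheaf.obj (op U)))
    fun a b => by rw [DirectSum.decompose_add, DirectSum.add_apply, AddMemClass.coe_add]

lemma comp1_smul (U : Y.Opens) (hU : IsAffineOpen U) (r : Γ(Y, U)) (x : 𝒮.presheaf.obj (op U)) :
    comp1 𝒮 U hU ((𝒮.str.app (op U)).hom r * x) = (𝒮.str.app (op U)).hom r * comp1 𝒮 U hU x :=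
  DirectSum.coe_decompose_mul_of_left_mem_of_le (𝒮.deg U hU) (𝒮.str_mem U hU r) (Nat.zero_le 1)

lemma res_comp1 {U V : Y.Opens} (hU : IsAffineOpen U) (hV : IsAffineOpen V) (i : V ≤ U)
    (x : 𝒮.presheaf.obj (op U)) :
    comp1 𝒮 V hV ((𝒮.presheaf.map (homOfLE i).op).hom x) =
      (𝒮.presheaf.map (homOfLE i).op).hom (comp1 𝒮 U hU x) :=
  (map_directSumDecompose (𝒜 := 𝒮.deg U hU) (ℬ := 𝒮.deg V hV) (𝒮.res hU hV i) (x := x) (i := 1)).symm

/-- The component map on the affine site. -/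
def comp1Site : (AffineZariskiSite.toOpensFunctor Y).op ⋙ 𝒮.toModule.presheaf ⟶
    (AffineZariskiSite.toOpensFunctor Y).op ⋙ 𝒮.toModule.presheaf where
  app U := AddCommGrpCat.ofHom (comp1 𝒮 U.unop.1 U.unop.2)
  naturality U V i := by
    ext x
    exact res_comp1 𝒮 U.unop.2 V.unop.2 (AffineZariskiSite.toOpens_mono i.unop.le) x

/-- The projection to degree one. -/
def proj1 : 𝒮.toModule ⟶ 𝒮.toModule :=
  SymLib.homOfSite (comp1Site 𝒮) fun U hU r x => comp1_smul 𝒮 U hU r x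

lemma proj1_app (U : Y.Opens) (hU : IsAffineOpen U) (x : 𝒮.presheaf.obj (op U)) :
    (proj1 𝒮).app U x = comp1 𝒮 U hU x := by
  exact congr($(SymLib.homOfSite_app (comp1Site 𝒮) (fun U hU r x => comp1_smul 𝒮 U hU r x) U hU) x)

/-- The degree one module. -/
def one : Y.Modules := kernel (𝟙 𝒮.toModule - proj1 𝒮)

/-- Its inclusion. -/
def oneι : one 𝒮 ⟶ 𝒮.toModule := kernel.ι _

instance isQuasicoherent_one : (one 𝒮).IsQuasicoherent := by
  have := LimTop.SubAlg.isQuasicoherent_toModule 𝒮.toQCAlg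
  exact QCoh.isQuasicoherent_kernel _

lemma oneι_injective (U : Y.Opens) : Function.Injective ((oneι 𝒮).app U) := by
  have : Mono (oneι 𝒮) := inferInstanceAs (Mono (kernel.ι _))
  exact QCoh.app_injective_of_mono _ U

lemma oneι_mem (U : Y.Opens) (hU : IsAffineOpen U) (z : Γ(one 𝒮, U)) :
    (oneι 𝒮).app U z ∈ 𝒮.deg U hU 1 := by
  have h : ((oneι 𝒮) ≫ (𝟙 𝒮.toModule - proj1 𝒮)).app U z = 0 := by
    rw [show oneι 𝒮 ≫ (𝟙 𝒮.toModule - proj1 𝒮) = 0 from kernel.condition _]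
    rfl
  rw [Scheme.Modules.Hom.comp_app, ConcreteCategory.comp_apply, Scheme.Modules.Hom.sub_app] at h
  change (oneι 𝒮).app U z - (proj1 𝒮).app U ((oneι 𝒮).app U z) = 0 at h
  rw [sub_eq_zero] at h
  have h2 := h.trans (proj1_app 𝒮 U hU _)
  exact h2 ▸ SetLike.coe_mem _

lemma exists_oneι (U : Y.Opens) (hU : IsAffineOpen U) (x : 𝒮.presheaf.obj (op U)) (hx : x ∈ 𝒮.deg U hU 1) :
    ∃ z : Γ(one 𝒮, U), (oneι 𝒮).app U z = x := by
  let S := ShortComplex.mk (oneι 𝒮) (𝟙 𝒮.toModule - proj1 𝒮) (kernel.condition _)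
  have : Mono S.f := inferInstanceAs (Mono (kernel.ι _))
  refine QCoh.exists_app_eq_of_app_eq_zero S (ShortComplex.exact_of_f_is_kernel _ (kernelIsKernel _)) U x ?_
  change (𝟙 𝒮.toModule - proj1 𝒮).app U x = 0
  rw [Scheme.Modules.Hom.sub_app]
  change (id x : Γ(𝒮.toModule, U)) - (proj1 𝒮).app U x = 0
  rw [sub_eq_zero]
  refine Eq.trans ?_ (proj1_app 𝒮 U hU x).symm
  exact (DirectSum.decompose_of_mem_same (𝒮.deg U hU) hx).symm

lemma isFT_one (hft : 𝒮.IsFTDeg 1) : CohB1.IsFT (one 𝒮) := by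
  refine (QCoh.isFiniteType_iff _).2 fun U hU => ?_
  obtain ⟨T, hT, hgen⟩ := hft U hU
  choose z hz using fun t : T => exists_oneι 𝒮 U hU t.1 (hT t.2)
  refine Module.Finite.of_surjective (Fintype.linearCombination Γ(Y, U) z) fun w => ?_
  obtain ⟨c, hc⟩ := hgen _ (oneι_mem 𝒮 U hU w)
  refine ⟨fun t => c t.1, oneι_injective 𝒮 U ?_⟩
  rw [Fintype.linearCombination_apply, map_sum, hc, ← Finset.sum_coe_sort T]
  refine Finset.sum_congr rfl fun t _ => ?_
  rw [Scheme.Modules.Hom.app_smul, hz]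
  rfl

end Groth.Agent.ProjBundleLib
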