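import Groth.Agent.ProjBundleLib.EmbSym
import Groth.Agent.ProjBundleLib.PieceOne
import Groth.Agent.ProjBundleLib.BaseChange
import Groth.Agent.ProjMor.Closed
import Groth.Agent.ProjMor.Local
import Groth.Agent.FittLib.Sheaf

/-! Projective morphisms and closed immersions into projective bundles. -/

noncomputable section

universe u

open CategoryTheory CategoryTheory.Limits AlgebraicGeometry TopologicalSpace Opposite
open RelProj

namespace Groth.Agent.ProjBundleLib

variable {Y X : Scheme.{u}}

/-- The bundle of a finite type module is projective. -/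
lemma isProjective_bundle {E : Y.Modules} [E.IsQuasicoherent] (hE : CohB1.IsFT E) (B : Bundle E) :
    RelProj.IsProjective B.p :=
  ⟨B.alg, B.P, B.p, B.chart, Iso.refl _, SymLib.isGenDegOne B.hj, isFTDeg_one B.hj hE, B.hP, Category.id_comp _⟩

lemma quasiCompact_bundle {E : Y.Modules} [E.IsQuasicoherent] (hE : CohB1.IsFT E) (B : Bundle E) :
    QuasiCompact B.p :=
  have := ProjMor.isProper_of_isProjective (isProjective_bundle hE B)
  inferInstance

/-- A closed subscheme of the bundle of a finite type module is projective. -/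
theorem isProjective_of_closedImmersion {E : Y.Modules} [E.IsQuasicoherent] (hE : CohB1.IsFT E) (B : Bundle E)
    {f : X ⟶ Y} (i : X ⟶ B.P) [IsClosedImmersion i] (hi : i ≫ B.p = f) : RelProj.IsProjective f := by
  have := quasiCompact_bundle hE B
  exact hi ▸ ProjMor.isProjective_closedImmersion_comp (isProjective_bundle hE B) i

/-- A projective morphism factors as a closed immersion into the bundle of a finite type module. -/
theorem exists_of_isProjective {f : X ⟶ Y} (hf : RelProj.IsProjective f) :
    ∃ (E : Y.Modules) (_ : E.IsQuasicoherent) (B : Bundle E) (i : X ⟶ B.P),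
      CohB1.IsFT E ∧ IsClosedImmersion i ∧ i ≫ B.p = f := by
  obtain ⟨𝒮, P, p, chart, e, hgen, hft, hP, he⟩ := hf
  obtain ⟨B⟩ := exists_bundle (one 𝒮)
  obtain ⟨i, hi, hip⟩ := exists_closedImmersion (u := oneι 𝒮) hgen (fun U hU x => oneι_mem 𝒮 U hU x)
    (fun U hU s hs => exists_oneι 𝒮 U hU s hs) B.hj B.hP hP
  exact ⟨one 𝒮, inferInstance, B, e.hom ≫ i, isFT_one 𝒮 hft, inferInstance, by rw [Category.assoc, hip, he]⟩

/-- Closed immersion into a projective morphism, then compose. -/
theorem isProjective_comp_of_closed {Z : Scheme.{u}} {g : Z ⟶ Y} (hg : RelProj.IsProjective g) (i : X ⟶ Z)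
    [IsClosedImmersion i] : RelProj.IsProjective (i ≫ g) := by
  have := ProjMor.isProper_of_isProjective hg
  exact ProjMor.isProjective_closedImmersion_comp hg i

/-- Projective morphisms are stable under base change. -/
theorem isProjective_baseChange {f : X ⟶ Y} (hf : RelProj.IsProjective f) {X' Y' : Scheme.{u}} {g : Y' ⟶ Y}
    {a : X' ⟶ X} {f' : X' ⟶ Y'} (hsq : IsPullback a f' f g) : RelProj.IsProjective f' := by
  obtain ⟨E, hE, B, i, hft, hi, hip⟩ := exists_of_isProjective hf
  obtain ⟨C⟩ := exists_bundle ((Scheme.Modules.pullback g).obj E)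
  obtain ⟨θ, hθ, -⟩ := exists_baseChange (ψ := g) B C
  have hab : (a ≫ i) ≫ B.p = f' ≫ g := by rw [Category.assoc, hip]; exact hsq.w
  let c : X' ⟶ C.P := hθ.lift (a ≫ i) f' hab
  have h1 : IsPullback a c i θ :=
    IsPullback.of_bot (by rw [hθ.lift_snd, hip]; exact hsq) (hθ.lift_fst _ _ hab).symm hθ
  have : IsClosedImmersion c := MorphismProperty.of_isPullback h1 hi
  have : E.IsFiniteType := hft
  exact isProjective_of_closedImmersion (FittLib.isFiniteType_pullback E g) C c (hθ.lift_snd _ _ _)

/-- A morphism is projective if its composite with a separated morphism is. -/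
theorem isProjective_of_comp {Z : Scheme.{u}} (f : X ⟶ Y) (g : Y ⟶ Z) [IsSeparated g]
    (h : RelProj.IsProjective (f ≫ g)) : RelProj.IsProjective f := by
  let γ : X ⟶ pullback (f ≫ g) g := pullback.lift (𝟙 X) f (Category.id_comp _)
  have h1 : RelProj.IsProjective (pullback.snd (f ≫ g) g) :=
    isProjective_baseChange h (IsPullback.of_hasPullback _ _)
  have : IsClosedImmersion (γ ≫ pullback.fst (f ≫ g) g) := by
    rw [pullback.lift_fst]; infer_instance
  have : IsClosedImmersion γ := IsClosedImmersion.of_comp γ (pullback.fst (f ≫ g) g)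
  have := isProjective_comp_of_closed h1 γ
  rwa [pullback.lift_snd] at this

end Groth.Agent.ProjBundleLib
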