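import Groth.Agent.ProjBundleLib.FTQP
import Groth.Agent.ProjMor.Closed
import Groth.Agent.FlatMor.SchDom
import Groth.Agent.RelTildeLib.TwistPull

/-! Dense open immersions into projective schemes. -/

noncomputable section

universe u

open CategoryTheory CategoryTheory.Limits AlgebraicGeometry TopologicalSpace Opposite
open scoped HomogeneousIdeal
open RelProj Groth.Agent.RelProjLib

namespace Groth.Agent.ProjBundleLib

set_option backward.isDefEq.respectTransparency.types false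

variable {X Y : Scheme.{u}}

lemma isRelProjMap_of_isProjQMap {𝒜 ℬ : QCGrAlg Y} {φ : 𝒜.toQCAlg ⟶ ℬ.toQCAlg} {hφ : IsGradedHom φ}
    {hirr : ∀ (U : Y.Opens) (hU : IsAffineOpen U), (ℬ.deg U hU)₊ ≤ ((𝒜.deg U hU)₊).map (gradedHomAt φ hφ U hU)}
    {PA PB : Scheme.{u}} {pA : PA ⟶ Y} {pB : PB ⟶ Y}
    {chartA : ∀ (U : Y.Opens) (hU : IsAffineOpen U), (((pA ⁻¹ᵁ U : PA.Opens) : Scheme.{u}) ≅ Proj (𝒜.deg U hU))}
    {chartB : ∀ (U : Y.Opens) (hU : IsAffineOpen U), (((pB ⁻¹ᵁ U : PB.Opens) : Scheme.{u}) ≅ Proj (ℬ.deg U hU))}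
    {h : PB ⟶ PA} (hh : IsProjQMap (QGrHom.ofHom φ hφ) pA chartA pB chartB h)
    (hsurj : ∀ (U : Y.Opens) (hU : IsAffineOpen U) (k : ℕ), 0 < k → ∀ y ∈ ℬ.deg U hU k,
      ∃ x ∈ 𝒜.deg U hU k, (φ.hom.app (op U)).hom x = y) :
    IsRelProjMap φ hφ hirr chartA chartB h := by
  intro U hU
  have key : emb pB chartB U hU ≫ h = Proj.map (gradedHomAt φ hφ U hU) (hirr U hU) ≫ emb pA chartA U hU := by
    refine Scheme.Cover.hom_ext (Proj.affineOpenCover (ℬ.deg U hU)).openCover _ _ ?_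
    rintro ⟨d, g, hg⟩
    obtain ⟨x, hx, hxg⟩ := hsurj U hU d.1 d.2 g hg
    change Proj.awayι (ℬ.deg U hU) g hg d.2 ≫ emb pB chartB U hU ≫ h =
      Proj.awayι (ℬ.deg U hU) g hg d.2 ≫ Proj.map (gradedHomAt φ hφ U hU) (hirr U hU) ≫ emb pA chartA U hU
    have H := hh.2 U hU U hU le_rfl d.1 d.2 x hx
    have main : ∀ (F : (𝒜.deg U hU) →+*ᵍ (ℬ.deg U hU)) (hF : (ℬ.deg U hU)₊ ≤ ((𝒜.deg U hU)₊).map F),
        F = (QGrHom.ofHom φ hφ).gradedAt U hU U hU le_rfl → ∀ g' (hg' : g' ∈ ℬ.deg U hU d.1), F x = g' →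
          Proj.awayι (ℬ.deg U hU) g' hg' d.2 ≫ emb pB chartB U hU ≫ h =
            Proj.awayι (ℬ.deg U hU) g' hg' d.2 ≫ Proj.map F hF ≫ emb pA chartA U hU := by
      rintro F hF rfl g' hg' rfl
      rw [Proj.awayι_comp_map_assoc _ hF d.2 x hx]
      refine Eq.trans ?_ H
      rw [awayEmb, Category.assoc]
    refine main _ (hirr U hU) (GradedRingHom.ext fun z => ?_) g hg hxg
    exact (gradedAt_ofHom_apply φ hφ U hU le_rfl z).symm
  rw [← Iso.inv_comp_eq]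
  simpa [emb] using key

lemma irrelevant_le_of_surjective {𝒜 ℬ : QCGrAlg Y} {φ : 𝒜.toQCAlg ⟶ ℬ.toQCAlg} {hφ : IsGradedHom φ}
    (hsurj : ∀ (U : Y.Opens) (hU : IsAffineOpen U) (k : ℕ), 0 < k → ∀ y ∈ ℬ.deg U hU k,
      ∃ x ∈ 𝒜.deg U hU k, (φ.hom.app (op U)).hom x = y) :
    ∀ (U : Y.Opens) (hU : IsAffineOpen U), (ℬ.deg U hU)₊ ≤ ((𝒜.deg U hU)₊).map (gradedHomAt φ hφ U hU) := by
  intro U hU
  rw [HomogeneousIdeal.irrelevant_le]
  intro k hk y hy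
  obtain ⟨x, hx, rfl⟩ := hsurj U hU k hk y hy
  exact Ideal.mem_map_of_mem (gradedHomAt φ hφ U hU) (HomogeneousIdeal.mem_irrelevant_of_mem _ hk hx)

/-- An immersion into a projective relative Proj is a dense open piece of a projective one. -/
theorem exists_dense_openImmersion_aux {𝒜 : QCGrAlg Y} (hgen : 𝒜.IsGenDegOne) (hft : 𝒜.IsFTDeg 1)
    {PA : Scheme.{u}} {pA : PA ⟶ Y} [QuasiCompact pA]
    {chartA : ∀ (U : Y.Opens) (hU : IsAffineOpen U), (((pA ⁻¹ᵁ U : PA.Opens) : Scheme.{u}) ≅ Proj (𝒜.deg U hU))}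
    (hA : IsRelProj 𝒜 pA chartA) {OA : PA.Modules}
    {lamA : ∀ (U : Y.Opens) (hU : IsAffineOpen U),
      OA ⟶ (Scheme.Modules.pushforward (emb pA chartA U hU)).obj (GrTwist.twist (𝒜.deg U hU) 1)}
    (hOA : IsRelTwist 𝒜 pA chartA 1 OA lamA) (i : X ⟶ PA) [IsImmersion i] [QuasiCompact i] :
    ∃ (𝒮 : QCGrAlg Y) (P : Scheme.{u}) (p : P ⟶ Y)
      (chart : ∀ (U : Y.Opens) (hU : IsAffineOpen U), ((p ⁻¹ᵁ U : P.Opens) : Scheme.{u}) ≅ Proj (𝒮.deg U hU))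
      (O1 : P.Modules)
      (lam : ∀ (U : Y.Opens) (hU : IsAffineOpen U),
        O1 ⟶ (Scheme.Modules.pushforward (emb p chart U hU)).obj (GrTwist.twist (𝒮.deg U hU) 1))
      (j : X ⟶ P),
      𝒮.IsGenDegOne ∧ 𝒮.IsFTDeg 1 ∧ IsRelProj 𝒮 p chart ∧ IsRelTwist 𝒮 p chart 1 O1 lam ∧
        IsOpenImmersion j ∧ Dense (Set.range j.base) ∧ j ≫ p = i ≫ pA ∧
        Nonempty ((Scheme.Modules.pullback i).obj OA ≅ (Scheme.Modules.pullback j).obj O1) := by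
  obtain ⟨D, PB, pB, chartB, h, e, hB, hh, hfac, hp⟩ := ProjMor.exists_gradedQuotient i.imageι hA
  obtain ⟨O1, lam, hO1⟩ := RelTildeLib.exists_isRelTwist hB 1
  have hs : ∀ (U : Y.Opens) (hU : IsAffineOpen U) (k : ℕ), 0 < k → ∀ y ∈ D.grAlg.deg U hU k,
      ∃ x ∈ 𝒜.deg U hU k, (D.proj.hom.app (op U)).hom x = y := fun U hU k _ y hy => D.exists_deg U hU k y hy
  have hirr := irrelevant_le_of_surjective (𝒜 := 𝒜) (ℬ := D.grAlg) (φ := D.proj) (hφ := D.isGradedHom) hs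
  obtain ⟨iso⟩ := RelTildeLib.nonempty_pullback_iso hA hB hgen
    (isRelProjMap_of_isProjQMap (hirr := hirr) hh hs) hOA hO1
  have : IsOpenImmersion i.toImage := FlatMor.SchDom.isOpenImmersion_toImage' i (Or.inl inferInstance)
  refine ⟨D.grAlg, PB, pB, chartB, O1, lam, i.toImage ≫ e.inv, D.isGenDegOne hgen,
    D.isFTDeg 1 hft, hB, hO1, inferInstance, ?_, ?_, ⟨?_⟩⟩
  · rw [Scheme.Hom.comp_base, TopCat.coe_comp]
    exact (Scheme.Hom.homeomorph e.inv).surjective.denseRange.comp i.toImage.denseRange e.inv.continuous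
  · rw [← hp, ← hfac, Category.assoc, Category.assoc, e.inv_hom_id_assoc, Scheme.Hom.toImage_imageι_assoc]
  · exact (Scheme.Modules.pullbackCongr (show i = (i.toImage ≫ e.inv) ≫ h by
        rw [← hfac, Category.assoc, e.inv_hom_id_assoc, Scheme.Hom.toImage_imageι])).app OA ≪≫
      ((Scheme.Modules.pullbackComp (i.toImage ≫ e.inv) h).app OA).symm ≪≫
      (Scheme.Modules.pullback (i.toImage ≫ e.inv)).mapIso iso

/-- An immersion into the bundle of a finite type module is a dense open piece of a projective one. -/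
theorem exists_dense_openImmersion {E : Y.Modules} [E.IsQuasicoherent] (hE : CohB1.IsFT E) (B : Bundle E)
    {q : X ⟶ Y} [QuasiCompact q] (i : X ⟶ B.P) [IsImmersion i] (hi : i ≫ B.p = q) :
    ∃ (𝒮 : QCGrAlg Y) (P : Scheme.{u}) (p : P ⟶ Y)
      (chart : ∀ (U : Y.Opens) (hU : IsAffineOpen U), ((p ⁻¹ᵁ U : P.Opens) : Scheme.{u}) ≅ Proj (𝒮.deg U hU))
      (O1 : P.Modules)
      (lam : ∀ (U : Y.Opens) (hU : IsAffineOpen U),
        O1 ⟶ (Scheme.Modules.pushforward (emb p chart U hU)).obj (GrTwist.twist (𝒮.deg U hU) 1))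
      (j : X ⟶ P),
      𝒮.IsGenDegOne ∧ 𝒮.IsFTDeg 1 ∧ IsRelProj 𝒮 p chart ∧ IsRelTwist 𝒮 p chart 1 O1 lam ∧
        IsOpenImmersion j ∧ Dense (Set.range j.base) ∧ j ≫ p = q ∧
        Nonempty ((Scheme.Modules.pullback i).obj B.O1 ≅ (Scheme.Modules.pullback j).obj O1) := by
  have : IsProper B.p := ProjMor.isProper_of_isProjective (isProjective_bundle hE B)
  have : QuasiCompact (i ≫ B.p) := by rw [hi]; infer_instance
  have : QuasiCompact i := QuasiCompact.of_comp i B.p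
  exact hi ▸ exists_dense_openImmersion_aux (SymLib.isGenDegOne B.hj) (isFTDeg_one B.hj hE) B.hP B.hO1 i

end Groth.Agent.ProjBundleLib
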