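import Groth.Agent.ProjBundleLib.Crit

/-! The immersion criterion on affine basic opens of the frames. -/

noncomputable section

universe u

open CategoryTheory CategoryTheory.Limits AlgebraicGeometry TopologicalSpace Opposite
open HomogeneousLocalization
open RelProj Groth.Agent.QCoh Groth.Agent.Props.GenLocus

namespace Groth.Agent.ProjBundleLib

variable {Y X : Scheme.{u}} {E : Y.Modules} {g : X ⟶ Y} {L : X.Modules}
  {v : E ⟶ (Scheme.Modules.pushforward g).obj L} {G : X.Opens}

/-- `c` cuts out an affine piece on which every function is a fraction with numerator in `S`. -/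
structure Good (S : Subring Γ(X, G)) (c : Γ(X, G)) : Prop where
  affine : IsAffineOpen (X.basicOpen c)
  frac : ∀ a : Γ(X, X.basicOpen c), ∃ (m : ℕ) (s : Γ(X, G)), s ∈ S ∧
    a * rres (X.basicOpen_le c) c ^ m = rres (X.basicOpen_le c) s

lemma Good.mono {S S' : Subring Γ(X, G)} {c : Γ(X, G)} (h : Good S c) (hle : S ≤ S') : Good S' c :=
  ⟨h.affine, fun a => let ⟨m, s, hs, e⟩ := h.frac a; ⟨m, s, hle hs, e⟩⟩

/-- An immersion has good functions at every point. -/
lemma exists_good {S : Subring Γ(X, G)} (h : SubImm G S) {x : X} (hx : x ∈ G) :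
    ∃ c ∈ S, x ∈ X.basicOpen c ∧ Good S c := by
  let m : G.toScheme ⟶ Spec (CommRingCat.of S) := G.toSpecΓ ≫ Spec.map (CommRingCat.ofHom S.subtype)
  have : IsImmersion m := h
  obtain ⟨_, ⟨c, rfl⟩, hxc, hcle⟩ := PrimeSpectrum.isTopologicalBasis_basic_opens.exists_subset_of_mem_open
    (show m ⟨x, hx⟩ ∈ (m.coborderRange : Set (Spec (CommRingCat.of S))) from subset_coborder ⟨_, rfl⟩)
    m.coborderRange.2
  let f : Γ(Spec (CommRingCat.of S), ⊤) := (Scheme.ΓSpecIso (CommRingCat.of S)).inv c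
  let D : (Spec (CommRingCat.of S)).Opens := (Spec (CommRingCat.of S)).basicOpen f
  have hDc : D = PrimeSpectrum.basicOpen c := basicOpen_eq_of_affine c
  have hD : IsAffineOpen D := (isAffineOpen_top _).basicOpen f
  let D' := m.coborderRange.ι ⁻¹ᵁ D
  have hDD : m.coborderRange.ι ''ᵁ D' = D := by
    rw [Scheme.Hom.image_preimage_eq_opensRange_inf, Scheme.Opens.opensRange_ι]
    refine inf_eq_right.mpr ?_
    rw [hDc]
    exact hcle
  have hD' : IsAffineOpen D' := by
    rw [← Scheme.Hom.isAffineOpen_iff_of_isOpenImmersion m.coborderRange.ι, hDD]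
    exact hD
  have hpre : m.liftCoborder ⁻¹ᵁ D' = m ⁻¹ᵁ D := by rw [Scheme.Hom.liftCoborder_preimage, hDD]
  have haff : IsAffineOpen (m ⁻¹ᵁ D) := hpre ▸ hD'.preimage m.liftCoborder
  have hsurj : Function.Surjective (m.app D) := by
    have h2 : Function.Surjective (m.app (m.coborderRange.ι ''ᵁ D')) := by
      intro b
      obtain ⟨a, ha⟩ := m.liftCoborder.app_surjective D' hD'
        (G.toScheme.presheaf.map (eqToHom (m.liftCoborder_preimage D')).op b)
      rw [liftCoborder_app] at ha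
      exact ⟨a, (ConcreteCategory.bijective_of_isIso
        (G.toScheme.presheaf.map (eqToHom (m.liftCoborder_preimage D')).op)).1 ha⟩
    exact hDD ▸ h2
  have happ : ∀ s, m.appTop s = G.topIso.inv ((Scheme.ΓSpecIso (CommRingCat.of S)).hom s).1 := fun s => by
    have e1 : m.appTop = (Scheme.ΓSpecIso (CommRingCat.of S)).hom ≫ CommRingCat.ofHom S.subtype ≫ G.topIso.inv := by
      simp only [m, Scheme.Hom.comp_appTop, Scheme.Opens.toSpecΓ_appTop]
      rw [Scheme.ΓSpecIso_naturality_assoc]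
    exact congr($e1 s)
  have hf : (Scheme.ΓSpecIso (CommRingCat.of S)).hom f = c :=
    congr($((Scheme.ΓSpecIso (CommRingCat.of S)).inv_hom_id) c)
  have hpreV : m ⁻¹ᵁ D = G.ι ⁻¹ᵁ X.basicOpen c.1 := by
    have hι : ∀ y : Γ(X, G), G.topIso.inv y = G.ι.appLE G ⊤ (by simp) y := fun y => by
      simp [Scheme.Opens.topIso, Scheme.Opens.ι_appLE]
      rfl
    rw [Scheme.preimage_basicOpen_top, happ, hf, hι, Scheme.basicOpen_appLE]
    exact inf_eq_right.mpr le_top
  have hV : G.ι ''ᵁ (m ⁻¹ᵁ D) = X.basicOpen c.1 := by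
    rw [hpreV, Scheme.Hom.image_preimage_eq_opensRange_inf, Scheme.Opens.opensRange_ι]
    exact inf_eq_right.mpr (X.basicOpen_le _)
  refine ⟨c.1, c.2, ?_, hV ▸ haff.image_of_isOpenImmersion G.ι, fun a => ?_⟩
  · rw [← hV]
    exact ⟨⟨x, hx⟩, hDc.ge hxc, rfl⟩
  have hmD : G.ι ''ᵁ (m ⁻¹ᵁ D) ≤ G := hV.le.trans (X.basicOpen_le _)
  have key : ∀ s, m.app D (rres (le_top : D ≤ ⊤) s) =
      (G.ι.appIso (m ⁻¹ᵁ D)).hom (rres hmD ((Scheme.ΓSpecIso (CommRingCat.of S)).hom s).1) := by
    intro s
    have e1 := congr($(m.naturality (homOfLE (le_top : D ≤ ⊤)).op) s)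
    refine e1.trans ?_
    change G.toScheme.presheaf.map _ (m.appTop s) = _
    rw [happ]
    have e2 : G.topIso.inv ≫ G.toScheme.presheaf.map ((Opens.map m.base).map (homOfLE (le_top : D ≤ ⊤))).op =
        X.presheaf.map (homOfLE hmD).op ≫ (G.ι.appIso (m ⁻¹ᵁ D)).hom := by
      rw [Scheme.Hom.appIso_hom']
      simp [Scheme.Opens.topIso, Scheme.Opens.ι_appLE]
      first
        | rfl
        | (erw [Category.comp_id]; exact (X.presheaf.map_comp _ _).symm.trans (congrArg _ (Subsingleton.elim _ _)))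
        | (erw [Category.comp_id, ← Functor.map_comp]; rfl)
    exact congr($e2 ((Scheme.ΓSpecIso (CommRingCat.of S)).hom s).1)
  obtain ⟨a', ha'⟩ := hsurj ((G.ι.appIso (m ⁻¹ᵁ D)).hom (rres hV.le a))
  have := (isAffineOpen_top (Spec (CommRingCat.of S))).isLocalization_basicOpen f
  obtain ⟨n, s, hs⟩ := IsLocalization.Away.surj (S := (Spec (CommRingCat.of S)).presheaf.obj (op D)) f a'
  have hs' : a' * rres (le_top : D ≤ ⊤) f ^ n = rres (le_top : D ≤ ⊤) s := hs
  have h3 := congrArg (m.app D) hs'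
  rw [map_mul, map_pow, ha', key, key, ← map_pow, ← map_mul, hf] at h3
  have h4 := (ConcreteCategory.bijective_of_isIso (G.ι.appIso (m ⁻¹ᵁ D)).hom).1 h3
  refine ⟨n, ((Scheme.ΓSpecIso (CommRingCat.of S)).hom s).1, Subtype.coe_prop _, ?_⟩
  have h5 := congrArg (rres hV.ge) h4
  rw [map_mul, map_pow, rres_rres, rres_rres, rres_rres, rres_self] at h5
  exact h5

variable [E.IsQuasicoherent]

/-- Good functions in the coefficient rings make the classified morphism an immersion. -/
theorem clsImm_of_good (hv : Gens v)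
    (H : ∀ x : X, ∃ (U : Y.Opens) (_ : IsAffineOpen U) (e : Γ(E, U)) (c : Γ(X, gLoc v U e)),
      c ∈ coefRing v U e (gLoc v U e) ∧ x ∈ X.basicOpen c ∧ Good (coefRing v U e (gLoc v U e)) c) :
    ClsImm v := by
  obtain ⟨B⟩ := exists_bundle E
  obtain ⟨r, hr, -⟩ := existsUnique_cls B.hj B.hP hv
  refine ⟨B, r, hr, ?_⟩
  choose U hU e c hcm hxc hgood using H
  have hw : ∀ x, ∃ w, chartCo B.hj (U x) (hU x) (e x) (gLoc v (U x) (e x)) frame_gLoc w = c x := fun x => by
    have h := hcm x
    rwa [← range_chartCo B.hj (hU := hU x) frame_gLoc] at h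
  choose w hw using hw
  have : MorphismProperty.RespectsRight @IsImmersion @IsOpenImmersion :=
    ⟨fun i hi g hg => by
      have : IsImmersion g := hg
      have : IsOpenImmersion i := hi
      exact inferInstanceAs (IsImmersion (g ≫ i))⟩
  let D : X → B.P.Opens := fun x => Dop B.j B.p B.chart (U x) (hU x) (e x)
  let Z : ∀ x, Γ(B.P, D x) := fun x => chartRing B.j B.p B.chart (U x) (hU x) (e x) (w x)
  let V : X → B.P.Opens := fun x => B.P.basicOpen (Z x)
  have hD : ∀ x, r ⁻¹ᵁ D x = gLoc v (U x) (e x) := fun x => preimage_Dop_eq_gLoc hv hr (hU x) (e x)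
  have happ : ∀ x z, r.appLE (D x) (gLoc v (U x) (e x)) (hD x).ge
      (chartRing B.j B.p B.chart (U x) (hU x) (e x) z) =
        chartCo B.hj (U x) (hU x) (e x) (gLoc v (U x) (e x)) frame_gLoc z := fun x z => by
    rw [← rCo_eq_of_cls B.hj hr (hU := hU x) frame_gLoc]
    rfl
  have hV : ∀ x, r ⁻¹ᵁ V x = X.basicOpen (c x) := fun x => by
    rw [← hw x, ← happ, Scheme.basicOpen_appLE]
    rw [inf_eq_right.mpr]
    exact (r.preimage_mono (B.P.basicOpen_le _)).trans (hD x).le
  refine IsZariskiLocalAtTarget.of_range_subset_iSup (P := @IsImmersion) V ?_ fun x => ?_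
  · rintro _ ⟨x, rfl⟩
    exact Opens.mem_iSup.mpr ⟨x, (hV x).ge (hxc x)⟩
  · have hDa : IsAffineOpen (D x) :=
      (Proj.isAffineOpen_basicOpen _ _ (el_mem B.hj (hU x) (e x)) one_pos).image_of_isOpenImmersion _
    have : IsAffine (V x).toScheme := hDa.basicOpen (Z x)
    have : IsAffine (r ⁻¹ᵁ V x).toScheme := (hV x).symm ▸ (hgood x).affine
    have : IsClosedImmersion (r ∣_ V x) := by
      refine IsClosedImmersion.of_surjective_of_isAffine _ ?_
      rw [morphismRestrict_appTop]
      suffices h : Function.Surjective (r.app ((V x).ι ''ᵁ ⊤)) from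
        (ConcreteCategory.bijective_of_isIso (X.presheaf.map (eqToHom (image_morphismRestrict_preimage r (V x) ⊤)).op)).surjective.comp h
      have hle : X.basicOpen (c x) ≤ r ⁻¹ᵁ ((V x).ι ''ᵁ ⊤) := by
        rw [Scheme.Opens.ι_image_top]; exact (hV x).ge
      intro a
      obtain ⟨n, s, hs, hfrac⟩ := (hgood x).frac (rres hle a)
      rw [← range_chartCo B.hj (hU := hU x) frame_gLoc] at hs
      obtain ⟨z, rfl⟩ := hs
      have hVD : (V x).ι ''ᵁ ⊤ ≤ D x := (Scheme.Opens.ι_image_top _).le.trans (B.P.basicOpen_le _)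
      have hu : IsUnit (rres hVD (Z x)) := by
        have h2 := RingedSpace.isUnit_res_basicOpen B.P.toRingedSpace (Z x)
        have h3 := h2.map (rres (Scheme.Opens.ι_image_top (V x)).le).hom
        exact (congrArg IsUnit (rres_rres _ _ _)).mp h3
      obtain ⟨Zu, hZu⟩ := hu
      refine ⟨rres hVD (chartRing B.j B.p B.chart (U x) (hU x) (e x) z) * ↑Zu⁻¹ ^ n, ?_⟩
      have hbij : Function.Bijective (rres (X := X) hle) := by
        have : X.basicOpen (c x) = r ⁻¹ᵁ ((V x).ι ''ᵁ ⊤) := by rw [Scheme.Opens.ι_image_top]; exact (hV x).symm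
        have : IsIso (rres (X := X) hle) := by
          have e : (homOfLE hle).op = (eqToHom this).op := rfl
          change IsIso (X.presheaf.map (homOfLE hle).op)
          rw [e]
          infer_instance
        exact ConcreteCategory.bijective_of_isIso _
      refine hbij.1 ?_
      have hA : ∀ y : Γ(B.P, D x), rres hle (r.app _ (rres hVD y)) =
          rres (X.basicOpen_le (c x)) (r.appLE (D x) (gLoc v (U x) (e x)) (hD x).ge y) := fun y => by
        have e1 := congr($(r.naturality (homOfLE hVD).op) y)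
        refine (congrArg (rres hle) e1).trans ?_
        exact (rres_rres _ _ _).trans (rres_rres _ _ _).symm
      have hcw : rres (X.basicOpen_le (c x)) (c x) =
          rres hle (r.app _ (rres hVD (Z x))) :=
        ((hA _).trans (congrArg _ ((happ x (w x)).trans (hw x)))).symm
      rw [map_mul, map_mul, hA, happ, ← hfrac, hcw, ← map_pow, ← map_pow, mul_assoc,
        ← map_mul, ← hZu, ← map_mul, ← map_mul, ← mul_pow]
      simp
    infer_instance

end Groth.Agent.ProjBundleLib
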