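import Groth.Agent.ProjBundleLib.CompVA
import Groth.Agent.ProjBundleLib.PushId
import Groth.Agent.ProjBundleLib.Projective
import Groth.Agent.Props.SubExt

/-! Submodules of finite type whose sections already separate. -/

noncomputable section

universe u

open CategoryTheory CategoryTheory.Limits AlgebraicGeometry TopologicalSpace Opposite
open RelProj Groth.Agent.QCoh Groth.Agent.Props.GenLocus Groth.Agent.Props.SubMod Groth.Agent.Props.SubSheaf

namespace Groth.Agent.ProjBundleLib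

variable {X Y : Scheme.{u}}

lemma ftOn_bot (M : Y.Modules) [M.IsQuasicoherent] : FTOn (fun _ => ⊥ : StalkSub M) ⊤ := fun x _ => by
  obtain ⟨V, hV, hxV, -⟩ := exists_isAffineOpen_mem_and_subset (X := Y) (x := x) (U := ⊤) trivial
  exact ⟨V, hV, hxV, le_top, ∅, fun y hy => by simp [spanGerm]⟩

lemma ftOn_sup {M : Y.Modules} [M.IsQuasicoherent] {S S' : StalkSub M} (h : FTOn S ⊤) (h' : FTOn S' ⊤) :
    FTOn (fun y => S y ⊔ S' y : StalkSub M) ⊤ := fun x _ => by
  classical
  obtain ⟨V, hV, hxV, -⟩ := exists_isAffineOpen_mem_and_subset (X := Y) (x := x) (U := ⊤) trivial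
  obtain ⟨T, hT⟩ := exists_genBy h hV le_top
  obtain ⟨T', hT'⟩ := exists_genBy h' hV le_top
  refine ⟨V, hV, hxV, le_top, T ∪ T', fun y hy => ?_⟩
  show S y ⊔ S' y = _
  rw [hT y hy, hT' y hy, spanGerm, spanGerm, spanGerm, Finset.coe_union, Set.image_union, Submodule.span_union]

/-- Finitely many sections over affine opens lie in a submodule of finite type. -/
lemma exists_sub_through [CompactSpace Y] [QuasiSeparatedSpace Y] (M : Y.Modules) [M.IsQuasicoherent]
    {α : Type*} (A : Finset α) (U : α → Y.Opens) (hU : ∀ a, IsAffineOpen (U a)) (T : ∀ a, Finset Γ(M, U a)) :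
    ∃ S : StalkSub M, FTOn S ⊤ ∧ ∀ a ∈ A, ∀ s ∈ T a, s ∈ Set.range ((incl S).app (U a)) := by
  classical
  suffices H : ∀ B : Finset (Σ a, Γ(M, U a)), ∃ S : StalkSub M, FTOn S ⊤ ∧
      ∀ b ∈ B, b.2 ∈ Set.range ((incl S).app (U b.1)) by
    obtain ⟨S, hS, h⟩ := H (A.sigma T)
    exact ⟨S, hS, fun a ha s hs => h ⟨a, s⟩ (Finset.mem_sigma.mpr ⟨ha, hs⟩)⟩
  intro B
  induction B using Finset.induction with
  | empty => exact ⟨_, ftOn_bot M, fun b hb => absurd hb (Finset.notMem_empty b)⟩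
  | insert b B _ ih =>
    obtain ⟨S, hS, h⟩ := ih
    obtain ⟨S', hS', h'⟩ := Props.SubExt.exists_sub_through_section M (U b.1) (hU b.1) b.2
    refine ⟨_, ftOn_sup hS hS', fun c hc => (mem_range_incl _ _).mpr fun y hy => ?_⟩
    rcases Finset.mem_insert.mp hc with rfl | hc
    · exact Submodule.mem_sup_right ((mem_range_incl S' _).mp h' y hy)
    · exact Submodule.mem_sup_left ((mem_range_incl S _).mp (h c hc) y hy)

variable {q : X ⟶ Y} {L : X.Modules} {F : Y.Modules} [F.IsQuasicoherent]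
  {v : F ⟶ (Scheme.Modules.pushforward q).obj L}

/-- Over a qcqs base finitely many sections suffice. -/
theorem exists_ft_sub [CompactSpace Y] [QuasiSeparatedSpace Y] [QuasiCompact q] [LocallyOfFiniteType q]
    (hL : PicF.IsInvertible L) (hv : Gens v) (hi : ClsImm v) :
    ∃ (E : Y.Modules) (_ : E.IsQuasicoherent) (ι : E ⟶ F),
      CohB1.IsFT E ∧ Mono ι ∧ Gens (ι ≫ v) ∧ ClsImm (ι ≫ v) := by
  classical
  have key : ∀ x : X, ∃ (U : Y.Opens) (_ : IsAffineOpen U) (e : Γ(F, U)) (c : Γ(X, gLoc v U e))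
      (Zs : Finset Γ(F, U)), x ∈ X.basicOpen c ∧
      ∀ S : Subring Γ(X, gLoc v U e), (∀ a, q.appLE U _ gLoc_le a ∈ S) →
        (∀ z ∈ Zs, ∀ cz : Γ(X, gLoc v U e),
          res L (gLoc_le : gLoc v U e ≤ q ⁻¹ᵁ U) (vsec v U z) =
            cz • res L (gLoc_le : gLoc v U e ≤ q ⁻¹ᵁ U) (vsec v U e) → cz ∈ S) →
        c ∈ S ∧ Good S c := fun x => by
    obtain ⟨U, hU, hx⟩ := exists_affine_mem (g := q) x
    obtain ⟨e, c, Zs, h1, h2⟩ := exists_finite_piece hv hi hU hx
    exact ⟨U, hU, e, c, Zs, h1, h2⟩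
  choose U hU e c Zs hxc hS using key
  have hXc : IsCompact (Set.univ : Set X) := by
    have : IsCompact ((q ⁻¹ᵁ ⊤ : X.Opens) : Set X) := q.isCompact_preimage (U := (⊤ : Y.Opens)) isCompact_univ
    exact this
  obtain ⟨A, hA⟩ := hXc.elim_finite_subcover (fun x => (X.basicOpen (c x) : Set X))
    (fun x => (X.basicOpen (c x)).2) fun x _ => Set.mem_iUnion.mpr ⟨x, hxc x⟩
  obtain ⟨S, hSft, hSmem⟩ := exists_sub_through F A U hU fun x => insert (e x) (Zs x)
  have := isQuasicoherent_sub hSft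
  refine ⟨sub S, this, incl S, isFiniteType_sub hSft, inferInstance, ?_⟩
  have H : ∀ x' : X, ∃ (V : Y.Opens) (_ : IsAffineOpen V) (e' : Γ(sub S, V))
      (c' : Γ(X, gLoc (incl S ≫ v) V e')),
      c' ∈ coefRing (incl S ≫ v) V e' (gLoc (incl S ≫ v) V e') ∧ x' ∈ X.basicOpen c' ∧
        Good (coefRing (incl S ≫ v) V e' (gLoc (incl S ≫ v) V e')) c' := by
    intro x'
    obtain ⟨x, hxA, hx'⟩ := Set.mem_iUnion₂.mp (hA (Set.mem_univ x'))
    obtain ⟨e', he'⟩ := hSmem x hxA (e x) (Finset.mem_insert_self _ _)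
    have hvs : ∀ z : Γ(sub S, U x), vsec (incl S ≫ v) (U x) z = vsec v (U x) ((incl S).app (U x) z) :=
      fun _ => rfl
    have hloc : gLoc (incl S ≫ v) (U x) e' = gLoc v (U x) (e x) := by
      rw [← locus_eq_gLoc, ← locus_eq_gLoc, hvs, he']
    have hG : gLoc v (U x) (e x) ≤ q ⁻¹ᵁ U x := gLoc_le
    obtain ⟨hc, hgood⟩ := hS x (coefRing (incl S ≫ v) (U x) e' (gLoc v (U x) (e x)))
      (fun a => appLE_mem_coefRing hG a) fun z hz cz hcz => by
        obtain ⟨z', hz'⟩ := hSmem x hxA z (Finset.mem_insert_of_mem hz)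
        refine coef_mem_coefRing (z := z') hG ?_
        rw [hvs, hvs, hz', he']
        exact hcz
    exact ⟨U x, hU x, e', exists_good_of_eq hloc hc hgood hx'⟩
  have hg : Gens (incl S ≫ v) := gens_of_frames hL fun x => by
    obtain ⟨V, -, e', c', -, hx, -⟩ := H x
    exact ⟨V, e', _, X.basicOpen_le c' hx, frame_gLoc⟩
  exact ⟨hg, clsImm_of_good hg H⟩

omit [F.IsQuasicoherent] in
/-- A very ample module lives on an immersion into the bundle of a finite type module. -/
theorem exists_ft_bundle [CompactSpace Y] [QuasiSeparatedSpace Y] [QuasiCompact q] [LocallyOfFiniteType q]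
    (hL : PicF.IsInvertible L) (h : IsRelVeryAmple q L) :
    ∃ (E : Y.Modules) (_ : E.IsQuasicoherent) (B : Bundle E) (i : X ⟶ B.P),
      CohB1.IsFT E ∧ IsImmersion i ∧ i ≫ B.p = q ∧ Nonempty (L ≅ (Scheme.Modules.pullback i).obj B.O1) := by
  obtain ⟨_, hv, hi⟩ := push_of_isRelVeryAmple hL h
  obtain ⟨E, hE, ι, hft, -, hg, B, r, hr, hri⟩ := exists_ft_sub hL hv hi
  obtain ⟨τ, -⟩ := exists_compat B.hj B.hP B.hO1 B.hφ hg hr
  exact ⟨E, hE, B, r, hft, hri, Cls.comp_eq B.hj B.hP hg hr, ⟨τ.symm⟩⟩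

omit [F.IsQuasicoherent] in
/-- A proper morphism with an immersion into the bundle of a finite type module is projective. -/
theorem isProjective_of_immersion [IsProper q] {E : Y.Modules} [E.IsQuasicoherent] (hE : CohB1.IsFT E)
    (B : Bundle E) (i : X ⟶ B.P) [IsImmersion i] (hi : i ≫ B.p = q) : RelProj.IsProjective q := by
  have : IsProper B.p := ProjMor.isProper_of_isProjective (isProjective_bundle hE B)
  have : IsProper (i ≫ B.p) := by rw [hi]; infer_instance
  have : IsProper i := IsProper.of_comp i B.p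
  have : IsClosedImmersion i := IsClosedImmersion.of_isPreimmersion i i.isClosedMap.isClosed_range
  exact isProjective_of_closedImmersion hE B i hi

end Groth.Agent.ProjBundleLib
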