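import Mathlib.AlgebraicGeometry.ProjectiveSpectrum.Basic
import Mathlib.AlgebraicGeometry.ProjectiveSpectrum.Functor

/-!
Morphisms into a standard chart `D₊(g)` of `Proj` of a ring graded by additive subgroups.
-/

set_option autoImplicit false
universe u v

open CategoryTheory AlgebraicGeometry TopologicalSpace Opposite HomogeneousLocalization

noncomputable section

namespace Groth.Agent.ProjBundleLib

variable {A σ : Type u} [CommRing A] [SetLike σ A] [AddSubgroupClass σ A] {𝒜 : ℕ → σ}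
  [GradedRing 𝒜]

section lift

variable {B : Type u} [CommRing B] (f : A →+* B) {g : A} (hu : IsUnit (f g))

variable (𝒜) in
/-- The ring map `A_(g) → B` induced by `f : A → B` with `f g` a unit. -/
def liftAway : Away 𝒜 g →+* B :=
  (IsLocalization.Away.lift (S := Localization.Away g) g hu).comp (algebraMap (Away 𝒜 g) (Localization.Away g))

lemma liftAway_apply (z : Away 𝒜 g) :
    liftAway 𝒜 f hu z = IsLocalization.Away.lift (S := Localization.Away g) g hu z.val := rfl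

lemma liftAway_mk {k : ℕ} (hg : g ∈ 𝒜 k) (d : ℕ) (a : A) (ha : a ∈ 𝒜 (d • k)) :
    liftAway 𝒜 f hu (Away.mk 𝒜 hg d a ha) * f g ^ d = f a := by
  rw [liftAway_apply, Away.val_mk, Localization.mk_eq_mk', ← map_pow,
    ← IsLocalization.Away.lift_eq (S := Localization.Away g) g hu (g ^ d), ← map_mul]
  exact (congrArg _ (IsLocalization.mk'_spec (Localization.Away g) a
    (⟨g ^ d, d, rfl⟩ : Submonoid.powers g))).trans (IsLocalization.Away.lift_eq g hu a)

/-- The homs that differ by the `d`-th power of a factor in degree `d` have the same chart map. -/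
lemma liftAway_congr {f' : A →+* B} (hu' : IsUnit (f' g)) (w : B)
    (h : ∀ (d : ℕ) (a : A), a ∈ 𝒜 d → f' a = w ^ d * f a) {k : ℕ} (hg : g ∈ 𝒜 k) :
    liftAway 𝒜 f' hu' = liftAway (g := g) 𝒜 f hu := by
  refine RingHom.ext fun z => ?_
  obtain ⟨d, a, ha, rfl⟩ := Away.mk_surjective 𝒜 hg z
  refine (hu'.pow d).mul_right_cancel ((liftAway_mk f' hu' hg d a ha).trans ?_)
  rw [h _ _ ha, h _ _ hg, smul_eq_mul, mul_pow, ← pow_mul, mul_comm k d,
    ← liftAway_mk f hu hg d a ha]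
  ring

lemma liftAway_awayMap {e : ℕ} {g' : A} (hg' : g' ∈ 𝒜 e) {x : A} (hx : x = g * g')
    (hux : IsUnit (f x)) :
    (liftAway 𝒜 f hux).comp (awayMap 𝒜 hg' hx) = liftAway 𝒜 f hu := by
  refine RingHom.ext fun z => ?_
  rw [RingHom.comp_apply, liftAway_apply, liftAway_apply, val_awayMap]
  refine DFunLike.congr_fun (f := (IsLocalization.Away.lift (S := Localization.Away x) x hux).comp
    (Localization.awayLift (algebraMap A _) g _)) ?_ z.val
  refine IsLocalization.ringHom_ext (Submonoid.powers g) (RingHom.ext fun a => ?_)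
  simp [IsLocalization.Away.lift_eq]

lemma liftAway_fromZero (a : 𝒜 0) :
    liftAway 𝒜 f hu (fromZeroRingHom 𝒜 (Submonoid.powers g) a) = f a := by
  rw [liftAway_apply]
  refine (congrArg _ (?_ : (fromZeroRingHom 𝒜 (Submonoid.powers g) a).val =
    algebraMap A (Localization.Away g) a)).trans (IsLocalization.Away.lift_eq g hu _)
  simp [fromZeroRingHom]
  rfl

lemma comp_liftAway {B' : Type u} [CommRing B'] (φ : B →+* B') :
    φ.comp (liftAway 𝒜 f hu) = liftAway (g := g) 𝒜 (φ.comp f) (hu.map φ) := by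
  refine RingHom.ext fun z => ?_
  rw [RingHom.comp_apply, liftAway_apply, liftAway_apply]
  refine DFunLike.congr_fun (f := φ.comp (IsLocalization.Away.lift (S := Localization.Away g) g hu)) ?_ z.val
  refine IsLocalization.ringHom_ext (Submonoid.powers g) (RingHom.ext fun a => ?_)
  simp [IsLocalization.Away.lift_eq]

end lift

variable {X : Scheme.{u}}

variable (𝒜) in
/-- The morphism `W ⟶ D₊(g) ⊆ Proj A` given by a ring map `A_(g) → Γ(X, W)`. -/
def awayHom (W : X.Opens) {g : A} {k : ℕ} (hg : g ∈ 𝒜 k) (hk : 0 < k)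
    (φ : Away 𝒜 g →+* Γ(X, W)) : (W : Scheme.{u}) ⟶ Proj 𝒜 :=
  W.toSpecΓ ≫ Spec.map (CommRingCat.ofHom φ) ≫ Proj.awayι 𝒜 g hg hk

variable {W V : X.Opens} {g : A} {k : ℕ} {hg : g ∈ 𝒜 k} {hk : 0 < k}

lemma homOfLE_awayHom (h : V ≤ W) (φ : Away 𝒜 g →+* Γ(X, W)) :
    X.homOfLE h ≫ awayHom 𝒜 W hg hk φ =
      awayHom 𝒜 V hg hk ((X.presheaf.map (homOfLE h).op).hom.comp φ) := by
  simp only [awayHom, CommRingCat.ofHom_comp, Spec.map_comp, Category.assoc]
  rw [← Scheme.Opens.toSpecΓ_SpecMap_presheaf_map_assoc V W h]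
  rfl

/-- Enlarging the denominator does not change the morphism. -/
lemma awayHom_eq_mul (f : A →+* Γ(X, W)) (hu : IsUnit (f g)) {e : ℕ} {g' : A} (hg' : g' ∈ 𝒜 e)
    {x : A} (hx : x = g * g') (hux : IsUnit (f x)) :
    awayHom 𝒜 W hg hk (liftAway 𝒜 f hu) =
      awayHom 𝒜 W (hx ▸ SetLike.mul_mem_graded hg hg' : x ∈ 𝒜 (k + e))
        (hk.trans_le (k.le_add_right e)) (liftAway 𝒜 f hux) := by
  simp only [awayHom, ← liftAway_awayMap f hu hg' hx hux, CommRingCat.ofHom_comp, Spec.map_comp,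
    Category.assoc, Proj.SpecMap_awayMap_awayι 𝒜 hg hk hg' hx]

lemma awayHom_toSpecZero (φ : Away 𝒜 g →+* Γ(X, W)) :
    awayHom 𝒜 W hg hk φ ≫ Proj.toSpecZero 𝒜 =
      W.toSpecΓ ≫ Spec.map (CommRingCat.ofHom (φ.comp (fromZeroRingHom 𝒜 _))) := by
  simp only [awayHom, Category.assoc, Proj.awayι_toSpecZero, ← Spec.map_comp, CommRingCat.ofHom_comp]

lemma awayHom_preimage (φ : Away 𝒜 g →+* Γ(X, W)) {h : A} {k' : ℕ} (hh : h ∈ 𝒜 k') (hk' : 0 < k') :
    awayHom 𝒜 W hg hk φ ⁻¹ᵁ Proj.basicOpen 𝒜 h =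
      W.ι ⁻¹ᵁ X.basicOpen (φ (Away.isLocalizationElem hg hh)) := by
  rw [awayHom, Scheme.Hom.comp_preimage, Scheme.Hom.comp_preimage,
    Proj.awayι_preimage_basicOpen 𝒜 hg hk hh hk']
  exact W.toSpecΓ_preimage_basicOpen _

lemma liftAway_isLocalizationElem (f : A →+* Γ(X, W)) (hu : IsUnit (f g)) {h : A} {k' : ℕ}
    (hh : h ∈ 𝒜 k') (hk0 : 0 < k) :
    X.basicOpen (liftAway 𝒜 f hu (Away.isLocalizationElem hg hh)) = X.basicOpen (f h) := by
  have := liftAway_mk (𝒜 := 𝒜) f hu hg k' (h ^ k)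
    (by rw [smul_eq_mul, mul_comm, ← smul_eq_mul]; exact SetLike.pow_mem_graded k hh)
  have h1 : X.basicOpen (f h) = X.basicOpen (f (h ^ k)) := by
    rw [map_pow, Scheme.basicOpen_pow _ _ hk0]
  rw [h1, ← this, Scheme.basicOpen_mul, Scheme.basicOpen_of_isUnit _ (hu.pow k'),
    inf_eq_left.mpr (X.basicOpen_le _)]

/-- A morphism to `Proj A` on the preimage of a chart is given by its comorphism. -/
lemma ι_comp_eq_awayHom (r : X ⟶ Proj 𝒜) (hW : W ≤ r ⁻¹ᵁ Proj.basicOpen 𝒜 g) :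
    W.ι ≫ r = awayHom 𝒜 W hg hk
      ((r.appLE (Proj.basicOpen 𝒜 g) W hW).hom.comp (Proj.awayToSection 𝒜 g).hom) := by
  have key : (Proj.basicOpen 𝒜 g).toSpecΓ ≫ Spec.map (Proj.awayToSection 𝒜 g) ≫
      Proj.awayι 𝒜 g hg hk = (Proj.basicOpen 𝒜 g).ι := by
    rw [← Category.assoc, show (Proj.basicOpen 𝒜 g).toSpecΓ ≫ Spec.map (Proj.awayToSection 𝒜 g) =
      (Proj.basicOpenIsoSpec 𝒜 g hg hk).hom from rfl, Proj.awayι, Iso.hom_inv_id_assoc]
  simp only [awayHom, CommRingCat.ofHom_comp, CommRingCat.ofHom_hom, Spec.map_comp, Category.assoc]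
  rw [Scheme.Opens.toSpecΓ_SpecMap_appLE_assoc r (Proj.basicOpen 𝒜 g) W hW]
  refine Eq.trans ?_ (congrArg (r.resLE (Proj.basicOpen 𝒜 g) W hW ≫ ·) key).symm
  exact (r.resLE_comp_ι hW).symm

/-- A ring map out of `A_(g)` is determined by the morphism it gives. -/
lemma appLE_eq_of_ι_comp_eq (r : X ⟶ Proj 𝒜) (hW : W ≤ r ⁻¹ᵁ Proj.basicOpen 𝒜 g)
    (φ : Away 𝒜 g →+* Γ(X, W)) (h : W.ι ≫ r = awayHom 𝒜 W hg hk φ) :
    (r.appLE (Proj.basicOpen 𝒜 g) W hW).hom.comp (Proj.awayToSection 𝒜 g).hom = φ := by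
  rw [ι_comp_eq_awayHom (hg := hg) (hk := hk) r hW] at h
  simp only [awayHom, ← Category.assoc, cancel_mono] at h
  have h2 := congrArg Scheme.Hom.appTop h
  simp only [Scheme.Hom.comp_appTop, Scheme.Opens.toSpecΓ_appTop, Scheme.ΓSpecIso_naturality_assoc,
    cancel_epi] at h2
  exact congrArg CommRingCat.Hom.hom ((cancel_mono _).mp h2)

/-- The inclusion of a chart is given by its ring of functions. -/
lemma ι_comp_eq_awayHom_id :
    (Proj.basicOpen 𝒜 g).ι = awayHom 𝒜 (Proj.basicOpen 𝒜 g) hg hk (Proj.awayToSection 𝒜 g).hom := by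
  simp only [awayHom, CommRingCat.ofHom_hom]
  rw [← Category.assoc, show (Proj.basicOpen 𝒜 g).toSpecΓ ≫ Spec.map (Proj.awayToSection 𝒜 g) =
    (Proj.basicOpenIsoSpec 𝒜 g hg hk).hom from rfl, Proj.awayι, Iso.hom_inv_id_assoc]

end Groth.Agent.ProjBundleLib

end
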