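import Groth.Agent.ProjBundleLib.Away
import Groth.Agent.GrModLib.ModFT
import Groth.Agent.GrModLib.Shift
import Groth.Agent.GrModLib.QC
import Mathlib.RingTheory.Finiteness.ModuleFinitePresentation
import Mathlib.RingTheory.FinitePresentation

/-! Functions and twisted sections on `D₊(f)` of a finitely presented graded algebra are finitely presented. -/

noncomputable section

universe u

open DirectSum CategoryTheory AlgebraicGeometry TopologicalSpace Opposite HomogeneousLocalization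
open Groth.Agent.GrModLib

namespace Groth.Agent.ProjBundleLib.AwayFP

variable {A σ : Type u} [CommRing A] [SetLike σ A] [AddSubgroupClass σ A] (𝒜 : ℕ → σ) [GradedRing 𝒜]
  {d : ℕ} {f : A} (hf : f ∈ 𝒜 d) (hd : 0 < d)

/-- `A / (f - 1)`. -/
abbrev Q (f : A) : Type u := A ⧸ Ideal.span {f - 1}

lemma mk_f : Ideal.Quotient.mk (Ideal.span {f - 1}) f = 1 :=
  (Ideal.Quotient.mk_eq_mk_iff_sub_mem f 1).2 (Ideal.mem_span_singleton_self _)

include hf hd in
/-- The functions on `D₊(f)` map into `A / (f - 1)`. -/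
lemma exists_coef : ∃ ι : Γ(Proj 𝒜, Proj.basicOpen 𝒜 f) →+* Q f,
    ∀ (k : ℕ) (a : A) (ha : a ∈ 𝒜 (k * d)), ι (fracO hf ha) = Ideal.Quotient.mk _ a := by
  let e := RingEquiv.ofBijective (Proj.awayToSection 𝒜 f).hom
    (ConcreteCategory.bijective_of_isIso (Proj.basicOpenIsoAway 𝒜 f hf hd).hom)
  let F : Away 𝒜 f →+* Q f := ProjBundleLib.liftAway 𝒜 (Ideal.Quotient.mk _) (g := f) (by rw [mk_f]; exact isUnit_one)
  refine ⟨F.comp e.symm.toRingHom, fun k a ha => ?_⟩
  have h : e.symm (fracO hf ha) = Away.mk 𝒜 hf k a (by simpa using ha) := e.symm_apply_apply _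
  change F (e.symm (fracO hf ha)) = _
  rw [h]
  have h2 := ProjBundleLib.liftAway_mk (𝒜 := 𝒜) (Ideal.Quotient.mk (Ideal.span {f - 1})) (g := f)
    (by rw [mk_f]; exact isUnit_one) hf k a (by simpa using ha)
  simpa only [mk_f, one_pow, mul_one] using h2

variable (n : ℤ)

/-- `a / f ^ e` is the section `s`. -/
def Rep (s : Γ(GrMod.tilde 𝒜 𝒜 n, Proj.basicOpen 𝒜 f)) (e i : ℕ) (a : A) : Prop :=
  a ∈ 𝒜 i ∧ (i : ℤ) = (e : ℤ) * d + n ∧
    ∀ (x : ProjectiveSpectrum 𝒜) (hx : f ∉ x.asHomogeneousIdeal),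
      valAt (asSect s) x hx = GrModLib.mk x a (f ^ e) (GrModLib.pow_nin hx e)

include hf hd in
lemma exists_rep (s : Γ(GrMod.tilde 𝒜 𝒜 n, Proj.basicOpen 𝒜 f)) : ∃ e i a, Rep 𝒜 (d := d) n s e i a := by
  obtain ⟨e, i, a, h⟩ := GrModLib.exists_frac (ℳ := 𝒜) hf hd n (U := Proj.basicOpen 𝒜 f) (fun _ hx => hx) (asSect s)
  exact ⟨e, i, a, h⟩

include hf hd in
lemma rep_unique {s : Γ(GrMod.tilde 𝒜 𝒜 n, Proj.basicOpen 𝒜 f)} {e i e' i' : ℕ} {a a' : A}
    (h : Rep 𝒜 (d := d) n s e i a) (h' : Rep 𝒜 (d := d) n s e' i' a') :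
    Ideal.Quotient.mk (Ideal.span {f - 1}) a = Ideal.Quotient.mk _ a' := by
  have hm : f ^ e' * a - f ^ e * a' ∈ 𝒜 (e' * d + i) := by
    refine sub_mem (SetLike.mul_mem_graded (GrModLib.pow_mem_deg' hf e') h.1) ?_
    have e1 : e * d + i' = e' * d + i := by have := h.2.1; have := h'.2.1; zify; linarith
    exact e1 ▸ SetLike.mul_mem_graded (GrModLib.pow_mem_deg' hf e) h'.1
  obtain ⟨N, hN⟩ := GrModLib.exists_pow_smul_eq_zero (ℳ := 𝒜) hm hf hd fun x hx => by
    obtain ⟨c, hc, hc0⟩ := GrModLib.mk_eq_mk_iff.1 ((h.2.2 x hx).symm.trans (h'.2.2 x hx))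
    exact ⟨c, hc, hc0⟩
  have := congrArg (Ideal.Quotient.mk (Ideal.span {f - 1})) hN
  simp only [smul_eq_mul, map_mul, map_pow, map_sub, mk_f, one_pow, one_mul, map_zero] at this
  exact sub_eq_zero.1 this

/-- The section `a / f ^ e`. -/
def sec {e i : ℕ} {a : A} (ha : a ∈ 𝒜 i) (hi : (i : ℤ) = (e : ℤ) * d + n) :
    Γ(GrMod.tilde 𝒜 𝒜 n, Proj.basicOpen 𝒜 f) :=
  show GrMod.sect 𝒜 𝒜 n (op (Proj.basicOpen 𝒜 f)) from
    fracSec ha (GrModLib.pow_mem_deg' hf e) n (by push_cast; exact hi) fun x => GrModLib.pow_nin x.2 e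

lemma rep_sec {e i : ℕ} {a : A} (ha : a ∈ 𝒜 i) (hi : (i : ℤ) = (e : ℤ) * d + n) :
    Rep 𝒜 (d := d) n (sec 𝒜 hf n ha hi) e i a := ⟨ha, hi, fun _ _ => rfl⟩

lemma sec_eq {s : Γ(GrMod.tilde 𝒜 𝒜 n, Proj.basicOpen 𝒜 f)} {e i e' i' : ℕ} {a a' : A}
    {ha : a ∈ 𝒜 i} {hi : (i : ℤ) = (e : ℤ) * d + n} (h : Rep 𝒜 (d := d) n s e' i' a')
    (he : f ^ e' * a = f ^ e * a') : sec 𝒜 hf n ha hi = s := by
  refine tilde_ext fun x hx => Eq.trans (b := GrModLib.mk x a (f ^ e) (GrModLib.pow_nin hx e)) rfl ?_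
  rw [h.2.2 x hx, GrModLib.mk_eq_mk_iff]
  exact ⟨1, GrMod.one_nin x, by simp only [smul_eq_mul, one_mul, he, sub_self]⟩

include hf in
lemma rep_add {s t : Γ(GrMod.tilde 𝒜 𝒜 n, Proj.basicOpen 𝒜 f)} {e i e' i' : ℕ} {a b : A}
    (h : Rep 𝒜 (d := d) n s e i a) (h' : Rep 𝒜 (d := d) n t e' i' b) :
    Rep 𝒜 (d := d) n (s + t) (e + e') (e' * d + i) (f ^ e' * a + f ^ e * b) := by
  have e1 : e * d + i' = e' * d + i := by have := h.2.1; have := h'.2.1; zify; linarith
  have hm : f ^ e' * a + f ^ e * b ∈ 𝒜 (e' * d + i) :=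
    add_mem (SetLike.mul_mem_graded (GrModLib.pow_mem_deg' hf e') h.1)
      (e1 ▸ SetLike.mul_mem_graded (GrModLib.pow_mem_deg' hf e) h'.1)
  refine ⟨hm, by have := h.2.1; push_cast; linarith, fun x hx => ?_⟩
  refine Eq.trans (b := valAt (asSect s) x hx + valAt (asSect t) x hx) rfl ?_
  rw [h.2.2 x hx, h'.2.2 x hx, LocalizedModule.mk_add_mk]
  refine LocalizedModule.mk_eq.2 ⟨1, ?_⟩
  simp only [Submonoid.smul_def, Submonoid.coe_mul, OneMemClass.coe_one, smul_eq_mul, pow_add]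
  try ring

include hf hd in
/-- The sections of `O(n)` on `D₊(f)` are a direct summand of `A / (f - 1)`. -/
theorem exists_retract (ι : Γ(Proj 𝒜, Proj.basicOpen 𝒜 f) →+* Q f)
    (hι : ∀ (k : ℕ) (a : A) (ha : a ∈ 𝒜 (k * d)), ι (fracO hf ha) = Ideal.Quotient.mk _ a) :
    ∃ (j : Γ(GrMod.tilde 𝒜 𝒜 n, Proj.basicOpen 𝒜 f) →+ Q f) (π : Q f →+ Γ(GrMod.tilde 𝒜 𝒜 n, Proj.basicOpen 𝒜 f)),
      (∀ c s, j (c • s) = ι c * j s) ∧ (∀ c z, π (ι c * z) = c • π z) ∧ ∀ s, π (j s) = s := by
  classical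
  choose e i a hr using exists_rep 𝒜 hf hd n
  let jf := fun s => Ideal.Quotient.mk (Ideal.span {f - 1}) (a s)
  have jadd : ∀ s t, jf (s + t) = jf s + jf t := fun s t => by
    have h := rep_add 𝒜 hf n (hr s) (hr t)
    refine (rep_unique 𝒜 hf hd n (hr _) h).trans ?_
    simp only [jf, map_add, map_mul, map_pow, mk_f, one_pow, one_mul]
  have smul_rep : ∀ (k : ℕ) (b : A) (hb : b ∈ 𝒜 (k * d)) (s : Γ(GrMod.tilde 𝒜 𝒜 n, Proj.basicOpen 𝒜 f))
      {e₀ i₀ : ℕ} {a₀ : A}, Rep 𝒜 (d := d) n s e₀ i₀ a₀ →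
      Rep 𝒜 (d := d) n (fracO hf hb • s) (k + e₀) (k * d + i₀) (b * a₀) := fun k b hb s e₀ i₀ a₀ h => by
    refine ⟨SetLike.mul_mem_graded hb h.1, by have := h.2.1; push_cast; linarith, fun x hx => ?_⟩
    rw [valAt_smul' _ s x hx, fval_fracO hf hb x hx, h.2.2 x hx]
    refine (LocalizedModule.mk_smul_mk _ _ _ _).trans ?_
    exact congrArg (LocalizedModule.mk _) (Subtype.ext (pow_add f k e₀).symm)
  have jsmul : ∀ c s, jf (c • s) = ι c * jf s := fun c s => by
    obtain ⟨k, b, hb, rfl⟩ := exists_fracO hf hd c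
    rw [hι]
    exact (rep_unique 𝒜 hf hd n (hr _) (smul_rep k b hb s (hr s))).trans (map_mul _ _ _)
  -- the projection
  have exu : ∀ (m : ℕ), (d : ℤ) ∣ (m : ℤ) - n → ∃ t e₀ : ℕ, ((t * d + m : ℕ) : ℤ) = (e₀ : ℤ) * d + n := by
    intro m ⟨q, hq⟩
    refine ⟨(-q).toNat, q.toNat, ?_⟩
    have : (q.toNat : ℤ) - (-q).toNat = q := Int.toNat_sub_toNat_neg q
    push_cast
    nlinarith
  choose T E₀ hT using exu
  let S : ∀ m : ℕ, 𝒜 m →+ Γ(GrMod.tilde 𝒜 𝒜 n, Proj.basicOpen 𝒜 f) := fun m =>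
    if h : (d : ℤ) ∣ (m : ℤ) - n then
      AddMonoidHom.mk' (fun b => sec 𝒜 hf n (SetLike.mul_mem_graded (GrModLib.pow_mem_deg' hf (T m h)) b.2) (hT m h))
        fun b c => by
          refine tilde_ext fun x hx => ?_
          refine Eq.trans ?_ (LocalizedModule.mk_add_mk (s1 := ⟨f ^ E₀ m h, GrModLib.pow_nin hx _⟩)
            (s2 := ⟨f ^ E₀ m h, GrModLib.pow_nin hx _⟩)).symm
          refine LocalizedModule.mk_eq.2 ⟨1, ?_⟩
          simp only [Submonoid.smul_def, Submonoid.coe_mul, OneMemClass.coe_one, smul_eq_mul, AddMemClass.coe_add]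
          ring
    else 0
  let P : A →+ Γ(GrMod.tilde 𝒜 𝒜 n, Proj.basicOpen 𝒜 f) :=
    (DirectSum.toAddMonoid S).comp (DirectSum.decomposeAddEquiv 𝒜).toAddMonoidHom
  have P_hom : ∀ {m : ℕ} (b : A) (hb : b ∈ 𝒜 m), P b = S m ⟨b, hb⟩ := fun {m} b hb => by
    change DirectSum.toAddMonoid S (DirectSum.decompose 𝒜 b) = _
    rw [DirectSum.decompose_of_mem 𝒜 hb]
    exact DirectSum.toAddMonoid_of _ _ _
  have P_rep : ∀ {m e₁ : ℕ} (b : A) (hb : b ∈ 𝒜 m) (t : ℕ) (hi : ((t * d + m : ℕ) : ℤ) = (e₁ : ℤ) * d + n),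
      P b = sec 𝒜 hf n (SetLike.mul_mem_graded (GrModLib.pow_mem_deg' hf t) hb) hi := fun {m e₁} b hb t hi => by
    have h : (d : ℤ) ∣ (m : ℤ) - n := ⟨(e₁ : ℤ) - t, by push_cast at hi; linarith⟩
    rw [P_hom b hb]
    simp only [S, dif_pos h, AddMonoidHom.mk'_apply]
    refine sec_eq 𝒜 hf n (rep_sec 𝒜 hf n _ hi) ?_
    rw [← mul_assoc, ← mul_assoc, ← pow_add, ← pow_add]
    congr 2
    have h1 := hT m h
    push_cast at h1 hi
    have : ((e₁ : ℤ) + T m h) * d = ((E₀ m h : ℤ) + t) * d := by linarith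
    have := mul_right_cancel₀ (show (d : ℤ) ≠ 0 by omega) this
    omega
  have P_smul : ∀ (k : ℕ) (c : A) (hc : c ∈ 𝒜 (k * d)) (b : A), P (c * b) = fracO hf hc • P b := by
    intro k c hc b
    induction b using DirectSum.Decomposition.inductionOn 𝒜 with
    | zero => simp
    | add x y hx hy => rw [mul_add, map_add, map_add, hx, hy, smul_add]
    | homogeneous b =>
      rename_i m
      obtain ⟨b, hb⟩ := b
      have hcb : c * b ∈ 𝒜 (k * d + m) := SetLike.mul_mem_graded hc hb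
      by_cases h : (d : ℤ) ∣ (m : ℤ) - n
      · rw [P_rep b hb (T m h) (hT m h)]
        rw [P_rep (c * b) hcb (T m h) (e₁ := k + E₀ m h) (by have := hT m h; push_cast at this ⊢; linarith)]
        refine sec_eq 𝒜 hf n (smul_rep k c hc _ (rep_sec 𝒜 hf n _ (hT m h))) ?_
        ring
      · rw [P_hom b hb, P_hom _ hcb]
        simp only [S, dif_neg h]
        rw [dif_neg]
        · simp
        · intro h'
          refine h ?_
          have h2 := dvd_sub h' (dvd_mul_left (d : ℤ) k)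
          push_cast at h2
          rwa [show (k : ℤ) * d + m - n - k * d = m - n by ring] at h2
  have hPf : ∀ x, P (f * x) = P x := fun x => by
    rw [P_smul 1 f (by rwa [one_mul]) x]
    have : fracO hf (show f ∈ 𝒜 (1 * d) by rwa [one_mul]) = 1 := funVal_ext fun y hy => by
      refine (fval_fracO hf _ y hy).trans ?_
      rw [funVal_one, ← Localization.mk_one, Localization.mk_eq_mk_iff, Localization.r_iff_exists]
      exact ⟨1, by simp⟩
    rw [this, one_smul]
  have hker : ∀ z ∈ Ideal.span {f - 1}, P z = 0 := fun z hz => by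
    obtain ⟨y, rfl⟩ := Ideal.mem_span_singleton'.1 hz
    rw [mul_sub, mul_one, map_sub, mul_comm, hPf, sub_self]
  let π : Q f →+ Γ(GrMod.tilde 𝒜 𝒜 n, Proj.basicOpen 𝒜 f) :=
    QuotientAddGroup.lift (Ideal.span {f - 1}).toAddSubgroup P fun z hz => hker z hz
  have hπ : ∀ z, π (Ideal.Quotient.mk _ z) = P z := fun z => rfl
  refine ⟨AddMonoidHom.mk' jf jadd, π, jsmul, fun c z => ?_, fun s => ?_⟩
  · obtain ⟨k, b, hb, rfl⟩ := exists_fracO hf hd c
    obtain ⟨z, rfl⟩ := Ideal.Quotient.mk_surjective z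
    rw [hι, ← map_mul, hπ, hπ, P_smul]
  · change π (Ideal.Quotient.mk _ (a s)) = s
    rw [hπ, P_rep (a s) (hr s).1 0 (e₁ := e s) (by have := (hr s).2.1; push_cast; linarith)]
    exact sec_eq 𝒜 hf n (hr s) (by ring)

include hf hd in
/-- Sections of `O(0)` on `D₊(f)` are the functions. -/
lemma bijective_smul_one :
    Function.Bijective fun c : Γ(Proj 𝒜, Proj.basicOpen 𝒜 f) =>
      c • sec 𝒜 hf (0 : ℤ) (e := 0) (i := 0) (SetLike.GradedOne.one_mem (A := 𝒜)) (by simp) := by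
  constructor
  · intro c c' h
    refine funVal_ext fun x hx => ?_
    have := congrArg (fun t => valAt (asSect t) x hx) h
    simp only [valAt_smul' _ _ x hx] at this
    have key : ∀ q : GrTwist.Loc 𝒜 x, q • GrModLib.mk x (1 : A) (f ^ 0) (GrModLib.pow_nin hx 0) = q := fun q => by
      induction q using Localization.induction_on with
      | H z =>
        refine (LocalizedModule.mk_smul_mk _ _ _ _).trans ?_
        exact LocalizedModule.mk_eq.2 ⟨1, by simp [Submonoid.smul_def]⟩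
    exact (key _).symm.trans (this.trans (key _))
  · intro s
    obtain ⟨e, i, a, h⟩ := exists_rep 𝒜 hf hd 0 s
    have ha : a ∈ 𝒜 (e * d) := by
      have h1 := h.2.1
      rw [add_zero] at h1
      exact (show i = e * d by exact_mod_cast h1) ▸ h.1
    refine ⟨fracO hf ha, tilde_ext fun x hx => ?_⟩
    rw [valAt_smul' _ _ x hx, fval_fracO hf ha x hx, h.2.2 x hx]
    refine (LocalizedModule.mk_smul_mk _ _ _ _).trans (LocalizedModule.mk_eq.2 ⟨1, ?_⟩)
    simp [Submonoid.smul_def]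

lemma fg_of_retract {R M N : Type u} [CommRing R] [AddCommGroup M] [Module R M] [AddCommGroup N] [Module R N]
    [Module.FinitePresentation R M] (j : N →ₗ[R] M) (π : M →ₗ[R] N) (h : ∀ x, π (j x) = x) :
    Module.FinitePresentation R N := by
  refine Module.finitePresentation_of_surjective π (fun x => ⟨j x, h x⟩) ?_
  have : LinearMap.ker π = LinearMap.range (LinearMap.id - j.comp π) := by
    ext x
    refine ⟨fun hx => ⟨x, by simp [LinearMap.mem_ker.1 hx]⟩, ?_⟩
    rintro ⟨y, rfl⟩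
    simp [h]
  rw [this]
  exact Submodule.fg_range _

include hf hd in
/-- Everything is finitely presented. -/
theorem fp {R : Type u} [CommRing R] (ψ : R →+* A) (hψ : ∀ r, ψ r ∈ 𝒜 0) (hfp : ψ.FinitePresentation) :
    ((Proj.awayToSection 𝒜 f).hom.comp ((fromZeroRingHom 𝒜 (Submonoid.powers f)).comp
        (ψ.codRestrict (SetLike.GradeZero.subring 𝒜) hψ))).FinitePresentation ∧
      Module.FinitePresentation Γ(Proj 𝒜, Proj.basicOpen 𝒜 f) Γ(GrMod.tilde 𝒜 𝒜 n, Proj.basicOpen 𝒜 f) := by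
  classical
  let B := Γ(Proj 𝒜, Proj.basicOpen 𝒜 f)
  let ρ : R →+* B := (Proj.awayToSection 𝒜 f).hom.comp ((fromZeroRingHom 𝒜 (Submonoid.powers f)).comp
        (ψ.codRestrict (SetLike.GradeZero.subring 𝒜) hψ))
  change ρ.FinitePresentation ∧ _
  obtain ⟨ι, hι⟩ := exists_coef 𝒜 hf hd
  let := ψ.toAlgebra
  let := ρ.toAlgebra
  let := ι.toAlgebra
  have hA : Algebra.FinitePresentation R A := hfp
  let C := Q f
  have hC : Algebra.FinitePresentation R C := Algebra.FinitePresentation.quotient (Submodule.fg_span_singleton _)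
  have hρ : ∀ r, ι (ρ r) = Ideal.Quotient.mk _ (ψ r) := fun r => by
    rw [← hι 0 (ψ r) (by rw [zero_mul]; exact hψ r)]
    refine congrArg (fun z => ι ((Proj.awayToSection 𝒜 f).hom z)) ?_
    refine HomogeneousLocalization.val_injective _ ?_
    rw [Away.val_mk]
    simp only [pow_zero]
    rfl
  have : IsScalarTower R B C := .of_algebraMap_eq fun r => (hρ r).symm
  -- the polynomial ring mapping onto the functions
  obtain ⟨T, hT⟩ := hA.out.elim fun m h => (⟨Finset.univ.image (h.choose ∘ MvPolynomial.X), by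
    rw [Finset.coe_image, Finset.coe_univ, Set.image_univ, Set.range_comp, ← AlgHom.map_adjoin,
      MvPolynomial.adjoin_range_X, Algebra.map_top, AlgHom.range_eq_top]
    exact h.choose_spec.1⟩ : ∃ T : Finset A, Algebra.adjoin R (T : Set A) = ⊤)
  let I := T.biUnion fun t => (DirectSum.decompose 𝒜 t).support.image fun i => (i, t)
  let g : I → B := fun q => fracO hf (show (DirectSum.decompose 𝒜 q.1.2 q.1.1 : A) ^ d ∈ 𝒜 (q.1.1 * d) by
    rw [mul_comm]; exact GrModLib.pow_mem_deg' (SetLike.coe_mem _) d)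
  let P := MvPolynomial I R
  let gP : P →ₐ[R] B := MvPolynomial.aeval g
  let := gP.toRingHom.toAlgebra
  let := (ι.comp gP.toRingHom).toAlgebra
  have : IsScalarTower R P B := .of_algebraMap_eq fun r => (gP.commutes r).symm
  have : IsScalarTower P B C := .of_algebraMap_eq fun _ => rfl
  have : IsScalarTower R P C := .of_algebraMap_eq fun r => by
    change _ = ι (gP (algebraMap R P r))
    rw [gP.commutes]
    exact (hρ r).symm
  have hint : Algebra.IsIntegral P C := by
    refine ⟨fun z => ?_⟩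
    obtain ⟨z, rfl⟩ := Ideal.Quotient.mk_surjective z
    have hz : z ∈ Algebra.adjoin R (T : Set A) := hT ▸ trivial
    induction hz using Algebra.adjoin_induction with
    | mem t ht =>
      rw [← DirectSum.sum_support_decompose 𝒜 t, map_sum]
      refine IsIntegral.sum _ fun i hi => ?_
      refine IsIntegral.of_pow hd ?_
      have hq : (i, t) ∈ I := Finset.mem_biUnion.2 ⟨t, ht, Finset.mem_image.2 ⟨i, hi, rfl⟩⟩
      have : Ideal.Quotient.mk (Ideal.span {f - 1}) (DirectSum.decompose 𝒜 t i : A) ^ d =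
          algebraMap P C (MvPolynomial.X ⟨(i, t), hq⟩) := by
        change _ = ι (gP _)
        rw [MvPolynomial.aeval_X, hι, map_pow]
      rw [this]
      exact isIntegral_algebraMap
    | algebraMap r =>
      rw [show Ideal.Quotient.mk (Ideal.span {f - 1}) (algebraMap R A r) = algebraMap P C (algebraMap R P r) from
        (IsScalarTower.algebraMap_apply R P C r)]
      exact isIntegral_algebraMap
    | add x y _ _ hx hy => rw [map_add]; exact hx.add hy
    | mul x y _ _ hx hy => rw [map_mul]; exact hx.mul hy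
  have : Algebra.FinitePresentation P C := Algebra.FinitePresentation.of_restrict_scalars_finitePresentation R P C
  have : Module.Finite P C := Algebra.IsIntegral.finite
  have hCP : Module.FinitePresentation P C := Module.FinitePresentation.of_finite_of_finitePresentation P C
  obtain ⟨j₀, π₀, hj₀, hπ₀, hjπ₀⟩ := exists_retract 𝒜 hf hd 0 ι hι
  let e₀ := Equiv.ofBijective _ (bijective_smul_one 𝒜 hf hd)
  have e₀_smul : ∀ (c b : B), e₀ (c * b) = c • e₀ b := fun c b => mul_smul c b _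
  let jB : B →ₗ[P] C :=
    { toFun := fun b => j₀ (e₀ b)
      map_add' := fun x y => by rw [← map_add]; exact congrArg j₀ (add_smul x y _)
      map_smul' := fun c x => by
        change j₀ (e₀ (gP c * x)) = ι (gP c) * _
        rw [e₀_smul, hj₀] }
  let πB : C →ₗ[P] B :=
    { toFun := fun z => e₀.symm (π₀ z)
      map_add' := fun x y => e₀.injective (by
        refine (e₀.apply_symm_apply _).trans ?_
        rw [map_add]
        refine Eq.trans ?_ (add_smul (e₀.symm (π₀ x)) (e₀.symm (π₀ y)) _).symm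
        exact congrArg₂ (· + ·) (e₀.apply_symm_apply _).symm (e₀.apply_symm_apply _).symm)
      map_smul' := fun c x => e₀.injective (by
        refine (e₀.apply_symm_apply _).trans ?_
        change π₀ (ι (gP c) * x) = e₀ (gP c * e₀.symm (π₀ x))
        rw [hπ₀, e₀_smul, e₀.apply_symm_apply]) }
  have hB : Module.FinitePresentation P B := fg_of_retract jB πB fun b => by
    change e₀.symm (π₀ (j₀ (e₀ b))) = b
    rw [hjπ₀, e₀.symm_apply_apply]
  have hBfin : Module.Finite P B := inferInstance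
  have hBP : Algebra.FinitePresentation P B := Algebra.FinitePresentation.of_finitePresentation P B
  have hBR : Algebra.FinitePresentation R B := Algebra.FinitePresentation.trans R P B
  refine ⟨hBR, ?_⟩
  have : Algebra.FinitePresentation B C := Algebra.FinitePresentation.of_restrict_scalars_finitePresentation P B C
  have : Module.Finite B C := Module.Finite.of_restrictScalars_finite P B C
  have : Module.FinitePresentation B C := Module.FinitePresentation.of_finite_of_finitePresentation B C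
  obtain ⟨j₁, π₁, hj₁, hπ₁, hjπ₁⟩ := exists_retract 𝒜 hf hd n ι hι
  exact fg_of_retract (R := B) (M := C)
    { toFun := j₁, map_add' := j₁.map_add, map_smul' := hj₁ }
    { toFun := π₁, map_add' := π₁.map_add, map_smul' := hπ₁ } hjπ₁

end Groth.Agent.ProjBundleLib.AwayFP
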