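import Groth.Agent.ProjBundleLib.Algebra
import Groth.Agent.QCoh.Basic
import Groth.Agent.SymLib.Sheaf
import Groth.Prelude.Def_RelProj4

/-! The graded morphism `Sym E → q_* Sym L` extending `E → q_* L`. -/

noncomputable section

universe u

open CategoryTheory CategoryTheory.Limits AlgebraicGeometry TopologicalSpace Opposite
open RelProj Groth.Agent.QCoh

namespace Groth.Agent.ProjBundleLib

variable {Y X : Scheme.{u}} {q : X ⟶ Y} {L : X.Modules} {𝒮L : QCGrAlg X} {jL : L ⟶ 𝒮L.toModule}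
  (hjL : IsGrSymAlg L 𝒮L jL) {E : Y.Modules} [E.IsQuasicoherent] {𝒯 : QCGrAlg Y} {jE : E ⟶ 𝒯.toModule}
  (hjE : IsGrSymAlg E 𝒯 jE) (v : E ⟶ (Scheme.Modules.pushforward q).obj L)

include hjL hjE in
/-- The graded morphism with given degree one component. -/
theorem exists_qGrHom :
    ∃ u : QGrHom q 𝒯 𝒮L,
      ∀ (U : Y.Opens) (x : Γ(E, U)), (u.app U).hom (el jE U x) = jL.app (q ⁻¹ᵁ U) (v.app U x) := by
  choose F hF0 hF1 using fun (U : Y.Opens) (hU : IsAffineOpen U) => exists_lift hjE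
    ((q.app U ≫ 𝒮L.str.app (op (q ⁻¹ᵁ U))).hom)
    (AddMonoidHom.mk' (fun x => (show (𝒮L.presheaf.obj (op (q ⁻¹ᵁ U)) : Type u) from
      jL.app (q ⁻¹ᵁ U) (v.app U x))) fun a b => by
        change jL.app _ (v.app U (a + b)) = jL.app _ (v.app U a) + jL.app _ (v.app U b)
        rw [map_add]; exact map_add _ _ _)
    hU (fun r m => by
      change jL.app _ (v.app U (r • m)) = _
      rw [v.app_smul]
      exact jL.app_smul (q.app U r) _)
  let T : TopCat.Sheaf CommRingCat.{u} Y.carrier :=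
    (TopCat.Sheaf.pushforward CommRingCat.{u} q.base).obj ⟨𝒮L.presheaf, 𝒮L.isSheaf⟩
  let η : (Scheme.AffineZariskiSite.toOpensFunctor Y).op ⋙ 𝒯.presheaf ⟶
      (Scheme.AffineZariskiSite.toOpensFunctor Y).op ⋙ T.obj :=
    { app := fun U => CommRingCat.ofHom (F U.unop.1 U.unop.2)
      naturality := fun U V i => by
        have hVU : V.unop.1 ≤ U.unop.1 := Scheme.AffineZariskiSite.toOpens_mono i.unop.le
        refine CommRingCat.hom_ext (lift_ext hjE U.unop.2 (fun r => ?_) fun m => ?_)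
        · change F V.unop.1 V.unop.2 ((𝒯.presheaf.map (homOfLE hVU).op).hom ((𝒯.str.app (op U.unop.1)).hom r)) =
            (𝒮L.presheaf.map (homOfLE (q.preimage_mono hVU)).op).hom (F U.unop.1 U.unop.2 ((𝒯.str.app (op U.unop.1)).hom r))
          rw [hF0]
          refine (congrArg (F V.unop.1 V.unop.2) (congr($(𝒯.str.naturality (homOfLE hVU).op).hom r)).symm).trans ?_
          refine (hF0 _ V.unop.2 _).trans ?_
          have e1 := congr($(q.naturality (homOfLE hVU).op).hom r)
          have e2 := congr($(𝒮L.str.naturality (homOfLE (q.preimage_mono hVU)).op).hom (q.app U.unop.1 r))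
          exact (congrArg (𝒮L.str.app _).hom e1).trans e2
        · change F V.unop.1 V.unop.2 ((𝒯.presheaf.map (homOfLE hVU).op).hom (el jE U.unop.1 m)) =
            (𝒮L.presheaf.map (homOfLE (q.preimage_mono hVU)).op).hom (F U.unop.1 U.unop.2 (el jE U.unop.1 m))
          rw [el_res hVU m, hF1, hF1]
          refine Eq.trans ?_ (el_res (j := jL) (q.preimage_mono hVU) (v.app U.unop.1 m)).symm
          exact congrArg (jL.app _) (app_res v hVU m) }
  let ψ := Functor.IsCoverDense.restrictHomEquivHom (G := Scheme.AffineZariskiSite.toOpensFunctor Y)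
    (K := Opens.grothendieckTopology Y) (ℱ := 𝒯.presheaf) (ℱ' := T) η
  have hψ : ∀ (U : Y.Opens) (hU : IsAffineOpen U), ψ.app (op U) = CommRingCat.ofHom (F U hU) := fun U hU =>
    NatTrans.congr_app ((Functor.IsCoverDense.restrictHomEquivHom (G := Scheme.AffineZariskiSite.toOpensFunctor Y)
      (K := Opens.grothendieckTopology Y) (ℱ := 𝒯.presheaf) (ℱ' := T)).symm_apply_apply η) (op ⟨U, hU⟩)
  have hloc : ∀ (U : Y.Opens) (a b : 𝒮L.presheaf.obj (op (q ⁻¹ᵁ U))),
      (∀ V : Y.Opens, IsAffineOpen V → ∀ h : V ≤ U, (𝒮L.presheaf.map (homOfLE (q.preimage_mono h)).op).hom a =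
        (𝒮L.presheaf.map (homOfLE (q.preimage_mono h)).op).hom b) → a = b := by
    intro U a b hab
    refine eq_of_locally_eq 𝒮L.toModule
      (U := fun i : {V : Y.affineOpens // (V : Y.Opens) ≤ U} => q ⁻¹ᵁ i.1.1) (fun i => q.preimage_mono i.2)
      (fun z hz => ?_) a b fun ⟨⟨V, hV⟩, hVU⟩ => hab V hV hVU
    obtain ⟨W, hW, hzW, hWU⟩ := exists_isAffineOpen_mem_and_subset (U := U) (x := q z) hz
    exact Opens.mem_iSup.2 ⟨⟨⟨W, hW⟩, hWU⟩, hzW⟩
  have hnat : ∀ {U V : Y.Opens} (h : V ≤ U) (x : 𝒯.presheaf.obj (op U)),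
      (𝒮L.presheaf.map (homOfLE (q.preimage_mono h)).op).hom ((ψ.app (op U)).hom x) =
        (ψ.app (op V)).hom ((𝒯.presheaf.map (homOfLE h).op).hom x) := fun h x =>
    congr($(ψ.naturality (homOfLE h).op).hom x).symm
  let w : RelSpec.QHom q 𝒯.toQCAlg 𝒮L.toQCAlg :=
    { app := fun U => ψ.app (op U)
      naturality := fun {U V} i => CommRingCat.hom_ext (RingHom.ext fun x => hnat i x)
      str_app := fun U => by
        refine CommRingCat.hom_ext (RingHom.ext fun r => hloc U _ _ fun V hV h => ?_)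
        refine (hnat h _).trans ?_
        rw [hψ V hV]
        refine (congrArg (F V hV) (congr($(𝒯.str.naturality (homOfLE h).op).hom r)).symm).trans ?_
        refine (hF0 V hV _).trans ?_
        have e1 := congr($(q.naturality (homOfLE h).op).hom r)
        have e2 := congr($(𝒮L.str.naturality (homOfLE (q.preimage_mono h)).op).hom (q.app U r))
        exact (congrArg (𝒮L.str.app _).hom e1).trans e2 }
  refine ⟨⟨w, fun U hU V hV hle {d x} hx => ?_⟩, fun U x => hloc U _ _ fun V hV h => ?_⟩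
  · change (𝒮L.presheaf.map (homOfLE hle).op).hom ((ψ.app (op U)).hom x) ∈ 𝒮L.deg V hV d
    rw [hψ U hU]
    let := (𝒯.str.app (op U)).hom.toAlgebra
    let G := (𝒮L.presheaf.map (homOfLE hle).op).hom.comp (F U hU)
    change G x ∈ _
    have h0 : ∀ r, G ((𝒯.str.app (op U)).hom r) ∈ 𝒮L.deg V hV 0 := fun r => by
      rw [RingHom.comp_apply, hF0]
      exact (congr($(𝒮L.str.naturality (homOfLE hle).op).hom (q.app U r))) ▸ 𝒮L.str_mem V hV _
    have h1 : ∀ m, G (el jE U m) ∈ 𝒮L.deg V hV 1 := fun m => by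
      rw [RingHom.comp_apply, hF1]
      exact (el_res (j := jL) hle _).symm ▸ el_mem hjL hV _
    have hP := (SymLib.mem_deg_iff hjE hU).1 hx
    unfold SymLib.piece at hP
    induction hP using Submodule.pow_induction_on_left' with
    | algebraMap r => exact h0 r
    | add a b i _ _ iha ihb => rw [map_add]; exact add_mem (iha ((SymLib.mem_deg_iff hjE hU).2 ‹_›)) (ihb ((SymLib.mem_deg_iff hjE hU).2 ‹_›))
    | mem_mul m hm i y hy ih =>
      obtain ⟨e, rfl⟩ := hm
      rw [map_mul, Nat.succ_eq_one_add]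
      exact SetLike.mul_mem_graded (h1 e) (ih ((SymLib.mem_deg_iff hjE hU).2 hy))
  · refine (hnat h _).trans ?_
    rw [hψ V hV, el_res h x]
    refine (hF1 V hV _).trans ?_
    refine Eq.trans ?_ (el_res (j := jL) (q.preimage_mono h) (v.app U x)).symm
    exact congrArg (jL.app _) (app_res v h x)

end Groth.Agent.ProjBundleLib
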