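import Groth.Agent.ProjBundleLib.BundleImm
import Groth.Agent.ProjBundleLib.QHomOfVec
import Groth.Agent.ProjBundleLib.FTQP

/-! Immersions into projective bundles come from finite type modules. -/

noncomputable section

universe u

open CategoryTheory CategoryTheory.Limits AlgebraicGeometry TopologicalSpace Opposite
open RelProj Groth.Agent.QCoh Groth.Agent.Props.GenLocus

namespace Groth.Agent.ProjBundleLib

variable {Y X PL : Scheme.{u}} {q : X ⟶ Y} {L : X.Modules} [L.IsQuasicoherent] {𝒮L : QCGrAlg X}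
  {jL : L ⟶ 𝒮L.toModule} (hjL : IsGrSymAlg L 𝒮L jL) {pL : PL ⟶ X}
  {chartL : ∀ (U : X.Opens) (hU : IsAffineOpen U), (((pL ⁻¹ᵁ U : PL.Opens) : Scheme.{u}) ≅ Proj (𝒮L.deg U hU))}
  (hPL : IsRelProj 𝒮L pL chartL) {E : Y.Modules} {𝒯 : QCGrAlg Y} {jE : E ⟶ 𝒯.toModule}
  {v : E ⟶ (Scheme.Modules.pushforward q).obj L} (u : QGrHom q 𝒯 𝒮L)
  (hu : ∀ (U : Y.Opens) (e : Γ(E, U)), (u.app U).hom (el jE U e) = jL.app (q ⁻¹ᵁ U) (v.app U e))

include hjL hu in
/-- Generation gives local surjectivity of the degree one component. -/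
theorem span_of_gens [E.IsQuasicoherent] (hv : Gens v) (x : X) :
    ∃ (U : Y.Opens) (_ : IsAffineOpen U) (e : Γ(E, U)) (V : X.Opens) (hV : IsAffineOpen V)
      (hVU : V ≤ q ⁻¹ᵁ U), x ∈ V ∧
        ((𝒮L.deg V hV 1 : AddSubgroup (𝒮L.presheaf.obj (op V))) : Set (𝒮L.presheaf.obj (op V))) ⊆
          (Ideal.span {(u.appLE U V hVU).hom ((jE.app U) e)} : Set (𝒮L.presheaf.obj (op V))) := by
  obtain ⟨U, hU, e, V₀, hxV, hf⟩ := exists_frame_mem hv x
  obtain ⟨V, hV, hxV', hVV⟩ := exists_isAffineOpen_mem_and_subset (U := V₀) (x := x) hxV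
  have hf' := hf.restrict hVV
  refine ⟨U, hU, e, V, hV, hf'.le, hxV', fun b hb => ?_⟩
  obtain ⟨r, hr, -⟩ := existsUnique_el hjL hV hf'.gen hb
  refine Ideal.mem_span_singleton'.2 ⟨(𝒮L.str.app (op V)).hom r, ?_⟩
  rw [← hr, el_smul]
  exact congrArg (_ * ·) (appLE_el u hu hf'.le e)

include hjL hPL hu in
/-- Into any bundle, everywhere defined and an immersion. -/
theorem forall_isImmersion [E.IsQuasicoherent] (hjE : IsGrSymAlg E 𝒯 jE) (hL : PicF.IsInvertible L)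
    (hv : Gens v) (h : ClsImm v) :
    ∀ (P : Scheme.{u}) (p : P ⟶ Y)
      (chart : ∀ (U : Y.Opens) (hU : IsAffineOpen U), (((p ⁻¹ᵁ U : P.Opens) : Scheme.{u}) ≅ Proj (𝒯.deg U hU)))
      (_ : IsRelProj 𝒯 p chart)
      (r : ((domQ u pL chartL : PL.Opens) : Scheme.{u}) ⟶ P)
      (_ : IsProjQMapOn u p chart pL chartL (domQ u pL chartL) r),
      domQ u pL chartL = ⊤ ∧ IsImmersion r := fun _ _ _ hP _ hr =>
  have := isImmersion_iff_clsImm hjL hPL hjE hP u hu hL hv hr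
  ⟨this.1, this.2.2 h⟩

end Groth.Agent.ProjBundleLib
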