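import Groth.Agent.ProjBundleLib.RelVA

/-! An intrinsic criterion for the classifying morphism of generating sections to be an immersion. -/

noncomputable section

universe u

open CategoryTheory CategoryTheory.Limits AlgebraicGeometry TopologicalSpace Opposite
open HomogeneousLocalization
open RelProj Groth.Agent.QCoh Groth.Agent.Props.GenLocus

namespace Groth.Agent.ProjBundleLib

variable {Y X : Scheme.{u}} {E : Y.Modules} {g : X ⟶ Y} {L : X.Modules}
  (v : E ⟶ (Scheme.Modules.pushforward g).obj L)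

/-- The largest open on which `v e` is a frame. -/
def gLoc (U : Y.Opens) (e : Γ(E, U)) : X.Opens := sSup {V | Frame v U e V}

/-- The coefficient ring of `v` with respect to `e`. -/
def coefRing (U : Y.Opens) (e : Γ(E, U)) (G : X.Opens) : Subring Γ(X, G) :=
  Subring.closure {c | ∃ hG : G ≤ g ⁻¹ᵁ U, (∃ a, g.appLE U G hG a = c) ∨
    ∃ z, res L hG (vsec v U z) = c • res L hG (vsec v U e)}

variable (G : X.Opens) in
/-- A subring of functions separates the points of `G` up to an immersion. -/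
def SubImm (S : Subring Γ(X, G)) : Prop :=
  IsImmersion (G.toSpecΓ ≫ Spec.map (CommRingCat.ofHom S.subtype))

variable {v} {U : Y.Opens} {e : Γ(E, U)} {G : X.Opens}

lemma le_gLoc {V : X.Opens} (h : Frame v U e V) : V ≤ gLoc v U e := le_sSup h

lemma gLoc_le : gLoc v U e ≤ g ⁻¹ᵁ U := sSup_le fun _ h => h.le

lemma frame_gLoc : Frame v U e (gLoc v U e) := by
  refine ⟨gLoc_le, IsGen.of_local fun x hx => ?_⟩
  obtain ⟨V, hV, hxV⟩ := Opens.mem_sSup.mp hx
  refine ⟨V, le_gLoc hV, hxV, ?_⟩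
  rw [res_res]
  exact hV.gen

lemma appLE_mem_coefRing (hG : G ≤ g ⁻¹ᵁ U) (a : Γ(Y, U)) : g.appLE U G hG a ∈ coefRing v U e G :=
  Subring.subset_closure ⟨hG, Or.inl ⟨a, rfl⟩⟩

lemma coef_mem_coefRing (hG : G ≤ g ⁻¹ᵁ U) {z : Γ(E, U)} {c : Γ(X, G)}
    (h : res L hG (vsec v U z) = c • res L hG (vsec v U e)) : c ∈ coefRing v U e G :=
  Subring.subset_closure ⟨hG, Or.inr ⟨z, h⟩⟩

lemma coefRing_le (hG : G ≤ g ⁻¹ᵁ U) {T : Subring Γ(X, G)} (h0 : ∀ a, g.appLE U G hG a ∈ T)
    (h1 : ∀ z c, res L hG (vsec v U z) = c • res L hG (vsec v U e) → c ∈ T) : coefRing v U e G ≤ T := by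
  refine Subring.closure_le.mpr ?_
  rintro c ⟨_, ⟨a, rfl⟩ | ⟨z, hz⟩⟩
  · exact h0 a
  · exact h1 z c hz

lemma subImm_range_iff {A : CommRingCat.{u}} (φ : A ⟶ Γ(X, G)) :
    SubImm G φ.hom.range ↔ IsImmersion (G.toSpecΓ ≫ Spec.map φ) := by
  have e1 : φ = CommRingCat.ofHom φ.hom.rangeRestrict ≫ CommRingCat.ofHom φ.hom.range.subtype := rfl
  have : IsClosedImmersion (Spec.map (CommRingCat.ofHom φ.hom.rangeRestrict)) :=
    IsClosedImmersion.spec_of_surjective _ φ.hom.rangeRestrict_surjective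
  conv_rhs => rw [e1, Spec.map_comp, ← Category.assoc]
  constructor
  · intro h
    have : IsImmersion (G.toSpecΓ ≫ Spec.map (CommRingCat.ofHom φ.hom.range.subtype)) := h
    exact inferInstance
  · intro h
    exact IsImmersion.of_comp _ (Spec.map (CommRingCat.ofHom φ.hom.rangeRestrict))

lemma SubImm.mono {S S' : Subring Γ(X, G)} (h : SubImm G S) (hle : S ≤ S') : SubImm G S' := by
  have h' : IsImmersion ((G.toSpecΓ ≫ Spec.map (CommRingCat.ofHom S'.subtype)) ≫
      Spec.map (CommRingCat.ofHom (Subring.inclusion hle))) := by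
    rw [Category.assoc, ← Spec.map_comp]
    exact h
  exact IsImmersion.of_comp _ (Spec.map (CommRingCat.ofHom (Subring.inclusion hle)))

lemma SubImm.restrict {S : Subring Γ(X, G)} (h : SubImm G S) {V : X.Opens} (hV : V ≤ G) :
    SubImm V (S.map (X.presheaf.map (homOfLE hV).op).hom) := by
  have e1 : S.map (X.presheaf.map (homOfLE hV).op).hom =
      (CommRingCat.ofHom S.subtype ≫ X.presheaf.map (homOfLE hV).op).hom.range := by
    rw [CommRingCat.hom_comp, RingHom.range_eq_map, ← Subring.map_map, CommRingCat.hom_ofHom,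
      ← RingHom.range_eq_map, Subring.range_subtype]
  rw [e1, subImm_range_iff, Spec.map_comp, ← Category.assoc,
    Scheme.Opens.toSpecΓ_SpecMap_presheaf_map V G hV, Category.assoc]
  have : IsImmersion (G.toSpecΓ ≫ Spec.map (CommRingCat.ofHom S.subtype)) := h
  infer_instance

variable [E.IsQuasicoherent]

lemma range_chartCo {𝒮 : QCGrAlg Y} {j : E ⟶ 𝒮.toModule} (hj : IsGrSymAlg E 𝒮 j) {hU : IsAffineOpen U}
    (hf : Frame v U e G) : (chartCo hj U hU e G hf).range = coefRing v U e G := by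
  refine le_antisymm ?_ (coefRing_le hf.le (fun a => ⟨_, chartCo_zero hj hf a⟩) fun z c hc =>
    ⟨ratio hj hU e z, (chartCo_ratio hj hf z).trans (chartAlg_unique hj hf hc)⟩)
  rintro _ ⟨w, rfl⟩
  obtain ⟨d, a, ha, rfl⟩ := Away.mk_surjective (𝒮.deg U hU) (el_mem hj hU e) w
  have h := liftAway_mk (𝒜 := 𝒮.deg U hU) (chartAlg hj U hU e G hf) (isUnit_chartAlg_self hj hf)
    (el_mem hj hU e) d a ha
  rw [chartAlg_self, one_pow, mul_one] at h
  rw [chartCo, h]
  clear h ha
  induction a using SymLib.affInduction hj.1 hU with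
  | hstr r => rw [chartAlg_str]; exact appLE_mem_coefRing hf.le r
  | hj m => exact coef_mem_coefRing hf.le (chartAlg_spec hj hf m)
  | hmul x y hx hy => rw [map_mul]; exact mul_mem hx hy
  | hadd x y hx hy => rw [map_add]; exact add_mem hx hy

variable {B : Bundle E} {r : X ⟶ B.P}

lemma preimage_Dop_eq_gLoc (hv : Gens v) (hr : Cls B.hj (v := v) (chart := B.chart) r) (hU : IsAffineOpen U)
    (e : Γ(E, U)) : r ⁻¹ᵁ Dop B.j B.p B.chart U hU e = gLoc v U e :=
  le_antisymm (le_gLoc (mem_preimage_Dop_iff B hv hr hU e))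
    (le_preimage_Dop_of_cls B.hj hr frame_gLoc)

lemma isImmersion_resLE_iff (hv : Gens v) (hr : Cls B.hj (v := v) (chart := B.chart) r) (hU : IsAffineOpen U)
    (e : Γ(E, U)) :
    IsImmersion (r.resLE (Dop B.j B.p B.chart U hU e) (gLoc v U e) (preimage_Dop_eq_gLoc hv hr hU e).ge) ↔
      SubImm (gLoc v U e) (coefRing v U e (gLoc v U e)) := by
  let G := gLoc v U e
  rw [← range_chartCo B.hj (hU := hU) frame_gLoc,
    ← CommRingCat.hom_ofHom (chartCo B.hj U hU e G frame_gLoc), subImm_range_iff]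
  let ι' := Proj.awayι (B.alg.deg U hU) (el B.j U e) (el_mem B.hj hU e) one_pos ≫ emb B.p B.chart U hU
  let D := Dop B.j B.p B.chart U hU e
  have key : r.resLE D G (preimage_Dop_eq_gLoc hv hr hU e).ge ≫ D.ι =
      (G.toSpecΓ ≫ Spec.map (CommRingCat.ofHom (chartCo B.hj U hU e G frame_gLoc))) ≫ ι' := by
    rw [Scheme.Hom.resLE_comp_ι, hr U hU e G frame_gLoc, chartMor, awayHom]
    simp [ι']
  constructor <;> intro h
  · have : IsImmersion ((G.toSpecΓ ≫ Spec.map (CommRingCat.ofHom (chartCo B.hj U hU e G frame_gLoc))) ≫ ι') := by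
      rw [← key]; infer_instance
    exact IsImmersion.of_comp _ ι'
  · have : IsImmersion (r.resLE D G (preimage_Dop_eq_gLoc hv hr hU e).ge ≫ D.ι) := by
      rw [key]; infer_instance
    exact IsImmersion.of_comp _ D.ι

lemma subImm_of_clsImm (hv : Gens v) (h : ClsImm v) (hU : IsAffineOpen U) (e : Γ(E, U)) :
    SubImm (gLoc v U e) (coefRing v U e (gLoc v U e)) := by
  obtain ⟨B, r, hr, hi⟩ := h
  refine (isImmersion_resLE_iff hv hr hU e).1 ?_
  have : IsImmersion (r.resLE (Dop B.j B.p B.chart U hU e) (gLoc v U e) (preimage_Dop_eq_gLoc hv hr hU e).ge ≫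
      (Dop B.j B.p B.chart U hU e).ι) := by
    rw [Scheme.Hom.resLE_comp_ι]; infer_instance
  exact IsImmersion.of_comp _ (Dop B.j B.p B.chart U hU e).ι

/-- The classified morphism is an immersion if the coefficient rings are separating. -/
theorem clsImm_of_subImm (hv : Gens v)
    (H : ∀ x : X, ∃ (U : Y.Opens) (_ : IsAffineOpen U) (e : Γ(E, U)),
      x ∈ gLoc v U e ∧ SubImm (gLoc v U e) (coefRing v U e (gLoc v U e))) : ClsImm v := by
  obtain ⟨B⟩ := exists_bundle E
  obtain ⟨r, hr, -⟩ := existsUnique_cls B.hj B.hP hv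
  refine ⟨B, r, hr, ?_⟩
  choose U hU e hx hS using H
  have : MorphismProperty.RespectsRight @IsImmersion @IsOpenImmersion :=
    ⟨fun i hi g hg => by
      have : IsImmersion g := hg
      have : IsOpenImmersion i := hi
      exact inferInstanceAs (IsImmersion (g ≫ i))⟩
  let V : X → B.P.Opens := fun x => Dop B.j B.p B.chart (U x) (hU x) (e x)
  refine IsZariskiLocalAtTarget.of_range_subset_iSup (P := @IsImmersion) V ?_ fun x => ?_
  · rintro _ ⟨x, rfl⟩
    exact Opens.mem_iSup.mpr ⟨x, (preimage_Dop_eq_gLoc hv hr (hU x) (e x)).ge (hx x)⟩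
  · rw [← Scheme.Hom.resLE_eq_morphismRestrict]
    have h := (isImmersion_resLE_iff hv hr (hU x) (e x)).2 (hS x)
    convert h using 2 <;> exact preimage_Dop_eq_gLoc hv hr (hU x) (e x)

omit [E.IsQuasicoherent]

lemma subImm_congr {G G' : X.Opens} (h : G = G') {S : Subring Γ(X, G)} (hS : SubImm G S) :
    SubImm G' (S.map (X.presheaf.map (homOfLE h.ge).op).hom) := hS.restrict h.ge

/-- Frames covering the source give generating sections. -/
theorem gens_of_frames [E.IsQuasicoherent] (hL : PicF.IsInvertible L)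
    (h : ∀ x : X, ∃ (U : Y.Opens) (e : Γ(E, U)) (V : X.Opens), x ∈ V ∧ Frame v U e V) : Gens v := by
  let s := ((Scheme.Modules.pullbackPushforwardAdjunction g).homEquiv E L).symm v
  have hs : Epi s := by
    refine Omega.Stalks.epi_of_stalk fun x t => ?_
    obtain ⟨U, e, V, hxV, hf⟩ := h x
    have hb := ((isGen_iff_isFrame _).mp hf.gen).stalkComb_bijective x hxV
    obtain ⟨a, rfl⟩ := hb.2 t
    refine ⟨a 0 • PullStalk.Sky.germM _ (g ⁻¹ᵁ U) x (hf.le hxV) (LFFrame.unitSec g E U e), ?_⟩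
    rw [map_smul, LFFrame.stalkComb, Fintype.linearCombination_apply, Fin.sum_univ_one,
      PullStalk.Exact.stalkLin_germ, adj_unitSec]
    exact congrArg (a 0 • ·) (L.presheaf.germ_res_apply (homOfLE hf.le) x hxV _).symm
  have h2 := gens_of_epi hL s
  rwa [adjMap, Equiv.apply_symm_apply] at h2

end Groth.Agent.ProjBundleLib
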