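import Groth.Agent.ProjBundleLib.Sections
import Groth.Agent.SymLib.InvProj
import Groth.Agent.SymLib.Sheaf
import Groth.Agent.Props.GenLocus
import Groth.Prelude.Def_RelProj4

/-! The degree one component of a graded morphism `Sym F → q_* Sym L`. -/

noncomputable section

universe u

open CategoryTheory CategoryTheory.Limits AlgebraicGeometry TopologicalSpace Opposite
open RelProj Groth.Agent.QCoh Groth.Agent.Props.GenLocus

namespace Groth.Agent.ProjBundleLib

variable {Y X : Scheme.{u}} {q : X ⟶ Y} {L : X.Modules} [L.IsQuasicoherent] (hL : PicF.IsInvertible L)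
  {𝒮L : QCGrAlg X} {jL : L ⟶ 𝒮L.toModule} (hjL : IsGrSymAlg L 𝒮L jL)

include hjL in
lemma existsUnique_el {V : X.Opens} (hV : IsAffineOpen V) {e : Γ(L, V)} (he : IsGen L V e)
    {x : 𝒮L.presheaf.obj (op V)} (hx : x ∈ 𝒮L.deg V hV 1) : ∃! r : Γ(X, V), el jL V (r • e) = x := by
  obtain ⟨r, hr, huniq⟩ := SymLib.existsUnique_eq_pow hjL hV ((isGen_iff_isFrame e).1 he) le_rfl hx
  have h1 : ∀ r : Γ(X, V), (𝒮L.str.app (op V)).hom r *
      (show (𝒮L.presheaf.obj (op V) : Type u) from jL.app V (L.presheaf.map (homOfLE (le_refl V)).op e)) ^ 1 =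
      el jL V (r • e) := fun r => by
    rw [el_smul, pow_one, show (L.presheaf.map (homOfLE (le_refl V)).op) e = e from res_self L le_rfl e]
    rfl
  exact ⟨r, (h1 r).symm.trans hr.symm, fun r' hr' => huniq r' (hr'.symm.trans (h1 r').symm)⟩

include hL in
lemma exists_affine_gen {V : X.Opens} {x : X} (hx : x ∈ V) :
    ∃ (W : X.Opens) (_ : IsAffineOpen W) (e : Γ(L, W)), x ∈ W ∧ W ≤ V ∧ IsGen L W e := by
  obtain ⟨U, e, hxU, he⟩ := exists_isGen hL x
  obtain ⟨W, hW, hxW, hWU⟩ := exists_isAffineOpen_mem_and_subset (U := U ⊓ V) (x := x) ⟨hxU, hx⟩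
  exact ⟨W, hW, res L (hWU.trans inf_le_left) e, hxW, hWU.trans inf_le_right, he.restrict _⟩

include hL hjL in
lemma el_injective (V : X.Opens) {l l' : Γ(L, V)} (h : el jL V l = el jL V l') : l = l' := by
  choose W hW e hxW hWV he using fun x : V => exists_affine_gen hL (L := L) x.2
  refine eq_of_locally_eq L (U := W) hWV (fun x hx => Opens.mem_iSup.2 ⟨⟨x, hx⟩, hxW ⟨x, hx⟩⟩) l l' fun i => ?_
  obtain ⟨a, ha, -⟩ := (he i).exists_eq le_rfl (res L (hWV i) l)
  obtain ⟨b, hb, -⟩ := (he i).exists_eq le_rfl (res L (hWV i) l')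
  rw [res_self] at ha hb
  have h2 : el jL (W i) (res L (hWV i) l) = el jL (W i) (res L (hWV i) l') := by
    rw [← el_res, ← el_res, h]
  obtain ⟨r, -, huniq⟩ := existsUnique_el hjL (hW i) (he i) (hjL.2 (W i) (hW i) (res L (hWV i) l))
  rw [ha, hb, huniq a (show el jL (W i) (a • e i) = _ by rw [← ha]; rfl),
    huniq b (show el jL (W i) (b • e i) = _ by rw [← hb, ← h2]; rfl)]

lemma map_map {A : QCGrAlg X} {V₁ V₂ V₃ : X.Opens} (h : V₂ ≤ V₁) (h' : V₃ ≤ V₂) (a : A.presheaf.obj (op V₁)) :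
    (A.presheaf.map (homOfLE h').op).hom ((A.presheaf.map (homOfLE h).op).hom a) =
      (A.presheaf.map (homOfLE (h'.trans h)).op).hom a := by
  rw [← RingHom.comp_apply, ← CommRingCat.hom_comp, ← Functor.map_comp]
  rfl

variable {F : Y.Modules} {𝒯 : QCGrAlg Y} {jF : F ⟶ 𝒯.toModule} (hjF : IsGrSymAlg F 𝒯 jF)
  (u : QGrHom q 𝒯 𝒮L)

include hL hjL hjF in
lemma exists_vec_affine (U : Y.Opens) (hU : IsAffineOpen U) (x : Γ(F, U)) :
    ∃ l : Γ(L, q ⁻¹ᵁ U), el jL (q ⁻¹ᵁ U) l = (u.app U).hom (el jF U x) := by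
  choose W hW e hxW hWV he using fun y : (q ⁻¹ᵁ U : X.Opens) => exists_affine_gen hL (L := L) y.2
  have hcov : q ⁻¹ᵁ U ≤ iSup W := fun y hy => Opens.mem_iSup.2 ⟨⟨y, hy⟩, hxW ⟨y, hy⟩⟩
  choose r hr huniq using fun i => existsUnique_el hjL (hW i) (he i)
    (u.map_mem U hU (W i) (hW i) (hWV i) (hjF.2 U hU x))
  obtain ⟨l, hl⟩ := exists_glue L hWV hcov (fun i => r i • e i) fun i k => el_injective hL hjL _ (by
    rw [← el_res, ← el_res, hr i, hr k]
    exact (map_map _ _ _).trans (map_map _ _ _).symm)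
  refine ⟨l, eq_of_locally_eq 𝒮L.toModule (U := W) hWV hcov _ _ fun i => ?_⟩
  refine (el_res (hWV i) l).trans ?_
  rw [hl i, hr i]
  rfl

include hL hjL hjF in
/-- The degree one component. -/
theorem exists_vec :
    ∃ v : F ⟶ (Scheme.Modules.pushforward q).obj L,
      ∀ (U : Y.Opens) (x : Γ(F, U)), (u.app U).hom (el jF U x) = jL.app (q ⁻¹ᵁ U) (v.app U x) := by
  choose l hl using fun (U : Y.Opens) (hU : IsAffineOpen U) (x : Γ(F, U)) => exists_vec_affine hL hjL hjF u U hU x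
  have hadd : ∀ (U : Y.Opens) (hU : IsAffineOpen U) (a b : Γ(F, U)), l U hU (a + b) = l U hU a + l U hU b :=
    fun U hU a b => el_injective hL hjL _ (by rw [hl, el_add, el_add, hl, hl, map_add])
  let η : (Scheme.AffineZariskiSite.toOpensFunctor Y).op ⋙ F.presheaf ⟶
      (Scheme.AffineZariskiSite.toOpensFunctor Y).op ⋙ ((Scheme.Modules.pushforward q).obj L).presheaf :=
    { app := fun U => AddCommGrpCat.ofHom (AddMonoidHom.mk' (fun x => l U.unop.1 U.unop.2 x) fun a b =>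
        hadd _ _ a b)
      naturality := fun U V i => by
        ext x
        refine el_injective hL hjL _ ((hl _ V.unop.2 _).trans ?_)
        have hVU : V.unop.1 ≤ U.unop.1 := Scheme.AffineZariskiSite.toOpens_mono i.unop.le
        refine Eq.trans ?_ (el_res (q.preimage_mono hVU) _)
        refine Eq.trans ?_ (congrArg (𝒮L.presheaf.map (homOfLE (q.preimage_mono hVU)).op).hom (hl _ U.unop.2 x)).symm
        refine Eq.trans ?_ (congr($(u.naturality hVU).hom (el jF _ x))).symm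
        exact congrArg (u.app _).hom (el_res hVU x).symm }
  let v := SymLib.homOfSite η fun U hU r x => el_injective hL hjL _ (by
    refine (hl U hU _).trans ?_
    rw [el_smul, map_mul]
    refine Eq.trans ?_ (el_smul _ _ _).symm
    refine congrArg₂ (· * ·) ?_ (hl U hU x).symm
    exact congr($(u.str_app U).hom r))
  refine ⟨v, fun U x => ?_⟩
  refine eq_of_locally_eq 𝒮L.toModule
    (U := fun i : {V : Y.affineOpens // (V : Y.Opens) ≤ U} => q ⁻¹ᵁ i.1.1) (fun i => q.preimage_mono i.2)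
    (fun z hz => ?_) _ _ fun ⟨⟨V, hV⟩, hVU⟩ => ?_
  · obtain ⟨W, hW, hzW, hWU⟩ := exists_isAffineOpen_mem_and_subset (U := U) (x := q z) hz
    exact Opens.mem_iSup.2 ⟨⟨⟨W, hW⟩, hWU⟩, hzW⟩
  refine (congr($(u.naturality hVU).hom (el jF U x))).trans ?_
  refine Eq.trans ?_ (el_res (q.preimage_mono hVU) (v.app U x)).symm
  rw [CommRingCat.hom_comp, RingHom.comp_apply, el_res hVU x]
  refine (hl V hV _).symm.trans (congrArg (el jL _) ?_)
  refine Eq.trans ?_ (QCoh.app_res v hVU x)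
  exact (congr($(SymLib.homOfSite_app η _ V hV) (res F hVU x))).symm

end Groth.Agent.ProjBundleLib
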