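import Groth.Agent.ProjBundleLib.BundleQMap
import Groth.Agent.ProjBundleLib.QHomVec
import Groth.Agent.ProjBundleLib.Crit
import Groth.Agent.SymLib.InvProj

/-! `r_{L,φ}` into a projective bundle is an immersion iff the classifying morphism is. -/

noncomputable section

universe u

open CategoryTheory CategoryTheory.Limits AlgebraicGeometry TopologicalSpace Opposite
open RelProj Groth.Agent.QCoh Groth.Agent.Props.GenLocus

namespace Groth.Agent.ProjBundleLib

variable {Y X : Scheme.{u}} {q : X ⟶ Y} {L : X.Modules} {E : Y.Modules} [E.IsQuasicoherent]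
  {v : E ⟶ (Scheme.Modules.pushforward q).obj L}

/-- The classified morphism into any bundle is an immersion. -/
theorem isImmersion_of_clsImm (hv : Gens v) (h : ClsImm v) (B : Bundle E) {r : X ⟶ B.P}
    (hr : Cls B.hj (v := v) (chart := B.chart) r) : IsImmersion r := by
  have key : ∀ x : X, ∃ (U : Y.Opens) (_ : IsAffineOpen U) (e : Γ(E, U)), x ∈ gLoc v U e := fun x => by
    obtain ⟨U, hU, e, V, hxV, hf⟩ := exists_frame_mem hv x
    exact ⟨U, hU, e, le_gLoc hf hxV⟩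
  choose U hU e hx using key
  have : MorphismProperty.RespectsRight @IsImmersion @IsOpenImmersion :=
    ⟨fun i hi g hg => by
      have : IsImmersion g := hg
      have : IsOpenImmersion i := hi
      exact inferInstanceAs (IsImmersion (g ≫ i))⟩
  let V : X → B.P.Opens := fun x => Dop B.j B.p B.chart (U x) (hU x) (e x)
  refine IsZariskiLocalAtTarget.of_range_subset_iSup (P := @IsImmersion) V ?_ fun x => ?_
  · rintro _ ⟨x, rfl⟩
    exact Opens.mem_iSup.mpr ⟨x, (preimage_Dop_eq_gLoc hv hr (hU x) (e x)).ge (hx x)⟩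
  · rw [← Scheme.Hom.resLE_eq_morphismRestrict]
    have h' := (isImmersion_resLE_iff hv hr (hU x) (e x)).2 (subImm_of_clsImm hv h (hU x) (e x))
    convert h' using 2 <;> exact preimage_Dop_eq_gLoc hv hr (hU x) (e x)

variable [L.IsQuasicoherent] {PL P : Scheme.{u}} {𝒮L : QCGrAlg X} {jL : L ⟶ 𝒮L.toModule}
  (hjL : IsGrSymAlg L 𝒮L jL) {pL : PL ⟶ X}
  {chartL : ∀ (U : X.Opens) (hU : IsAffineOpen U), (((pL ⁻¹ᵁ U : PL.Opens) : Scheme.{u}) ≅ Proj (𝒮L.deg U hU))}
  (hPL : IsRelProj 𝒮L pL chartL) {𝒮 : QCGrAlg Y} {j : E ⟶ 𝒮.toModule} (hj : IsGrSymAlg E 𝒮 j)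
  {p : P ⟶ Y}
  {chart : ∀ (U : Y.Opens) (hU : IsAffineOpen U), ((p ⁻¹ᵁ U : P.Opens) : Scheme.{u}) ≅ Proj (𝒮.deg U hU)}
  (hP : IsRelProj 𝒮 p chart) (u : QGrHom q 𝒮 𝒮L)
  (hu : ∀ (U : Y.Opens) (e : Γ(E, U)), (u.app U).hom (el j U e) = jL.app (q ⁻¹ᵁ U) (v.app U e))

include hjL hPL hj hP hu in
/-- For generating sections `r` is an immersion iff the classifying morphism is one. -/
theorem isImmersion_iff_clsImm (hL : PicF.IsInvertible L) (hv : Gens v)
    {r : ((domQ u pL chartL : PL.Opens) : Scheme.{u}) ⟶ P}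
    (hr : IsProjQMapOn u p chart pL chartL (domQ u pL chartL) r) :
    domQ u pL chartL = ⊤ ∧ (IsImmersion r ↔ ClsImm v) := by
  obtain ⟨hdom, c, hc, hrc⟩ := exists_cls_of_isProjQMapOn hjL hPL hj hP u hu hv hr
  have : IsIso pL := SymLib.isIso_proj hjL hL hPL
  have : IsIso (domQ u pL chartL).ι := by
    rw [hdom, ← Scheme.topIso_hom]
    infer_instance
  obtain ⟨O1, lam, hO1⟩ := RelTildeLib.exists_isRelTwist hP 1
  obtain ⟨φ, hφ⟩ := exists_isCan hj hO1 hP
  let B : Bundle E := ⟨𝒮, j, hj, P, p, chart, hP, O1, lam, hO1, φ, hφ⟩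
  refine ⟨hdom, fun h => ⟨B, c, hc, ?_⟩, fun h => ?_⟩
  · have e : c = inv ((domQ u pL chartL).ι ≫ pL) ≫ r := by
      rw [hrc, IsIso.eq_inv_comp, Category.assoc]
    rw [e]
    infer_instance
  · have : IsImmersion c := isImmersion_of_clsImm hv h B hc
    rw [hrc]
    infer_instance

omit [E.IsQuasicoherent] [L.IsQuasicoherent] in
/-- Generation of the degree-`d` piece passes to basic opens. -/
lemma span_basicOpen {d : ℕ} {V : X.Opens} (hV : IsAffineOpen V) {s : 𝒮L.presheaf.obj (op V)} (c : Γ(X, V))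
    (h : ((𝒮L.deg V hV d : AddSubgroup (𝒮L.presheaf.obj (op V))) : Set (𝒮L.presheaf.obj (op V))) ⊆
      (Ideal.span {s} : Set (𝒮L.presheaf.obj (op V)))) {b : 𝒮L.presheaf.obj (op (X.basicOpen c))}
    (hb : b ∈ 𝒮L.deg (X.basicOpen c) (hV.basicOpen c) d) :
    b ∈ Ideal.span {(𝒮L.presheaf.map (homOfLE (X.basicOpen_le c)).op).hom s} := by
  have hA := RelProjLib.isAwayZero_res 𝒮L V hV c
  obtain ⟨a, k, hak⟩ := hA.surj b
  have hk : b * 𝒮L.res hV (hV.basicOpen c) (X.basicOpen_le c) ((𝒮L.str.app (op V)).hom c) ^ k ∈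
      𝒮L.deg (X.basicOpen c) (hV.basicOpen c) d := by
    have := SetLike.mul_mem_graded (A := 𝒮L.deg (X.basicOpen c) (hV.basicOpen c)) hb
      (SetLike.pow_mem_graded (A := 𝒮L.deg (X.basicOpen c) (hV.basicOpen c)) k
        ((𝒮L.res hV (hV.basicOpen c) (X.basicOpen_le c)).2 (𝒮L.str_mem V hV c)))
    rwa [smul_zero, add_zero] at this
  have hd' : 𝒮L.res hV (hV.basicOpen c) (X.basicOpen_le c) (DirectSum.decompose (𝒮L.deg V hV) a d) =
      b * 𝒮L.res hV (hV.basicOpen c) (X.basicOpen_le c) ((𝒮L.str.app (op V)).hom c) ^ k := by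
    rw [GradedRingHom.map_directSumDecompose, ← hak]
    exact DirectSum.decompose_of_mem_same _ hk
  obtain ⟨t, ht⟩ := Ideal.mem_span_singleton'.1 (h (SetLike.coe_mem (DirectSum.decompose (𝒮L.deg V hV) a d)))
  obtain ⟨v, hv⟩ := isUnit_iff_exists_inv.1 (hA.isUnit.pow k)
  refine Ideal.mem_span_singleton'.2 ⟨𝒮L.res hV (hV.basicOpen c) (X.basicOpen_le c) t * v, ?_⟩
  rw [← 𝒮L.res_apply hV (hV.basicOpen c), mul_right_comm, ← map_mul, ht, hd', mul_assoc]
  exact (congrArg (b * ·) hv).trans (mul_one b)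

omit [E.IsQuasicoherent] in
include hjL hu in
/-- Local surjectivity of the degree one component is generation. -/
theorem gens_of_span (hL : PicF.IsInvertible L) [E.IsQuasicoherent]
    (hsurj : ∀ x : X, ∃ (U : Y.Opens) (hU : IsAffineOpen U) (e : Γ(E, U)) (V : X.Opens) (hV : IsAffineOpen V)
        (hVU : V ≤ q ⁻¹ᵁ U), x ∈ V ∧
          ((𝒮L.deg V hV 1 : AddSubgroup (𝒮L.presheaf.obj (op V))) : Set (𝒮L.presheaf.obj (op V))) ⊆
            (Ideal.span {(u.appLE U V hVU).hom ((j.app U) e)} : Set (𝒮L.presheaf.obj (op V)))) : Gens v := by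
  refine gens_of_frames hL fun x => ?_
  obtain ⟨U, hU, e, V, hV, hVU, hxV, hspan⟩ := hsurj x
  obtain ⟨U₀, e₀, hxU₀, he₀⟩ := exists_isGen hL x
  obtain ⟨W, hW, hxW, hWle⟩ := exists_isAffineOpen_mem_and_subset (U := U₀ ⊓ V) (x := x) ⟨hxU₀, hxV⟩
  have hWV : W ≤ V := hWle.trans inf_le_right
  obtain ⟨f, hfW, hxf⟩ := hV.exists_basicOpen_le (V := W) ⟨x, hxW⟩ hxV
  set D := X.basicOpen f
  have hD : IsAffineOpen D := hV.basicOpen f
  have hDV : D ≤ V := X.basicOpen_le f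
  refine ⟨U, e, D, hxf, hDV.trans hVU, ?_⟩
  have hg := he₀.restrict (hfW.trans (hWle.trans inf_le_left))
  set g := res L (hfW.trans (hWle.trans inf_le_left)) e₀
  obtain ⟨c, hc, -⟩ := hg.exists_eq le_rfl (res L (hDV.trans hVU) (vsec v U e))
  rw [res_self] at hc
  have hmem : el jL D g ∈ Ideal.span {el jL D (c • g)} := by
    have := span_basicOpen (𝒮L := 𝒮L) hV f hspan (el_mem hjL hD g)
    change _ ∈ Ideal.span
      {(𝒮L.presheaf.map (homOfLE (X.basicOpen_le f)).op).hom ((u.appLE U V hVU).hom (el j U e))} at this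
    rwa [appLE_el (v := v) u hu hVU, el_res (X.basicOpen_le f), res_res, hc] at this
  obtain ⟨a, ha⟩ := Ideal.mem_span_singleton'.1 hmem
  have hm : el jL D (c • g) ∈ 𝒮L.deg D hD 1 := el_mem hjL hD _
  have h0 : (DirectSum.decompose (𝒮L.deg D hD) a 0 : _).1 * el jL D (c • g) = el jL D g := by
    have := congrArg (fun b => ((DirectSum.decompose (𝒮L.deg D hD) b 1 : _).1 : 𝒮L.presheaf.obj (op D))) ha
    simp only at this
    rw [DirectSum.coe_decompose_mul_of_right_mem_of_le _ hm le_rfl, Nat.sub_self] at this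
    rw [this]
    exact DirectSum.decompose_of_mem_same _ (el_mem hjL hD g)
  obtain ⟨r, hr, -⟩ := SymLib.existsUnique_eq_pow hjL hD ((isGen_iff_isFrame g).1 hg) le_rfl
    (SetLike.coe_mem (DirectSum.decompose (𝒮L.deg D hD) a 0))
  rw [pow_zero, mul_one] at hr
  rw [hr, ← el_smul, smul_smul] at h0
  obtain ⟨_, -, huniq⟩ := existsUnique_el hjL hD hg (el_mem hjL hD g)
  have h1 : r * c = 1 :=
    (huniq (r * c) h0).trans (huniq 1 (show el jL D ((1 : Γ(X, D)) • g) = el jL D g by rw [one_smul])).symm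
  rw [hc]
  exact hg.smul_unit (IsUnit.of_mul_eq_one r ((mul_comm c r).trans h1))

end Groth.Agent.ProjBundleLib
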