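import Groth.Agent.ProjBundleLib.Classify
import Groth.Agent.RelProjLib.QMap
import Groth.Agent.RelProjLib.AwayBaseChange
import Groth.Agent.SymLib.InvProj
import Groth.Agent.Props.GenLocus
import Groth.Agent.RelProjLib.ImmCrit

/-! `r_{L,φ}` for a symmetric algebra is the classified morphism read through `Proj(Sym L) ≅ X`. -/

noncomputable section

universe u

open CategoryTheory CategoryTheory.Limits AlgebraicGeometry TopologicalSpace Opposite
open HomogeneousLocalization
open RelProj Groth.Agent.QCoh Groth.Agent.Props.GenLocus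

namespace Groth.Agent.ProjBundleLib

variable {Y P X PL : Scheme.{u}} {q : X ⟶ Y} {L : X.Modules} [L.IsQuasicoherent] {𝒮L : QCGrAlg X}
  {jL : L ⟶ 𝒮L.toModule} (hjL : IsGrSymAlg L 𝒮L jL) {pL : PL ⟶ X}
  {chartL : ∀ (U : X.Opens) (hU : IsAffineOpen U), (((pL ⁻¹ᵁ U : PL.Opens) : Scheme.{u}) ≅ Proj (𝒮L.deg U hU))}
  (hPL : IsRelProj 𝒮L pL chartL)
  {E : Y.Modules} [E.IsQuasicoherent] {𝒮 : QCGrAlg Y} {j : E ⟶ 𝒮.toModule} (hj : IsGrSymAlg E 𝒮 j)
  {p : P ⟶ Y}
  {chart : ∀ (U : Y.Opens) (hU : IsAffineOpen U), ((p ⁻¹ᵁ U : P.Opens) : Scheme.{u}) ≅ Proj (𝒮.deg U hU)}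
  (hP : IsRelProj 𝒮 p chart)
  {v : E ⟶ (Scheme.Modules.pushforward q).obj L} (u : QGrHom q 𝒮 𝒮L)
  (hu : ∀ (U : Y.Opens) (e : Γ(E, U)), (u.app U).hom (el j U e) = jL.app (q ⁻¹ᵁ U) (v.app U e))

include hu in
lemma appLE_el {U : Y.Opens} {V : X.Opens} (h : V ≤ q ⁻¹ᵁ U) (e : Γ(E, U)) :
    (u.appLE U V h).hom (el j U e) = el jL V (res L h (vsec v U e)) := by
  change (𝒮L.presheaf.map (homOfLE h).op).hom ((u.app U).hom (el j U e)) = _
  rw [hu]
  exact el_res h _

include hjL hu in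
/-- The image of a frame generates in every relevant prime. -/
lemma frame_notMem {U : Y.Opens} {e₀ : Γ(E, U)} {V : X.Opens} (hf : Frame v U e₀ V) (hV : IsAffineOpen V)
    (w : Proj (𝒮L.deg V hV)) : (u.appLE U V hf.le).hom (el j U e₀) ∉ w.asHomogeneousIdeal := by
  have he := (isGen_iff_isFrame (res L hf.le (vsec v U e₀))).1 hf.gen
  have := SymLib.notMem_asHomogeneousIdeal hjL hV he le_rfl w
  rw [appLE_el u hu]
  unfold SymLib.genOne at this
  rwa [show (L.presheaf.map (homOfLE (le_refl V)).op) (res L hf.le (vsec v U e₀)) = res L hf.le (vsec v U e₀)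
    from res_self L le_rfl _] at this

include hjL hu in
lemma away_map_eq {U : Y.Opens} (hU : IsAffineOpen U) {e₀ : Γ(E, U)} {V : X.Opens} (hf : Frame v U e₀ V)
    (hV : IsAffineOpen V) :
    Away.map (u.gradedAt U hU V hV hf.le) (el j U e₀) =
      (RelProjLib.zeroToAway (𝒜 := 𝒮L.deg V hV) (𝒮L.str.app (op V)).hom (𝒮L.str_mem V hV)
        (u.gradedAt U hU V hV hf.le (el j U e₀))).comp (chartCo hj U hU e₀ V hf) := by
  refine away_ext hj hU e₀ (fun r => ?_) fun e => ?_
  · rw [RingHom.comp_apply, chartCo_zero]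
    refine val_injective _ ?_
    rw [RelProjLib.val_zeroToAway]
    have hr : fromZeroRingHom (𝒮.deg U hU) (Submonoid.powers (el j U e₀)) ((𝒮.strZero U hU).hom r) =
        Away.mk (𝒮.deg U hU) (el_mem hj hU e₀) 0 ((𝒮.str.app (op U)).hom r)
          (by rw [zero_smul]; exact 𝒮.str_mem U hU r) := by
      refine val_injective _ ?_
      rw [Away.val_mk]
      simp only [pow_zero]; rfl
    rw [hr, Away.map_mk, Away.val_mk]
    rw [← Localization.mk_one_eq_algebraMap]
    refine congr_arg₂ _ ?_ (Subtype.ext (pow_zero _))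
    exact congr($(u.str_appLE U V hf.le).hom r)
  · rw [RingHom.comp_apply, chartCo_ratio]
    refine val_injective _ ?_
    rw [RelProjLib.val_zeroToAway, ratio, Away.map_mk, Away.val_mk, ← Localization.mk_one_eq_algebraMap,
      Localization.mk_eq_mk_iff, Localization.r_iff_exists]
    refine ⟨1, ?_⟩
    simp only [OneMemClass.coe_one, one_mul, pow_one]
    change (u.appLE U V hf.le).hom (el j U e) =
      (u.appLE U V hf.le).hom (el j U e₀) * (𝒮L.str.app (op V)).hom _
    rw [appLE_el u hu, appLE_el u hu, chartAlg_spec hj (hU := hU) hf e, el_smul, mul_comm]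

include hjL hPL hj hP hu in
/-- With generating sections, `r` is everywhere defined and is the classified morphism. -/
theorem exists_cls_of_isProjQMapOn (hv : Gens v)
    {r : ((domQ u pL chartL : PL.Opens) : Scheme.{u}) ⟶ P}
    (hr : IsProjQMapOn u p chart pL chartL (domQ u pL chartL) r) :
    domQ u pL chartL = ⊤ ∧ ∃ c : X ⟶ P, Cls hj (v := v) (chart := chart) c ∧
      r = (domQ u pL chartL).ι ≫ pL ≫ c := by
  obtain ⟨c, hc, -⟩ := existsUnique_cls hj hP hv
  have key : ∀ x : PL, ∃ (U : Y.Opens) (hU : IsAffineOpen U) (e₀ : Γ(E, U)) (V : X.Opens) (hV : IsAffineOpen V)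
      (hf : Frame v U e₀ V) (w : Proj (𝒮L.deg V hV)), emb pL chartL V hV w = x := by
    intro x
    obtain ⟨U, hU, hxU, -⟩ := exists_isAffineOpen_mem_and_subset (X := Y) (x := q (pL x)) (U := ⊤) trivial
    obtain ⟨e₀, V', hxV, hf⟩ := hv U hU (pL x) hxU
    obtain ⟨V, hV, hxV', hVV⟩ := exists_isAffineOpen_mem_and_subset (U := V') (x := pL x) hxV
    obtain ⟨w, hw⟩ := RelProjLib.exists_emb_eq 𝒮L hV (chart := chartL) hxV'
    exact ⟨U, hU, e₀, V, hV, hf.restrict hVV, w, hw⟩
  have hdom : domQ u pL chartL = ⊤ := by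
    refine top_le_iff.1 fun x _ => ?_
    obtain ⟨U, hU, e₀, V, hV, hf, w, rfl⟩ := key x
    rw [RelProjLib.mem_domQ_iff u p pL hP hPL hU hV hf.le, RelCone.mem_domOpen]
    exact ⟨el j U e₀, HomogeneousIdeal.mem_irrelevant_of_mem _ one_pos (el_mem hj hU e₀),
      frame_notMem hjL u hu hf hV w⟩
  refine ⟨hdom, c, hc, Scheme.hom_ext_of_forall _ _ fun x => ?_⟩
  obtain ⟨U, hU, e₀, V, hV, hf, w, hw⟩ := key ((domQ u pL chartL).ι x)
  let i : RelProjLib.ChartIdx (g := q) (𝒮 := 𝒮) :=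
    ⟨U, hU, V, hV, hf.le, 1, one_pos, el j U e₀, el_mem hj hU e₀⟩
  have := RelProjLib.isOpenImmersion_e u pL chartL i
  have hW := range_awayEmb_subset_domQ u pL chartL U hU V hV hf.le one_pos (el j U e₀) (el_mem hj hU e₀)
  let l := IsOpenImmersion.lift (domQ u pL chartL).ι (i.e u pL chartL) hW
  have hl : l ≫ (domQ u pL chartL).ι = i.e u pL chartL := IsOpenImmersion.lift_fac _ _ _
  have : IsOpenImmersion (l ≫ (domQ u pL chartL).ι) := by rw [hl]; infer_instance
  have : IsOpenImmersion l := IsOpenImmersion.of_comp l (domQ u pL chartL).ι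
  refine ⟨l.opensRange, ?_, ?_⟩
  · obtain ⟨z, hz⟩ := (RelProjLib.mem_range_e u pL chartL (i := i)).2
      ⟨w, hw, frame_notMem hjL u hu hf hV w⟩
    refine ⟨z, (domQ u pL chartL).ι.isOpenEmbedding.injective ?_⟩
    rw [← Scheme.Hom.comp_apply, hl]
    exact hz
  have e1 : l ≫ r = l ≫ (domQ u pL chartL).ι ≫ pL ≫ c := by
    refine (hr U hU V hV hf.le 1 one_pos (el j U e₀) (el_mem hj hU e₀) hW).trans ?_
    rw [← Category.assoc l (domQ u pL chartL).ι, hl]
    change _ = awayEmb u pL chartL U hU V hV hf.le one_pos (el j U e₀) (el_mem hj hU e₀) ≫ pL ≫ c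
    rw [away_map_eq hjL hj u hu hU hf hV, awayEmb, Category.assoc, CommRingCat.ofHom_comp, Spec.map_comp,
      Category.assoc]
    have e2 : Spec.map (CommRingCat.ofHom (chartCo hj U hU e₀ V hf)) ≫
        Proj.awayι (𝒮.deg U hU) (el j U e₀) (el_mem hj hU e₀) one_pos ≫ emb p chart U hU = hV.fromSpec ≫ c := by
      rw [show hV.fromSpec = hV.isoSpec.inv ≫ V.ι from (IsAffineOpen.isoSpec_inv_ι hV).symm, Category.assoc,
        hc U hU e₀ V hf, chartMor, awayHom, ← IsAffineOpen.isoSpec_hom hV]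
      simp only [Category.assoc, Iso.inv_hom_id_assoc]
    rw [e2, ← Category.assoc (emb pL chartL V hV), RelProjLib.emb_comp hPL, Category.assoc, Category.assoc,
      Proj.awayι_toSpecZero_assoc, ← Spec.map_comp_assoc]
    rfl
  rw [← Scheme.Hom.isoOpensRange_inv_comp l, Category.assoc, Category.assoc, e1]

end Groth.Agent.ProjBundleLib
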