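import Groth.Agent.ProjBundleLib.Sections

/-! Existence and uniqueness of the canonical map `E → p_* O(1)`. -/

noncomputable section

universe u

open CategoryTheory CategoryTheory.Limits AlgebraicGeometry TopologicalSpace Opposite
open HomogeneousLocalization
open RelProj Groth.Agent.QCoh

namespace Groth.Agent.ProjBundleLib

variable {Y P : Scheme.{u}} {E : Y.Modules} [E.IsQuasicoherent] {𝒮 : QCGrAlg Y} {j : E ⟶ 𝒮.toModule}
  {p : P ⟶ Y}
  {chart : ∀ (U : Y.Opens) (hU : IsAffineOpen U), ((p ⁻¹ᵁ U : P.Opens) : Scheme.{u}) ≅ Proj (𝒮.deg U hU)}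
  {O1 : P.Modules}
  {lam : ∀ (U : Y.Opens) (hU : IsAffineOpen U),
    O1 ⟶ (Scheme.Modules.pushforward (emb p chart U hU)).obj (GrTwist.twist (𝒮.deg U hU) 1)}
  (hj : IsGrSymAlg E 𝒮 j) (hO1 : IsRelTwist 𝒮 p chart 1 O1 lam)

/-- The section of `O(1)` on `p ⁻¹ U` with values `e / 1`. -/
def canSec (U : Y.Opens) (hU : IsAffineOpen U) (e : Γ(E, U)) : Γ(O1, p ⁻¹ᵁ U) :=
  ((hO1.bijective U hU (p ⁻¹ᵁ U) le_rfl).2
    (degOneSec (el_mem hj hU e) (emb p chart U hU ⁻¹ᵁ (p ⁻¹ᵁ U)))).choose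

lemma val_canSec (U : Y.Opens) (hU : IsAffineOpen U) (e : Γ(E, U))
    (y : ↥(emb p chart U hU ⁻¹ᵁ (p ⁻¹ᵁ U))) :
    GrTwist.val (V := emb p chart U hU ⁻¹ᵁ (p ⁻¹ᵁ U))
        ((lam U hU).app (p ⁻¹ᵁ U) (canSec hj hO1 U hU e)) y =
      algebraMap (𝒮.presheaf.obj (op U)) (GrTwist.Loc (𝒮.deg U hU) y.1) (el j U e) :=
  (congrArg (fun t => GrTwist.val (V := emb p chart U hU ⁻¹ᵁ (p ⁻¹ᵁ U)) t y)
    ((hO1.bijective U hU (p ⁻¹ᵁ U) le_rfl).2
      (degOneSec (el_mem hj hU e) (emb p chart U hU ⁻¹ᵁ (p ⁻¹ᵁ U)))).choose_spec).trans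
    (val_degOneSec _ _ y)

lemma canSec_basic (hP : IsRelProj 𝒮 p chart) (U : Y.Opens) (hU : IsAffineOpen U) (r : Γ(Y, U))
    (e : Γ(E, U)) :
    res O1 (p.preimage_mono (Y.basicOpen_le r)) (canSec hj hO1 U hU e) =
      canSec hj hO1 (Y.basicOpen r) (hU.basicOpen r) (res E (Y.basicOpen_le r) e) := by
  refine ext_of_val hO1 (hU.basicOpen r) le_rfl fun y => Eq.trans ?_ (val_canSec hj hO1 _ _ _ y).symm
  obtain ⟨y, hy⟩ := y
  have hmem : (emb p chart U hU).base (ProjectiveSpectrum.comap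
      (𝒮.res hU (hU.basicOpen r) (Y.basicOpen_le r)) (𝒮.irrelevant_le_map U hU r) y) ∈
      p ⁻¹ᵁ Y.basicOpen r := by
    have h := hy
    rw [← map_res_emb hP U hU r] at h
    exact h
  refine (hO1.compat U hU r (p ⁻¹ᵁ Y.basicOpen r) _ y hy hmem).trans ?_
  refine (congrArg (GrTwist.locMap _ _ y)
    ((val_res hU (p.preimage_mono (Y.basicOpen_le r)) (canSec hj hO1 U hU e) ⟨_, hmem⟩).trans
      (val_canSec hj hO1 U hU e _))).trans ?_
  rw [← Localization.mk_one_eq_algebraMap]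
  refine (GrTwist.locMap_mk _ _ y _ _).trans ?_
  rw [← Localization.mk_one_eq_algebraMap]
  exact congr(Localization.mk $(el_res (Y.basicOpen_le r) e) _).trans
    (congrArg _ (Subtype.ext (map_one _)))

lemma canSec_res (hP : IsRelProj 𝒮 p chart) {U V : Y.Opens} (hU : IsAffineOpen U) (hV : IsAffineOpen V)
    (h : V ≤ U) (e : Γ(E, U)) :
    res O1 (p.preimage_mono h) (canSec hj hO1 U hU e) = canSec hj hO1 V hV (res E h e) := by
  refine eq_of_locally_eq O1
    (U := fun i : {rs : Γ(Y, V) × Γ(Y, U) // Y.basicOpen rs.1 = Y.basicOpen rs.2} =>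
      p ⁻¹ᵁ Y.basicOpen i.1.1) (V := p ⁻¹ᵁ V)
    (fun i => p.preimage_mono (Y.basicOpen_le _)) (fun x hx => ?_) _ _ fun ⟨⟨r, s⟩, e'⟩ => ?_
  · obtain ⟨r, s, e', hxr⟩ := exists_basicOpen_le_affine_inter hV hU (p x) ⟨hx, h hx⟩
    exact Opens.mem_iSup.2 ⟨⟨(r, s), e'⟩, hxr⟩
  · rw [res_res, canSec_basic hj hO1 hP V hV r, res_res]
    have key : ∀ (W : Y.Opens) (hW : IsAffineOpen W), Y.basicOpen s = W → ∀ hWU : W ≤ U,
        res O1 (p.preimage_mono hWU) (canSec hj hO1 U hU e) = canSec hj hO1 W hW (res E hWU e) := by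
      rintro W hW rfl hWU
      exact canSec_basic hj hO1 hP U hU s e
    exact key _ (hV.basicOpen r) e'.symm _

lemma canSec_add (U : Y.Opens) (hU : IsAffineOpen U) (e e' : Γ(E, U)) :
    canSec hj hO1 U hU (e + e') = canSec hj hO1 U hU e + canSec hj hO1 U hU e' := by
  refine ext_of_val hO1 hU le_rfl fun y => (val_canSec hj hO1 U hU _ y).trans ?_
  rw [el_add, map_add, map_add]
  exact (congrArg₂ (· + ·) (val_canSec hj hO1 U hU e y) (val_canSec hj hO1 U hU e' y)).symm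

lemma canSec_smul (hP : IsRelProj 𝒮 p chart) (U : Y.Opens) (hU : IsAffineOpen U) (r : Γ(Y, U))
    (e : Γ(E, U)) :
    canSec hj hO1 U hU (r • e) = p.app U r • canSec hj hO1 U hU e := by
  refine ext_of_val hO1 hU le_rfl fun y => (val_canSec hj hO1 U hU _ y).trans ?_
  rw [el_smul, map_mul]
  refine Eq.trans ?_ (val_smul hU _ _ y).symm
  refine congrArg₂ (· * ·) ?_ (val_canSec hj hO1 U hU e y).symm
  obtain ⟨y, hym⟩ := y
  obtain ⟨e₀, he₀⟩ := exists_el_notMem hj hU y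
  have hmem : emb p chart U hU y ∈ Dop j p chart U hU e₀ := ⟨y, he₀, rfl⟩
  have h1 := congrArg (fun c : Γ(P, Dop j p chart U hU e₀) =>
    (((emb p chart U hU).app _ c :
        GrTwist.O (𝒜 := 𝒮.deg U hU) (op (emb p chart U hU ⁻¹ᵁ Dop j p chart U hU e₀))).1 ⟨y, hmem⟩).val)
    (chartRing_str hj hP U hU e₀ r)
  have h2 := (emb_app_chartRing (p := p) (chart := chart) U hU e₀ _ ⟨y, hmem⟩ he₀).symm.trans h1
  refine Eq.trans ?_ (h2.trans ?_)
  · simp only [mapId, fromZeroRingHom, RingHom.coe_mk, MonoidHom.coe_mk, OneHom.coe_mk]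
    erw [HomogeneousLocalization.map_mk, HomogeneousLocalization.val_mk]
    exact (Localization.mk_one_eq_algebraMap _).symm
  · have e3 : (emb p chart U hU).app (Dop j p chart U hU e₀) (p.appLE U _ (Dop_le U hU e₀) r) =
        (Proj (𝒮.deg U hU)).presheaf.map
          (homOfLE ((emb p chart U hU).preimage_mono (Dop_le (j := j) (chart := chart) U hU e₀))).op
          ((emb p chart U hU).app (p ⁻¹ᵁ U) (p.app U r)) :=
      ConcreteCategory.congr_hom
        ((emb p chart U hU).naturality (homOfLE (Dop_le (j := j) (chart := chart) U hU e₀)).op) (p.app U r)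
    exact congrArg (fun c : GrTwist.O (𝒜 := 𝒮.deg U hU)
      (op (emb p chart U hU ⁻¹ᵁ Dop j p chart U hU e₀)) => (c.1 ⟨y, hmem⟩).val) e3

include hj hO1 in
/-- The canonical map exists. -/
theorem exists_isCan (hP : IsRelProj 𝒮 p chart) :
    ∃ φ : E ⟶ (Scheme.Modules.pushforward p).obj O1, IsCan j p chart lam φ := by
  let η : (Scheme.AffineZariskiSite.toOpensFunctor Y).op ⋙ E.presheaf ⟶
      (Scheme.AffineZariskiSite.toOpensFunctor Y).op ⋙ ((Scheme.Modules.pushforward p).obj O1).presheaf :=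
    { app := fun U => AddCommGrpCat.ofHom
        (AddMonoidHom.mk' (fun e => canSec hj hO1 U.unop.1 U.unop.2 e) fun a b =>
          canSec_add hj hO1 U.unop.1 U.unop.2 a b)
      naturality := fun U V i => by
        ext e
        exact (canSec_res hj hO1 hP U.unop.2 V.unop.2
          (Scheme.AffineZariskiSite.toOpens_mono i.unop.le) e).symm }
  have hη : ∀ (U : Y.Opens) (hU : IsAffineOpen U) (r : Γ(Y, U)) (m : Γ(E, U)),
      SymLib.appAff η U hU (r • m) = r • SymLib.appAff η U hU m := fun U hU r m => canSec_smul hj hO1 hP U hU r m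
  refine ⟨SymLib.homOfSite η hη, fun U hU e y => ?_⟩
  have h := congrArg (fun t => GrTwist.val (V := emb p chart U hU ⁻¹ᵁ (p ⁻¹ᵁ U))
    ((lam U hU).app (p ⁻¹ᵁ U) t) y) (ConcreteCategory.congr_hom (SymLib.homOfSite_app η hη U hU) e)
  exact h.trans (val_canSec hj hO1 U hU e y)

end Groth.Agent.ProjBundleLib
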