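import Mathlib

/-! Coefficients of characteristic polynomials of endomorphisms of a finite module. -/

noncomputable section

universe u

open Polynomial TensorProduct

namespace Groth.Agent.ProjBundleLib

theorem isIntegral_charpoly_coeff_field {R L : Type*} [CommRing R] [Field L] [Algebra R L] [IsAlgClosed L]
    {n : Type*} [Fintype n] [DecidableEq n] (M : Matrix n n L) (hM : IsIntegral R M) (j : ℕ) :
    IsIntegral R (M.charpoly.coeff j) := by
  obtain ⟨P, hP, hPM⟩ := hM
  have hPM' : aeval M (P.map (algebraMap R L)) = 0 := by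
    rw [aeval_map_algebraMap]; exact hPM
  have hroots : ∀ r ∈ M.charpoly.roots, IsIntegral R r := by
    intro r hr
    have hr' := (mem_roots (Matrix.charpoly_monic M).ne_zero).mp hr
    have hspec := Matrix.mem_spectrum_iff_isRoot_charpoly.mpr hr'
    have : Nontrivial (Matrix n n L) := by
      by_contra hnt
      rw [not_nontrivial_iff_subsingleton] at hnt
      simp [spectrum.of_subsingleton] at hspec
    have h3 := spectrum.subset_polynomial_aeval M (P.map (algebraMap R L)) ⟨r, hspec, rfl⟩
    rw [hPM', spectrum.zero_eq, Set.mem_singleton_iff] at h3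
    exact ⟨P, hP, by simpa [eval_map] using h3⟩
  have hlift : M.charpoly ∈ lifts (algebraMap (integralClosure R L) L) := by
    rw [(IsAlgClosed.splits M.charpoly).eq_prod_roots_of_monic (Matrix.charpoly_monic M)]
    refine multiset_prod_mem _ fun q hq ↦ ?_
    obtain ⟨r, hr, rfl⟩ := Multiset.mem_map.mp hq
    exact ⟨X - C ⟨r, hroots r hr⟩, by simp⟩
  obtain ⟨c, hc⟩ := (lifts_iff_coeff_lifts _).mp hlift j
  rw [← hc]
  exact c.2

/-- The characteristic polynomial of an integral matrix has integral coefficients. -/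
theorem isIntegral_charpoly_coeff {R S : Type*} [CommRing R] [CommRing S] [Algebra R S] [IsNoetherianRing S]
    {n : Type*} [Fintype n] [DecidableEq n] (M : Matrix n n S) (hM : IsIntegral R M) (j : ℕ) :
    IsIntegral R (M.charpoly.coeff j) := by
  classical
  set c := M.charpoly.coeff j
  have key : ∀ p ∈ minimalPrimes S, ∃ Q : R[X], Q.Monic ∧ aeval c Q ∈ p := by
    intro p hp
    have : p.IsPrime := Ideal.minimalPrimes_isPrime hp
    let L := AlgebraicClosure (FractionRing (S ⧸ p))
    let π : S →ₐ[R] L :=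
      ((Algebra.ofId (S ⧸ p) L).restrictScalars R).comp (Ideal.Quotient.mkₐ R p)
    obtain ⟨Q, hQ, hQ0⟩ := isIntegral_charpoly_coeff_field (R := R) (π.mapMatrix M)
      (hM.map π.mapMatrix) j
    refine ⟨Q, hQ, ?_⟩
    have hc : ((π.mapMatrix M).charpoly).coeff j = π c := by
      simp only [c, AlgHom.mapMatrix_apply, ← AlgHom.coe_toRingHom, Matrix.charpoly_map, coeff_map]
    rw [hc, ← aeval_def, aeval_algHom_apply] at hQ0
    have hinj : Function.Injective (algebraMap (S ⧸ p) L) := by
      rw [IsScalarTower.algebraMap_eq (S ⧸ p) (FractionRing (S ⧸ p)) L, RingHom.coe_comp]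
      exact (RingHom.injective _).comp (IsFractionRing.injective (S ⧸ p) (FractionRing (S ⧸ p)))
    exact Ideal.Quotient.eq_zero_iff_mem.mp (hinj (hQ0.trans (map_zero _).symm))
  choose! Q hQm hQp using key
  have hfin := minimalPrimes.finite_of_isNoetherianRing S
  have hnil : IsNilpotent (aeval c (∏ p ∈ hfin.toFinset, Q p)) := by
    rw [← mem_nilradical, nilradical, Ideal.zero_eq_bot, ← Ideal.sInf_minimalPrimes, Submodule.mem_sInf]
    intro p hp
    rw [map_prod]
    exact Ideal.prod_mem _ (hfin.mem_toFinset.mpr hp) (hQp p hp)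
  obtain ⟨m, hm⟩ := hnil
  refine ⟨(∏ p ∈ hfin.toFinset, Q p) ^ m,
    (monic_prod_of_monic _ _ fun p hp => hQm p (hfin.mem_toFinset.mp hp)).pow m, ?_⟩
  rw [← aeval_def, map_pow, hm]

attribute [local instance] MvPolynomial.algebraMvPolynomial in
/-- The coefficients of all characteristic polynomials lie in one finite module. -/
theorem fg_adjoin_charpoly (A K : Type u) [CommRing A] [IsNoetherianRing A] [CommRing K] [Algebra A K]
    [IsNoetherianRing K] (E : Type u) [AddCommGroup E] [Module A E] [Module.Finite A E]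
    [Module.Free K (K ⊗[A] E)] :
    (Algebra.adjoin A {c : K | ∃ (v : E →ₗ[A] E) (j : ℕ),
        c = ((v.baseChange K).charpoly).coeff j}).toSubmodule.FG := by
  classical
  rcases subsingleton_or_nontrivial K with _ | _
  · rw [Subsingleton.elim (Subalgebra.toSubmodule _) (⊥ : Submodule A K)]
    exact Submodule.fg_bot
  obtain ⟨m, v, hv⟩ := Module.Finite.exists_fin (R := A) (M := Module.End A E)
  let b := Module.Free.chooseBasis K (K ⊗[A] E)
  let ι := Module.Free.ChooseBasisIndex K (K ⊗[A] E)
  let φ : Module.End A E →ₐ[A] Matrix ι ι K :=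
    ((LinearMap.toMatrixAlgEquiv b).toAlgHom.restrictScalars A).comp (Module.End.baseChangeHom A K E)
  let P := MvPolynomial (Fin m) K
  let P₀ := MvPolynomial (Fin m) A
  have : IsScalarTower A P₀ P := IsScalarTower.of_algebraMap_eq fun a => (MvPolynomial.map_C (algebraMap A K) a).symm
  let ψ : Matrix ι ι K →ₐ[A] Matrix ι ι P := ((Algebra.ofId K P).restrictScalars A).mapMatrix
  let w : Fin m → Matrix ι ι P := fun i => ψ (φ (v i))
  let G : Matrix ι ι P := ∑ i, (MvPolynomial.X i : P) • w i
  have hspan : ∀ u, ψ (φ u) ∈ Submodule.span P₀ (Set.range w) := by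
    intro u
    have hu : u ∈ Submodule.span A (Set.range v) := hv ▸ trivial
    have h2 : Submodule.span A (Set.range v) ≤
        Submodule.comap (ψ.comp φ).toLinearMap ((Submodule.span P₀ (Set.range w)).restrictScalars A) :=
      Submodule.span_le.mpr (by rintro _ ⟨i, rfl⟩; exact Submodule.subset_span ⟨i, rfl⟩)
    exact h2 hu
  have hG : IsIntegral P₀ G := by
    let T := Algebra.adjoin P₀ (Set.range (ψ.comp φ))
    have hT : T.toSubmodule = Submodule.span P₀ (Set.range w) := by
      refine le_antisymm ?_ (Submodule.span_le.mpr ?_)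
      · rw [Algebra.adjoin_eq_span]
        refine Submodule.span_le.mpr fun x hx => ?_
        have : x ∈ MonoidHom.mrange ((ψ.comp φ) : Module.End A E →* Matrix ι ι P) :=
          (Submonoid.closure_le (S := MonoidHom.mrange _)).mpr (fun y hy => hy) hx
        obtain ⟨u, rfl⟩ := this
        exact hspan u
      · rintro _ ⟨i, rfl⟩
        exact Algebra.subset_adjoin ⟨v i, rfl⟩
    refine IsIntegral.of_mem_of_fg T (hT ▸ Submodule.fg_span (Set.finite_range w)) G ?_
    refine sum_mem fun i _ => ?_
    rw [show (MvPolynomial.X i : P) • w i = (MvPolynomial.X i : P₀) • w i from ?_]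
    · exact T.smul_mem (Algebra.subset_adjoin ⟨v i, rfl⟩ : w i ∈ T) _
    · rw [← algebraMap_smul P (MvPolynomial.X i : P₀) (w i), MvPolynomial.algebraMap_def, MvPolynomial.map_X]
  let C₀ : Finset K := (Finset.range (Fintype.card ι + 1)).biUnion fun j =>
    (G.charpoly.coeff j).support.image fun e => (G.charpoly.coeff j).coeff e
  have hint : ∀ x ∈ (↑C₀ : Set K), IsIntegral A x := by
    intro x hx
    obtain ⟨j, -, hx⟩ := Finset.mem_biUnion.mp hx
    obtain ⟨e, -, rfl⟩ := Finset.mem_image.mp hx
    exact MvPolynomial.isIntegral_iff_isIntegral_coeff.mp (isIntegral_charpoly_coeff G hG j) e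
  have hfg : (Algebra.adjoin A (↑C₀ : Set K)).toSubmodule.FG :=
    fg_adjoin_of_finite C₀.finite_toSet hint
  have : IsNoetherian A (Algebra.adjoin A (↑C₀ : Set K)).toSubmodule := isNoetherian_of_fg_of_noetherian _ hfg
  refine Submodule.FG.of_le hfg ?_
  change Algebra.adjoin A _ ≤ Algebra.adjoin A (↑C₀ : Set K)
  refine Algebra.adjoin_le ?_
  rintro _ ⟨u, j, rfl⟩
  obtain ⟨a, ha⟩ := Submodule.mem_span_range_iff_exists_fun A |>.mp (hv ▸ trivial : u ∈ Submodule.span A (Set.range v))
  let ev : P →ₐ[K] K := MvPolynomial.aeval fun i => algebraMap A K (a i)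
  have hev : ev.mapMatrix G = φ u := by
    rw [← ha, map_sum, map_sum]
    refine Finset.sum_congr rfl fun i _ => ?_
    rw [map_smul φ]
    ext k l
    simp [w, ψ, ev, Algebra.smul_def (R := A) (A := K)]
    exact congrArg (· * _) (MvPolynomial.aeval_X _ i)
  have hch : (u.baseChange K).charpoly = G.charpoly.map ev.toRingHom := by
    rw [← Matrix.charpoly_map, ← LinearMap.charpoly_toMatrix (u.baseChange K) b]
    congr 1
    exact hev.symm
  rw [hch, coeff_map]
  by_cases hj : j < Fintype.card ι + 1
  · change ev (G.charpoly.coeff j) ∈ Algebra.adjoin A (↑C₀ : Set K)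
    rw [(G.charpoly.coeff j).as_sum, map_sum]
    refine sum_mem fun e he => ?_
    rw [MvPolynomial.aeval_monomial, Algebra.algebraMap_self_apply]
    refine mul_mem (Algebra.subset_adjoin ?_) (prod_mem fun i _ => pow_mem (Subalgebra.algebraMap_mem _ _) _)
    exact Finset.mem_biUnion.mpr ⟨j, Finset.mem_range.mpr hj, Finset.mem_image.mpr ⟨e, he, rfl⟩⟩
  · rw [coeff_eq_zero_of_natDegree_lt (by rw [Matrix.charpoly_natDegree_eq_dim]; omega), map_zero]
    exact zero_mem _

end Groth.Agent.ProjBundleLib
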