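import Groth.Agent.ProjBundleLib.Sections
import Groth.Agent.RelProjLib.Res
import Groth.Agent.Props.GenTensor

/-! The morphism to a projective bundle classified by generating sections of an invertible module. -/

noncomputable section

universe u

open CategoryTheory CategoryTheory.Limits AlgebraicGeometry TopologicalSpace Opposite
open HomogeneousLocalization
open RelProj Groth.Agent.QCoh Groth.Agent.Props.GenLocus

namespace Groth.Agent.ProjBundleLib

variable {Y P X : Scheme.{u}} {E : Y.Modules} {𝒮 : QCGrAlg Y} {j : E ⟶ 𝒮.toModule} {p : P ⟶ Y}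
  {chart : ∀ (U : Y.Opens) (hU : IsAffineOpen U), ((p ⁻¹ᵁ U : P.Opens) : Scheme.{u}) ≅ Proj (𝒮.deg U hU)}
  {g : X ⟶ Y} {L : X.Modules} (v : E ⟶ (Scheme.Modules.pushforward g).obj L)

/-- The section of `L` given by `e`. -/
def vsec (U : Y.Opens) (e : Γ(E, U)) : Γ(L, g ⁻¹ᵁ U) := v.app U e

lemma vsec_res {U V : Y.Opens} (h : V ≤ U) (e : Γ(E, U)) :
    vsec v V (res E h e) = res L (g.preimage_mono h) (vsec v U e) :=
  app_res v h e

lemma vsec_add (U : Y.Opens) (e e' : Γ(E, U)) : vsec v U (e + e') = vsec v U e + vsec v U e' :=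
  map_add _ e e'

lemma vsec_smul (U : Y.Opens) (r : Γ(Y, U)) (e : Γ(E, U)) :
    vsec v U (r • e) = g.app U r • vsec v U e :=
  v.app_smul r e

/-- `v e₀` is a frame of `L` on `V`. -/
def Frame (U : Y.Opens) (e₀ : Γ(E, U)) (V : X.Opens) : Prop :=
  ∃ h : V ≤ g ⁻¹ᵁ U, IsGen L V (res L h (vsec v U e₀))

/-- The images of the sections of `E` generate `L`. -/
def Gens : Prop :=
  ∀ (U : Y.Opens), IsAffineOpen U → ∀ x ∈ g ⁻¹ᵁ U, ∃ (e₀ : Γ(E, U)) (V : X.Opens), x ∈ V ∧ Frame v U e₀ V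

variable {v}

lemma Frame.le {U : Y.Opens} {e₀ : Γ(E, U)} {V : X.Opens} (hf : Frame v U e₀ V) : V ≤ g ⁻¹ᵁ U := hf.1

lemma Frame.gen {U : Y.Opens} {e₀ : Γ(E, U)} {V : X.Opens} (hf : Frame v U e₀ V) :
    IsGen L V (res L hf.le (vsec v U e₀)) := hf.2

lemma Frame.restrict {U : Y.Opens} {e₀ : Γ(E, U)} {V V' : X.Opens} (hf : Frame v U e₀ V) (h : V' ≤ V) :
    Frame v U e₀ V' := by
  refine ⟨h.trans hf.le, ?_⟩
  rw [← res_res L hf.le h]
  exact hf.gen.restrict h

lemma Frame.shrink {U D : Y.Opens} {e₀ : Γ(E, U)} {V : X.Opens} (hf : Frame v U e₀ V) (h : D ≤ U)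
    (hV : V ≤ g ⁻¹ᵁ D) : Frame v D (res E h e₀) V := by
  refine ⟨hV, ?_⟩
  rw [vsec_res, res_res]
  exact hf.gen

variable [E.IsQuasicoherent] (hj : IsGrSymAlg E 𝒮 j)
include hj

lemma exists_chartAlg (U : Y.Opens) (hU : IsAffineOpen U) (e₀ : Γ(E, U)) (V : X.Opens) (hf : Frame v U e₀ V) :
    ∃ F : (𝒮.presheaf.obj (op U) : Type u) →+* Γ(X, V),
      (∀ r, F ((𝒮.str.app (op U)).hom r) = g.appLE U V hf.le r) ∧
      (∀ e, res L hf.le (vsec v U e) = F (el j U e) • res L hf.le (vsec v U e₀)) ∧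
      F (el j U e₀) = 1 := by
  have hc : ∀ e, ∃ c : Γ(X, V), res L hf.le (vsec v U e) = c • res L hf.le (vsec v U e₀) := fun e => by
    obtain ⟨a, ha, -⟩ := hf.gen.exists_eq le_rfl (res L hf.le (vsec v U e))
    exact ⟨a, by rwa [res_self] at ha⟩
  choose c hc using hc
  have inj : ∀ a b : Γ(X, V), a • res L hf.le (vsec v U e₀) = b • res L hf.le (vsec v U e₀) → a = b :=
    fun a b h => hf.gen.injective le_rfl (by rwa [res_self])
  let f : Γ(E, U) →+ Γ(X, V) := AddMonoidHom.mk' c fun a b => inj _ _ (by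
    rw [add_smul, ← hc, ← hc, ← hc, vsec_add, map_add])
  obtain ⟨F, hF0, hF1⟩ := exists_lift hj (g.appLE U V hf.le).hom f hU fun r m => inj _ _ (by
    change c (r • m) • _ = _
    rw [← hc, vsec_smul, res_smul, hc m, smul_smul]
    rfl)
  refine ⟨F, hF0, fun e => by rw [hF1]; exact hc e, ?_⟩
  rw [hF1]
  exact inj _ _ (by rw [one_smul]; exact (hc e₀).symm)

/-- The algebra map attached to a frame. -/
def chartAlg (U : Y.Opens) (hU : IsAffineOpen U) (e₀ : Γ(E, U)) (V : X.Opens) (hf : Frame v U e₀ V) :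
    (𝒮.presheaf.obj (op U) : Type u) →+* Γ(X, V) :=
  (exists_chartAlg hj U hU e₀ V hf).choose

variable {U : Y.Opens} {hU : IsAffineOpen U} {e₀ : Γ(E, U)} {V : X.Opens}

lemma chartAlg_str (hf : Frame v U e₀ V) (r : Γ(Y, U)) :
    chartAlg hj U hU e₀ V hf ((𝒮.str.app (op U)).hom r) = g.appLE U V hf.le r :=
  (exists_chartAlg hj U hU e₀ V hf).choose_spec.1 r

lemma chartAlg_spec (hf : Frame v U e₀ V) (e : Γ(E, U)) :
    res L hf.le (vsec v U e) = chartAlg hj U hU e₀ V hf (el j U e) • res L hf.le (vsec v U e₀) :=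
  (exists_chartAlg hj U hU e₀ V hf).choose_spec.2.1 e

lemma chartAlg_self (hf : Frame v U e₀ V) : chartAlg hj U hU e₀ V hf (el j U e₀) = 1 :=
  (exists_chartAlg hj U hU e₀ V hf).choose_spec.2.2

lemma chartAlg_unique (hf : Frame v U e₀ V) {e : Γ(E, U)} {c : Γ(X, V)}
    (h : res L hf.le (vsec v U e) = c • res L hf.le (vsec v U e₀)) :
    chartAlg hj U hU e₀ V hf (el j U e) = c :=
  hf.gen.injective le_rfl (by
    simp only [res_self]
    exact (chartAlg_spec hj hf e).symm.trans h)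

lemma isUnit_chartAlg_self (hf : Frame v U e₀ V) : IsUnit (chartAlg hj U hU e₀ V hf (el j U e₀)) := by
  rw [chartAlg_self]
  exact isUnit_one

/-- The ring map on the chart of `e₀`. -/
def chartCo (U : Y.Opens) (hU : IsAffineOpen U) (e₀ : Γ(E, U)) (V : X.Opens) (hf : Frame v U e₀ V) :
    Away (𝒮.deg U hU) (el j U e₀) →+* Γ(X, V) :=
  liftAway (𝒮.deg U hU) (chartAlg hj U hU e₀ V hf) (isUnit_chartAlg_self hj hf)

lemma chartCo_ratio (hf : Frame v U e₀ V) (e : Γ(E, U)) :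
    chartCo hj U hU e₀ V hf (ratio hj hU e₀ e) = chartAlg hj U hU e₀ V hf (el j U e) := by
  have h := liftAway_mk (𝒜 := 𝒮.deg U hU) (chartAlg hj U hU e₀ V hf) (isUnit_chartAlg_self hj hf)
    (el_mem hj hU e₀) 1 (el j U e) (by rw [smul_eq_mul, one_mul]; exact el_mem hj hU e)
  rw [chartAlg_self, one_pow, mul_one] at h
  exact h

lemma chartCo_zero (hf : Frame v U e₀ V) (r : Γ(Y, U)) :
    chartCo hj U hU e₀ V hf (fromZeroRingHom _ _ ((𝒮.strZero U hU).hom r)) = g.appLE U V hf.le r :=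
  (liftAway_fromZero _ (isUnit_chartAlg_self hj hf) _).trans (chartAlg_str hj hf r)

variable (p chart) in
/-- The morphism on a frame. -/
def chartMor (U : Y.Opens) (hU : IsAffineOpen U) (e₀ : Γ(E, U)) (V : X.Opens) (hf : Frame v U e₀ V) :
    (V : Scheme.{u}) ⟶ P :=
  awayHom (𝒮.deg U hU) V (el_mem hj hU e₀) one_pos (chartCo hj U hU e₀ V hf) ≫ emb p chart U hU

lemma chartMor_comp (hP : IsRelProj 𝒮 p chart) (hf : Frame v U e₀ V) :
    chartMor p chart hj U hU e₀ V hf ≫ p = V.ι ≫ g := by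
  rw [chartMor, Category.assoc, RelProjLib.emb_comp hP, ← Category.assoc, awayHom_toSpecZero,
    Category.assoc, ← Spec.map_comp_assoc]
  have e : 𝒮.strZero U hU ≫ CommRingCat.ofHom
      ((chartCo hj U hU e₀ V hf).comp (fromZeroRingHom _ _)) = g.appLE U V hf.le :=
    CommRingCat.hom_ext (RingHom.ext fun r => chartCo_zero hj hf r)
  rw [e, Scheme.Opens.toSpecΓ_SpecMap_appLE_assoc, IsAffineOpen.toSpecΓ_fromSpec, Scheme.Hom.resLE_comp_ι]

lemma homOfLE_chartMor (hf : Frame v U e₀ V) {V' : X.Opens} (h : V' ≤ V) :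
    X.homOfLE h ≫ chartMor p chart hj U hU e₀ V hf = chartMor p chart hj U hU e₀ V' (hf.restrict h) := by
  rw [chartMor, chartMor, ← Category.assoc, homOfLE_awayHom]
  congr 2
  refine away_ext hj hU e₀ (fun r => ?_) fun e => ?_
  · rw [RingHom.comp_apply, chartCo_zero, chartCo_zero]
    exact ConcreteCategory.congr_hom (g.appLE_map hf.le (homOfLE h).op) r
  · rw [RingHom.comp_apply, chartCo_ratio, chartCo_ratio]
    refine (chartAlg_unique hj (hf.restrict h) ?_).symm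
    rw [← res_res L hf.le h, chartAlg_spec hj (hU := hU) hf e, res_smul, res_res]

lemma chartMor_shrink (hP : IsRelProj 𝒮 p chart) (hf : Frame v U e₀ V) {D : Y.Opens}
    (hD : IsAffineOpen D) (h : D ≤ U) (hV : V ≤ g ⁻¹ᵁ D) :
    chartMor p chart hj D hD (res E h e₀) V (hf.shrink h hV) = chartMor p chart hj U hU e₀ V hf := by
  rw [chartMor, chartMor, ← RelProjLib.map_res_emb_affine 𝒮 hP hU hD h, ← Category.assoc]
  congr 1
  have hy : (𝒮.res hU hD h) (el j U e₀) = el j D (res E h e₀) := el_res h e₀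
  suffices H : ∀ (a : 𝒮.presheaf.obj (op D)) (ha : a ∈ 𝒮.deg D hD 1) (he : (𝒮.res hU hD h) (el j U e₀) = a)
      (φ : Away (𝒮.deg D hD) a →+* Γ(X, V)),
      (∀ r, φ (fromZeroRingHom _ _ ((𝒮.strZero D hD).hom r)) = g.appLE D V hV r) →
      (∀ e, φ (Away.mk (𝒮.deg D hD) ha 1 (el j D (res E h e))
          (by rw [smul_eq_mul, one_mul]; exact el_mem hj hD _)) = chartAlg hj U hU e₀ V hf (el j U e)) →
      awayHom (𝒮.deg D hD) V ha one_pos φ ≫
          Proj.map (𝒮.res hU hD h) (RelProjLib.irrelevant_le_map_affine 𝒮 hU hD h) =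
        awayHom (𝒮.deg U hU) V (el_mem hj hU e₀) one_pos (chartCo hj U hU e₀ V hf) by
    have hfr := hf.shrink h hV
    refine H _ (el_mem hj hD _) hy _ (fun r => chartCo_zero hj _ r) fun e => ?_
    refine (chartCo_ratio hj hfr (res E h e)).trans (chartAlg_unique hj hfr ?_)
    rw [vsec_res, vsec_res, res_res, res_res]
    exact chartAlg_spec hj hf e
  rintro a ha rfl φ h0 h1
  rw [awayHom, awayHom, Category.assoc, Category.assoc,
    Proj.awayι_comp_map _ _ one_pos _ (el_mem hj hU e₀), ← Spec.map_comp_assoc]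
  congr 3
  refine CommRingCat.hom_ext (away_ext hj hU e₀ (fun r => ?_) fun e => ?_)
  · refine Eq.trans ?_ (chartCo_zero hj hf r).symm
    have e1 : Away.map (𝒮.res hU hD h) (el j U e₀) (fromZeroRingHom _ _ ((𝒮.strZero U hU).hom r)) =
        fromZeroRingHom _ _ ((𝒮.strZero D hD).hom ((Y.presheaf.map (homOfLE h).op) r)) := by
      refine val_injective _ ?_
      simp only [fromZeroRingHom, RingHom.coe_mk, MonoidHom.coe_mk, OneHom.coe_mk]
      erw [HomogeneousLocalization.map_mk, HomogeneousLocalization.val_mk, HomogeneousLocalization.val_mk]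
      exact congr(Localization.mk $((congr($(𝒮.str.naturality (homOfLE h).op).hom r)).symm) _).trans
        (congrArg _ (Subtype.ext (map_one _)))
    refine (congrArg φ e1).trans ((h0 _).trans ?_)
    exact ConcreteCategory.congr_hom (g.map_appLE hV (homOfLE h).op) r
  · refine Eq.trans ?_ (chartCo_ratio hj hf e).symm
    refine (congrArg φ ?_).trans (h1 e)
    refine (Away.map_mk (f := el j U e₀) (g := 𝒮.res hU hD h) (el_mem hj hU e₀) 1 (el j U e)
      (by rw [smul_eq_mul, one_mul]; exact el_mem hj hU e)).trans ?_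
    refine val_injective _ ?_
    rw [Away.val_mk, Away.val_mk]
    exact congr(Localization.mk $(el_res (j := j) h e) _)

lemma chartMor_eq_same {e₁ : Γ(E, U)} (hf : Frame v U e₀ V) (hf' : Frame v U e₁ V) :
    chartMor p chart hj U hU e₀ V hf = chartMor p chart hj U hU e₁ V hf' := by
  let F₀ := chartAlg hj U hU e₀ V hf
  let F₁ := chartAlg hj U hU e₁ V hf'
  have hw : F₀ (el j U e₁) * F₁ (el j U e₀) = 1 := by
    refine hf.gen.injective le_rfl ?_
    simp only [res_self, one_smul]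
    rw [mul_comm, mul_smul]
    exact (congrArg (F₁ (el j U e₀) • ·) (chartAlg_spec hj (hU := hU) hf e₁)).symm.trans
      (chartAlg_spec hj (hU := hU) hf' e₀).symm
  have h01 : IsUnit (F₀ (el j U e₁)) := .of_mul_eq_one _ hw
  have h10 : IsUnit (F₁ (el j U e₀)) := .of_mul_eq_one _ ((mul_comm _ _).trans hw)
  have hx0 : IsUnit (F₀ (el j U e₀ * el j U e₁)) := by
    rw [map_mul]; exact (isUnit_chartAlg_self hj hf).mul h01
  have hx1 : IsUnit (F₁ (el j U e₀ * el j U e₁)) := by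
    rw [map_mul]; exact h10.mul (isUnit_chartAlg_self hj hf')
  rw [chartMor, chartMor, chartCo, chartCo,
    awayHom_eq_mul (hg := el_mem hj hU e₀) (hk := one_pos) F₀ (isUnit_chartAlg_self hj hf) (el_mem hj hU e₁)
      rfl hx0,
    awayHom_eq_mul (hg := el_mem hj hU e₁) (hk := one_pos) F₁ (isUnit_chartAlg_self hj hf')
      (el_mem hj hU e₀) (mul_comm _ _) hx1]
  congr 2
  refine liftAway_congr F₁ hx1 hx0 (F₀ (el j U e₁)) (fun d a ha => ?_)
    (SetLike.mul_mem_graded (el_mem hj hU e₀) (el_mem hj hU e₁))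
  let := (𝒮.str.app (op U)).hom.toAlgebra
  have ha' := (SymLib.mem_deg_iff hj hU).1 ha
  unfold SymLib.piece at ha'
  induction ha' using Submodule.pow_induction_on_left' with
  | algebraMap r =>
    rw [pow_zero, one_mul]
    exact (chartAlg_str hj hf r).trans (chartAlg_str hj hf' r).symm
  | add x y i hx hy ihx ihy =>
    rw [map_add, map_add, ihx ((SymLib.mem_deg_iff hj hU).2 hx), ihy ((SymLib.mem_deg_iff hj hU).2 hy),
      mul_add]
  | mem_mul m hm i x hx ih =>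
    obtain ⟨e, rfl⟩ := hm
    rw [map_mul, map_mul, ih ((SymLib.mem_deg_iff hj hU).2 hx)]
    have he : F₀ (el j U e) = F₀ (el j U e₁) * F₁ (el j U e) := by
      refine chartAlg_unique hj hf ?_
      rw [mul_comm, mul_smul]
      exact (chartAlg_spec hj (hU := hU) hf' e).trans
        (congrArg (F₁ (el j U e) • ·) (chartAlg_spec hj (hU := hU) hf e₁))
    change F₀ (el j U e) * _ = _ * (F₁ (el j U e) * _)
    rw [he, pow_succ]
    ring

lemma chartMor_agree (hP : IsRelProj 𝒮 p chart) (hf : Frame v U e₀ V) {U' : Y.Opens}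
    {hU' : IsAffineOpen U'} {e₁ : Γ(E, U')} (hf' : Frame v U' e₁ V) :
    chartMor p chart hj U hU e₀ V hf = chartMor p chart hj U' hU' e₁ V hf' := by
  refine Scheme.hom_ext_of_forall _ _ fun x => ?_
  obtain ⟨D, hD, hxD, hDle⟩ := exists_isAffineOpen_mem_and_subset (X := Y) (x := g x.1) (U := U ⊓ U')
    ⟨hf.le x.2, hf'.le x.2⟩
  let W := V ⊓ g ⁻¹ᵁ D
  refine ⟨V.ι ⁻¹ᵁ W, ⟨x.2, hxD⟩, ?_⟩
  have hWV : W ≤ V := inf_le_left
  have hWD : W ≤ g ⁻¹ᵁ D := inf_le_right
  have hDU : D ≤ U := fun y hy => (hDle hy).1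
  have hDU' : D ≤ U' := fun y hy => (hDle hy).2
  have key : X.homOfLE hWV ≫ chartMor p chart hj U hU e₀ V hf =
      X.homOfLE hWV ≫ chartMor p chart hj U' hU' e₁ V hf' := by
    rw [homOfLE_chartMor, homOfLE_chartMor, ← chartMor_shrink hj hP (hf.restrict hWV) hD hDU hWD,
      ← chartMor_shrink hj hP (hf'.restrict hWV) hD hDU' hWD]
    exact chartMor_eq_same hj _ _
  have e : ∃ k : ((V.ι ⁻¹ᵁ W : V.toScheme.Opens) : Scheme.{u}) ⟶ (W : Scheme.{u}),
      (V.ι ⁻¹ᵁ W).ι = k ≫ X.homOfLE hWV := by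
    refine ⟨IsOpenImmersion.lift W.ι ((V.ι ⁻¹ᵁ W).ι ≫ V.ι) ?_, ?_⟩
    · rintro _ ⟨y, rfl⟩
      simp only [Scheme.Opens.range_ι]
      exact y.2
    · rw [← cancel_mono V.ι, Category.assoc, Scheme.homOfLE_ι]
      exact (IsOpenImmersion.lift_fac _ _ _).symm
  obtain ⟨k, hk⟩ := e
  rw [hk, Category.assoc, Category.assoc, key]

/-- `r` is the morphism classified by `v`. -/
def Cls (r : X ⟶ P) : Prop :=
  ∀ (U : Y.Opens) (hU : IsAffineOpen U) (e₀ : Γ(E, U)) (V : X.Opens) (hf : Frame v U e₀ V),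
    V.ι ≫ r = chartMor p chart hj U hU e₀ V hf

omit hj in
lemma exists_frame_mem (hv : Gens v) (x : X) :
    ∃ (U : Y.Opens) (_ : IsAffineOpen U) (e₀ : Γ(E, U)) (V : X.Opens), x ∈ V ∧ Frame v U e₀ V := by
  obtain ⟨U, hU, hx, -⟩ := exists_isAffineOpen_mem_and_subset (X := Y) (x := g x) (U := ⊤) trivial
  exact ⟨U, hU, hv U hU x hx⟩

lemma existsUnique_cls (hP : IsRelProj 𝒮 p chart) (hv : Gens v) :
    ∃! r : X ⟶ P, Cls hj (v := v) (chart := chart) r := by
  choose U hU e₀ V hxV hf using exists_frame_mem hv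
  let 𝒰 : X.OpenCover := X.openCoverOfIsOpenCover V
    (IsOpenCover.mk (top_le_iff.mp fun x _ => Opens.mem_iSup.mpr ⟨x, hxV x⟩))
  have hcomp : ∀ i k, pullback.fst (V i).ι (V k).ι ≫ chartMor p chart hj (U i) (hU i) (e₀ i) (V i) (hf i) =
      pullback.snd (V i).ι (V k).ι ≫ chartMor p chart hj (U k) (hU k) (e₀ k) (V k) (hf k) := by
    intro i k
    rw [← cancel_epi (isPullback_opens_inf (V i) (V k)).isoPullback.hom, ← Category.assoc,
      ← Category.assoc, IsPullback.isoPullback_hom_fst, IsPullback.isoPullback_hom_snd,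
      homOfLE_chartMor, homOfLE_chartMor]
    exact chartMor_agree hj hP _ _
  obtain ⟨r, hr⟩ : ∃ r : X ⟶ P, ∀ i, (V i).ι ≫ r = chartMor p chart hj (U i) (hU i) (e₀ i) (V i) (hf i) :=
    ⟨𝒰.glueMorphisms _ hcomp, 𝒰.ι_glueMorphisms _ _⟩
  refine ⟨r, fun U' hU' e' V' hf' => ?_, fun r' hr' =>
    Scheme.Cover.hom_ext 𝒰 _ _ fun i => (hr' _ _ _ _ (hf i)).trans (hr i).symm⟩
  refine Scheme.hom_ext_of_forall _ _ fun x => ?_
  let W := V' ⊓ V x.1
  refine ⟨V'.ι ⁻¹ᵁ W, ⟨x.2, hxV x.1⟩, ?_⟩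
  have e : ∃ k : ((V'.ι ⁻¹ᵁ W : V'.toScheme.Opens) : Scheme.{u}) ⟶ (W : Scheme.{u}),
      (V'.ι ⁻¹ᵁ W).ι = k ≫ X.homOfLE (inf_le_left : W ≤ V') := by
    refine ⟨IsOpenImmersion.lift W.ι ((V'.ι ⁻¹ᵁ W).ι ≫ V'.ι) ?_, ?_⟩
    · rintro _ ⟨y, rfl⟩
      simp only [Scheme.Opens.range_ι]
      exact y.2
    · rw [← cancel_mono V'.ι, Category.assoc, Scheme.homOfLE_ι]
      exact (IsOpenImmersion.lift_fac _ _ _).symm
  obtain ⟨k, hk⟩ := e
  rw [hk, Category.assoc, Category.assoc]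
  congr 1
  rw [Scheme.homOfLE_ι_assoc, ← X.homOfLE_ι (inf_le_right : W ≤ V x.1), Category.assoc, hr,
    homOfLE_chartMor, homOfLE_chartMor]
  exact chartMor_agree hj hP _ _

lemma Cls.comp_eq (hP : IsRelProj 𝒮 p chart) (hv : Gens v) {r : X ⟶ P}
    (hr : Cls hj (v := v) (chart := chart) r) : r ≫ p = g := by
  choose U hU e₀ V hxV hf using exists_frame_mem hv
  refine Scheme.Cover.hom_ext (X.openCoverOfIsOpenCover V
    (IsOpenCover.mk (top_le_iff.mp fun x _ => Opens.mem_iSup.mpr ⟨x, hxV x⟩))) _ _ fun i => ?_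
  change (V i).ι ≫ r ≫ p = (V i).ι ≫ g
  rw [← Category.assoc, hr _ (hU i) _ _ (hf i), chartMor_comp hj hP]

end Groth.Agent.ProjBundleLib
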