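import Groth.Agent.ProjBundleLib.Crit2
import Groth.Agent.ProjBundleLib.VAmple
import Groth.Agent.AmpleLib.Twist
import Groth.Agent.AmpleLib.CompLemma
import Groth.Agent.ProjTwist.Tensor

/-! Very ampleness of `L ⊗ f^*K^n` for compositions. -/

noncomputable section

universe u

open CategoryTheory CategoryTheory.Limits AlgebraicGeometry TopologicalSpace Opposite
open HomogeneousLocalization
open RelProj Groth.Agent.QCoh Groth.Agent.Props.GenLocus

namespace Groth.Agent.ProjBundleLib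

open Props.GenTensor (tmul pw res_tmul tmul_smul_left tmul_smul_right res_pw)

variable {X Y Z : Scheme.{u}}

/-- The functions on a good piece form the closure under `T`. -/
lemma Good.eq_top {G : X.Opens} {S : Subring Γ(X, G)} {c : Γ(X, G)} (h : Good S c)
    {T : Subring Γ(X, X.basicOpen c)} (hS : ∀ s ∈ S, rres (X.basicOpen_le c) s ∈ T)
    {d : Γ(X, X.basicOpen c)} (hd : d ∈ T) (hcd : d * rres (X.basicOpen_le c) c = 1) : T = ⊤ := by
  refine eq_top_iff.2 fun a _ => ?_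
  obtain ⟨m, s, hs, e⟩ := h.frac a
  have : a = rres (X.basicOpen_le c) s * d ^ m := by
    rw [← e, mul_assoc, ← mul_pow, mul_comm (rres _ c), hcd, one_pow, mul_one]
  exact this ▸ mul_mem (hS s hs) (pow_mem hd m)

section base

variable {F : Z.Modules} [F.IsQuasicoherent] {g : Y ⟶ Z} {K : Y.Modules}
  {w : F ⟶ (Scheme.Modules.pushforward g).obj K}

/-- Around every point a power of `K` has a section with affine locus, whose ratios generate all functions. -/
lemma exists_pow_piece (hK : PicF.IsInvertible K) (hw : Gens w) (hi : ClsImm w) {U : Z.Opens}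
    (hU : IsAffineOpen U) {y : Y} (hy : y ∈ g ⁻¹ᵁ U) :
    ∃ (k : ℕ) (σ : Γ(CohB1.tensorPow K k, g ⁻¹ᵁ U)) (D : Y.Opens) (hD : D ≤ g ⁻¹ᵁ U) (e : Γ(K, D)),
      0 < k ∧ y ∈ D ∧ IsAffineOpen D ∧ D = AmpleLib.locus σ ∧ IsGen K D e ∧
      ∀ T : Subring Γ(Y, D), (∀ a, g.appLE U D hD a ∈ T) →
        (∀ (τ : Γ(CohB1.tensorPow K k, g ⁻¹ᵁ U)) (t : Γ(Y, D)),
          res _ hD τ = t • res _ hD σ → t ∈ T) → T = ⊤ := by
  obtain ⟨B⟩ := exists_bundle F
  obtain ⟨e₀, V, hyV, hf⟩ := hw U hU y hy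
  let G : Y.Opens := gLoc w U e₀
  have hG : G ≤ g ⁻¹ᵁ U := gLoc_le
  obtain ⟨c, hc, hyc, hgood⟩ := exists_good (subImm_of_clsImm hw hi hU e₀) (le_gLoc hf hyV)
  obtain ⟨d, a, ha, hca⟩ : ∃ (d : ℕ) (a : _), a ∈ B.alg.deg U hU d ∧
      chartAlg B.hj U hU e₀ G frame_gLoc a = c := by
    rw [← range_chartCo B.hj (hU := hU) frame_gLoc] at hc
    obtain ⟨z, rfl⟩ := hc
    obtain ⟨d, a, ha, rfl⟩ := Away.mk_surjective (B.alg.deg U hU) (el_mem B.hj hU e₀) z
    have h := liftAway_mk (𝒜 := B.alg.deg U hU) (chartAlg B.hj U hU e₀ G frame_gLoc)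
      (isUnit_chartAlg_self B.hj frame_gLoc) (el_mem B.hj hU e₀) d a ha
    rw [chartAlg_self, one_pow, mul_one] at h
    exact ⟨d, a, by simpa using ha, by rw [chartCo, h]⟩
  obtain ⟨σ₀, hσ₀⟩ := exists_evalSec (v := w) B.hj U hU e₀ d a ha
  let σ : Γ(CohB1.tensorPow K (d + 1), g ⁻¹ᵁ U) := tmul σ₀ (vsec w U e₀)
  let eG : Γ(K, G) := res K hG (vsec w U e₀)
  have heG : IsGen K G eG := frame_gLoc.gen
  have hσG : res _ hG σ = c • pw K eG (d + 1) := by
    refine (res_tmul hG σ₀ _).trans ?_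
    rw [hσ₀ G frame_gLoc, hca, tmul_smul_left]
    rfl
  have hle : AmpleLib.locus σ ≤ G := le_gLoc ⟨AmpleLib.locus_le σ, isGen_of_tmul
    (AmpleLib.isInvertible_tensorPow hK d) hK (by
      have h := AmpleLib.isGen_locus σ
      rwa [show res (CohB1.tensorPow K (d + 1)) (AmpleLib.locus_le σ) σ = _ from
        res_tmul (AmpleLib.locus_le σ) σ₀ (vsec w U e₀)] at h)⟩
  have hloc : AmpleLib.locus σ = Y.basicOpen c := by
    rw [← AmpleLib.locus_inf hG (Props.GenTensor.isGen_pw heG _) σ hσG, inf_eq_left.mpr hle]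
  let D := Y.basicOpen c
  have hDG : D ≤ G := Y.basicOpen_le c
  refine ⟨d + 1, σ, D, hDG.trans hG, res K hDG eG, d.succ_pos, hyc, hgood.affine, hloc.symm,
    heG.restrict _, fun T h0 h1 => ?_⟩
  have hσD : res _ (hDG.trans hG) σ = rres hDG c • res _ hDG (pw K eG (d + 1)) := by
    rw [← res_smul, ← hσG, res_res]
  obtain ⟨cu, hcu⟩ : IsUnit (rres hDG c) := RingedSpace.isUnit_res_basicOpen Y.toRingedSpace c
  refine hgood.eq_top (fun s hs => ?_) (d := ↑cu⁻¹) (h1 (pw K (vsec w U e₀) (d + 1)) _ ?_) ?_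
  · refine Subring.mem_comap.mp ((coefRing_le (T := T.comap (rres hDG).hom) hG (fun b => ?_) fun z cz hz => ?_) hs)
    · have : rres hDG (g.appLE U G hG b) = g.appLE U D (hDG.trans hG) b := congr($(g.appLE_map hG (homOfLE hDG).op) b)
      exact Subring.mem_comap.mpr (this.symm ▸ h0 b)
    · let τ : Γ(CohB1.tensorPow K (d + 1), g ⁻¹ᵁ U) := tmul σ₀ (vsec w U z)
      refine Subring.mem_comap.mpr (h1 τ _ ?_)
      have hτG : res (CohB1.tensorPow K (d + 1)) hG τ = cz • c • pw K eG (d + 1) := by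
        refine (res_tmul hG σ₀ _).trans ?_
        rw [hσ₀ G frame_gLoc, hca, hz, tmul_smul_left, tmul_smul_right, smul_comm]
        rfl
      have h := congrArg (res (CohB1.tensorPow K (d + 1)) hDG) hτG
      rw [res_res, res_smul, res_smul, ← hσD] at h
      exact h
  · rw [hσD, ← hcu, smul_smul, Units.inv_mul, one_smul, res_pw, res_pw, res_res]
  · rw [← hcu]
    exact Units.inv_mul cu

end base

section top'

variable {E : Y.Modules} [E.IsQuasicoherent] {f : X ⟶ Y} {L : X.Modules}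
  {v : E ⟶ (Scheme.Modules.pushforward f).obj L}

/-- Around every point finitely many coefficients suffice for an affine piece. -/
lemma exists_finite_piece [LocallyOfFiniteType f] (hv : Gens v) (hi : ClsImm v) {D : Y.Opens}
    (hD : IsAffineOpen D) {x : X} (hx : x ∈ f ⁻¹ᵁ D) :
    ∃ (e : Γ(E, D)) (c : Γ(X, gLoc v D e)) (Zs : Finset Γ(E, D)), x ∈ X.basicOpen c ∧
      ∀ S : Subring Γ(X, gLoc v D e), (∀ a, f.appLE D _ gLoc_le a ∈ S) →
        (∀ z ∈ Zs, ∀ cz : Γ(X, gLoc v D e),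
          res L (gLoc_le : gLoc v D e ≤ f ⁻¹ᵁ D) (vsec v D z) =
            cz • res L (gLoc_le : gLoc v D e ≤ f ⁻¹ᵁ D) (vsec v D e) → cz ∈ S) →
        c ∈ S ∧ Good S c := by
  classical
  obtain ⟨e, V, hxV, hf⟩ := hv D hD x hx
  let G : X.Opens := gLoc v D e
  have hG : G ≤ f ⁻¹ᵁ D := gLoc_le
  obtain ⟨c, hc, hxc, hgood⟩ := exists_good (subImm_of_clsImm hv hi hD e) (le_gLoc hf hxV)
  let Q : Finset Γ(E, D) → Γ(X, G) → Prop := fun Zs s => ∀ S : Subring Γ(X, G),
    (∀ a, f.appLE D G hG a ∈ S) →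
    (∀ z ∈ Zs, ∀ cz, res L hG (vsec v D z) = cz • res L hG (vsec v D e) → cz ∈ S) → s ∈ S
  have hQ : ∀ s ∈ coefRing v D e G, ∃ Zs, Q Zs s := by
    intro s hs
    induction hs using Subring.closure_induction with
    | mem s h =>
      obtain ⟨_, ⟨a, rfl⟩ | ⟨z, hz⟩⟩ := h
      · exact ⟨∅, fun S h0 _ => h0 a⟩
      · exact ⟨{z}, fun S _ h1 => h1 z (Finset.mem_singleton_self z) s hz⟩
    | zero => exact ⟨∅, fun S _ _ => zero_mem S⟩
    | one => exact ⟨∅, fun S _ _ => one_mem S⟩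
    | add a b _ _ ha hb =>
      obtain ⟨A, ha⟩ := ha
      obtain ⟨B, hb⟩ := hb
      exact ⟨A ∪ B, fun S h0 h1 => add_mem (ha S h0 fun z hz => h1 z (Finset.mem_union_left _ hz))
        (hb S h0 fun z hz => h1 z (Finset.mem_union_right _ hz))⟩
    | neg a _ ha =>
      obtain ⟨A, ha⟩ := ha
      exact ⟨A, fun S h0 h1 => neg_mem (ha S h0 h1)⟩
    | mul a b _ _ ha hb =>
      obtain ⟨A, ha⟩ := ha
      obtain ⟨B, hb⟩ := hb
      exact ⟨A ∪ B, fun S h0 h1 => mul_mem (ha S h0 fun z hz => h1 z (Finset.mem_union_left _ hz))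
        (hb S h0 fun z hz => h1 z (Finset.mem_union_right _ hz))⟩
  let W : X.Opens := X.basicOpen c
  have hWG : W ≤ G := X.basicOpen_le c
  have hft := f.finiteType_appLE hD hgood.affine (hWG.trans hG)
  let := (f.appLE D W (hWG.trans hG)).hom.toAlgebra
  obtain ⟨t, ht⟩ := (hft : Algebra.FiniteType Γ(Y, D) Γ(X, W)).out
  choose m s hs he using hgood.frac
  obtain ⟨A, hA⟩ := hQ c hc
  choose As hAs using fun b : Γ(X, W) => hQ (s b) (hs b)
  refine ⟨e, c, A ∪ t.biUnion As, hxc, fun S h0 h1 => ?_⟩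
  have hcS : c ∈ S := hA S h0 fun z hz => h1 z (Finset.mem_union_left _ hz)
  refine ⟨hcS, hgood.affine, fun a => ?_⟩
  have ha : a ∈ Algebra.adjoin Γ(Y, D) (t : Set Γ(X, W)) := ht.ge trivial
  induction ha using Algebra.adjoin_induction with
  | mem b hb =>
    exact ⟨m b, s b, hAs b S h0 fun z hz => h1 z
      (Finset.mem_union_right _ (Finset.mem_biUnion.mpr ⟨b, hb, hz⟩)), he b⟩
  | algebraMap r =>
    refine ⟨0, f.appLE D G hG r, h0 _, ?_⟩
    rw [pow_zero, mul_one]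
    exact congr($(f.appLE_map hG (homOfLE hWG).op) r).symm
  | add a b _ _ ha hb =>
    obtain ⟨i, p, hp, ep⟩ := ha
    obtain ⟨j, q, hq, eq'⟩ := hb
    refine ⟨i + j, p * c ^ j + q * c ^ i,
      add_mem (mul_mem hp (pow_mem hcS _)) (mul_mem hq (pow_mem hcS _)), ?_⟩
    rw [map_add, map_mul, map_mul, map_pow, map_pow, ← ep, ← eq', pow_add]
    ring
  | mul a b _ _ ha hb =>
    obtain ⟨i, p, hp, ep⟩ := ha
    obtain ⟨j, q, hq, eq'⟩ := hb
    refine ⟨i + j, p * q, mul_mem hp hq, ?_⟩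
    rw [map_mul, ← ep, ← eq', pow_add]
    ring

end top'

section main

variable {g : X ⟶ Y} {E : Y.Modules} {L : X.Modules} {v : E ⟶ (Scheme.Modules.pushforward g).obj L}

lemma locus_eq_gLoc (U : Y.Opens) (e : Γ(E, U)) : AmpleLib.locus (vsec v U e) = gLoc v U e :=
  le_antisymm (le_gLoc ⟨AmpleLib.locus_le _, AmpleLib.isGen_locus _⟩)
    (sSup_le fun _ hV => AmpleLib.le_locus hV.le hV.gen)

lemma exists_good_of_eq {U : Y.Opens} {e : Γ(E, U)} {G : X.Opens} (hG : gLoc v U e = G) {c : Γ(X, G)}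
    (hc : c ∈ coefRing v U e G) (hgood : Good (coefRing v U e G) c) {x : X} (hx : x ∈ X.basicOpen c) :
    ∃ c' : Γ(X, gLoc v U e), c' ∈ coefRing v U e (gLoc v U e) ∧ x ∈ X.basicOpen c' ∧
      Good (coefRing v U e (gLoc v U e)) c' := by
  subst hG
  exact ⟨c, hc, hx, hgood⟩

lemma coef_of_iso {A B M : X.Modules} (φ : CohB1.tensorMod A B ≅ M) {U : Y.Opens} {a a₀ : Γ(A, g ⁻¹ᵁ U)}
    {b b₀ : Γ(B, g ⁻¹ᵁ U)} {G : X.Opens} (hG : G ≤ g ⁻¹ᵁ U) {c : Γ(X, G)}
    (h : res _ hG (tmul a b) = c • res _ hG (tmul a₀ b₀)) :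
    c ∈ coefRing (𝟙 ((Scheme.Modules.pushforward g).obj M)) U
      (id (φ.hom.app _ (tmul a₀ b₀)) : Γ(M, g ⁻¹ᵁ U)) G := by
  refine coef_mem_coefRing (z := (id (φ.hom.app _ (tmul a b)) : Γ(M, g ⁻¹ᵁ U))) hG ?_
  change res _ hG (φ.hom.app _ (tmul a b)) = c • res _ hG (φ.hom.app _ (tmul a₀ b₀))
  rw [← app_res, ← app_res, h]
  exact φ.hom.app_smul _ _

/-- `L ⊗ f^*K^n` is very ample over the base for large `n`. -/
theorem eventually_veryAmple_comp [CompactSpace Z] (f : X ⟶ Y) [QuasiCompact f] [LocallyOfFiniteType f]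
    (g : Y ⟶ Z) [QuasiCompact g] {L : X.Modules} (hL : PicF.IsInvertible L) (hLva : IsRelVeryAmple f L)
    {K : Y.Modules} (hK : PicF.IsInvertible K) (hKva : IsRelVeryAmple g K) :
    ∃ N : ℕ, ∀ n, N ≤ n → IsRelVeryAmple (f ≫ g)
      (CohB1.tensorMod L (CohB1.tensorPow ((Scheme.Modules.pullback f).obj K) n)) := by
  classical
  have : IsSeparated g := isSeparated_of_isRelVeryAmple hKva
  have : IsSeparated f := isSeparated_of_isRelVeryAmple hLva
  obtain ⟨F, hF, w, hw, hwi⟩ := exists_of_isRelVeryAmple hKva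
  obtain ⟨E, hE, v, hv, hvi⟩ := exists_of_isRelVeryAmple hLva
  set P := (Scheme.Modules.pullback f).obj K with hPdef
  have hP : PicF.IsInvertible P := PicCl.isInvertible_pullback f hK
  have hM : ∀ n, PicF.IsInvertible (CohB1.tensorMod L (CohB1.tensorPow P n)) := fun n =>
    AmpleLib.isInvertible_tensorMod hL (AmpleLib.isInvertible_tensorPow hP n)
  let h := f ≫ g
  let π := fun n => (Scheme.Modules.pushforward h).obj (CohB1.tensorMod L (CohB1.tensorPow P n))
  have key : ∀ x : X, ∃ (W : X.Opens) (N : ℕ), x ∈ W ∧ ∀ n, N ≤ n → ∀ x' ∈ W,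
      ∃ (U : Z.Opens) (_ : IsAffineOpen U) (e : Γ(π n, U)) (c : Γ(X, gLoc (𝟙 (π n)) U e)),
        c ∈ coefRing (𝟙 (π n)) U e (gLoc (𝟙 (π n)) U e) ∧ x' ∈ X.basicOpen c ∧
          Good (coefRing (𝟙 (π n)) U e (gLoc (𝟙 (π n)) U e)) c := by
    intro x
    obtain ⟨U, hU, hxU⟩ := exists_affine_mem (g := h) x
    obtain ⟨k, σ, D, hDU, eK, hk, hxD, hDa, hDσ, heK, hT⟩ :=
      exists_pow_piece hK hw hwi hU (y := f x) hxU
    obtain ⟨e, c, Zs, hxc, hS⟩ := exists_finite_piece hv hvi hDa (x := x) hxD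
    let O : X.Opens := f ⁻¹ᵁ (g ⁻¹ᵁ U)
    have hOc : IsCompact (O : Set X) := h.isCompact_preimage hU.isCompact
    have hOqs : IsQuasiSeparated (O : Set X) := h.isQuasiSeparated_preimage hU.isQuasiSeparated
    have hDO : f ⁻¹ᵁ D ≤ O := f.preimage_mono hDU
    obtain ⟨φk⟩ := AmpleLib.exists_iso_pullback_tensorPow f hK k
    let up : Γ(CohB1.tensorPow K k, g ⁻¹ᵁ U) → Γ(CohB1.tensorPow P k, O) :=
      fun τ => φk.hom.app O (Props.GenPull.pb f τ)
    have hup : ∀ τ t, res _ hDU τ = t • res _ hDU σ →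
        res _ hDO (up τ) = f.app D t • res _ hDO (up σ) := by
      intro τ t ht
      have h1 := congrArg (LFFrame.unitSec f _ D) ht
      rw [LFFrame.unitSec_smul, LFFrame.unitSec_res, LFFrame.unitSec_res] at h1
      simp only [up, ← app_res]
      exact (congrArg (φk.hom.app (f ⁻¹ᵁ D)) h1).trans (φk.hom.app_smul _ _)
    have hs : f ⁻¹ᵁ D = AmpleLib.locus (up σ) := by
      rw [AmpleLib.locus_app_iso, AmpleLib.locus_pb f (AmpleLib.isInvertible_tensorPow hK k), hDσ]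
    have heP : IsGen P (f ⁻¹ᵁ D) (Props.GenPull.pb f eK) := Props.GenPull.isGen_pb f heK
    choose N₀ hN₀ using fun p : Fin k × ↥(insert e Zs) =>
      AmpleLib.exists_twist_on (ProjTwist.isQCoh_of_isInvertible hL) hP hOc hOqs (up σ) hs hDO heP
        (vsec v D p.2.1) p.1
    let m₀ := Finset.univ.sup N₀
    refine ⟨X.basicOpen c, k + k * m₀, hxc, fun n hn x' hx' => ?_⟩
    obtain ⟨l, M, hl, hm, rfl⟩ : ∃ l M, l < k ∧ m₀ ≤ M ∧ n = l + k * M + k := by
      refine ⟨(n - k) % k, (n - k) / k, Nat.mod_lt _ hk, (Nat.le_div_iff_mul_le hk).mpr ?_, ?_⟩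
      · rw [Nat.mul_comm]; omega
      · rw [Nat.mod_add_div]; omega
    choose ρ hρ using fun z : ↥(insert e Zs) =>
      hN₀ (⟨l, hl⟩, z) M ((Finset.le_sup (Finset.mem_univ _)).trans hm)
    let e' : ↥(insert e Zs) := ⟨e, Finset.mem_insert_self e Zs⟩
    obtain ⟨φ⟩ := AmpleLib.exists_iso_tensor_pow_add hL hP (l + k * M) k
    let mk : Γ(CohB1.tensorMod L (CohB1.tensorPow P (l + k * M)), O) → Γ(CohB1.tensorPow P k, O) →
        Γ(π (l + k * M + k), U) := fun a b => φ.hom.app O (tmul a b)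
    let ε := mk (ρ e') (up σ)
    let G := gLoc v D e
    have hu : IsUnit (Props.GenProd.co k (up σ) hDO heP ^ M) := by
      refine IsUnit.pow _ ?_
      have h := (AmpleLib.isGen_locus (up σ)).restrict hs.le
      rw [res_res] at h
      obtain ⟨u, hu, hue⟩ := Props.GenProd.exists_unit_smul (Props.GenTensor.isGen_pw heP k) h
      exact (Props.GenProd.co_unique _ _ _ hue) ▸ hu
    have hloc : gLoc (𝟙 (π (l + k * M + k))) U ε = G := by
      rw [← locus_eq_gLoc]
      change AmpleLib.locus (φ.hom.app O (tmul (ρ e') (up σ))) = G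
      rw [AmpleLib.locus_app_iso, AmpleLib.locus_tmul (hM _) (AmpleLib.isInvertible_tensorPow hP _), ← hs,
        ← AmpleLib.locus_res hDO, hρ, tmul_smul_left, AmpleLib.locus_smul (hM _),
        X.basicOpen_of_isUnit hu, AmpleLib.locus_tmul hL (AmpleLib.isInvertible_tensorPow hP _)]
      have hgen : AmpleLib.locus (pw P (Props.GenPull.pb f eK) (l + k * M)) = f ⁻¹ᵁ D :=
        le_antisymm (AmpleLib.locus_le _)
          (AmpleLib.le_locus le_rfl (by rw [res_self]; exact Props.GenTensor.isGen_pw heP _))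
      rw [hgen, show AmpleLib.locus (vsec v D e'.1) = G from locus_eq_gLoc D e,
        inf_eq_left.mpr (gLoc_le : G ≤ f ⁻¹ᵁ D), inf_eq_right.mpr (gLoc_le : G ≤ f ⁻¹ᵁ D)]
    have hGD : G ≤ f ⁻¹ᵁ D := gLoc_le
    have hGO : G ≤ O := hGD.trans hDO
    let S := coefRing (𝟙 (π (l + k * M + k))) U ε G
    have hSe : ∀ z : ↥(insert e Zs), ∀ cz : Γ(X, G),
        res L hGD (vsec v D z.1) = cz • res L hGD (vsec v D e) → cz ∈ S := by
      intro z cz hcz
      have h1 := congrArg (res _ hGD) (hρ z)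
      have h2 := congrArg (res _ hGD) (hρ e')
      rw [res_res, res_tmul, res_smul, hcz, tmul_smul_left, tmul_smul_left, smul_smul] at h1
      rw [res_res, res_tmul, res_smul, tmul_smul_left] at h2
      refine coef_of_iso (g := h) (U := U) φ (a := ρ z) (a₀ := ρ e') (b := up σ) (b₀ := up σ) hGO ?_
      rw [res_tmul, res_tmul, ← tmul_smul_left]
      refine congrArg (fun q => tmul q _) ?_
      refine h1.trans ?_
      refine Eq.trans ?_ (congrArg (cz • ·) h2).symm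
      exact (congrArg (· • _) (mul_comm _ cz)).trans (mul_smul _ _ _)
    have hSbase : ∀ a, f.appLE D G hGD a ∈ S := by
      have h' : S.comap (f.appLE D G hGD).hom = ⊤ := by
        refine hT _ (fun a => ?_) fun τ t ht => ?_
        · have e1 : f.appLE D G hGD (g.appLE U D hDU a) = h.appLE U G hGO a :=
            congr($(Scheme.Hom.appLE_comp_appLE f g U D G hDU hGD) a)
          refine Subring.mem_comap.mpr ?_
          have hb : h.appLE U G hGO a ∈ S :=
            appLE_mem_coefRing (g := h) (v := 𝟙 (π (l + k * M + k))) (U := U) (e := ε) (G := G) hGO a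
          exact Eq.mpr (congrArg (fun q => q ∈ S) e1) hb
        · refine Subring.mem_comap.mpr (coef_of_iso (g := h) (U := U) φ (a := ρ e') (a₀ := ρ e') (b := up τ) (b₀ := up σ) hGO ?_)
          have h1 := congrArg (res _ hGD) (hup τ t ht)
          rw [res_smul, res_res, res_res] at h1
          rw [res_tmul, res_tmul, ← tmul_smul_right]
          exact congrArg (tmul _) h1
      exact fun a => h'.ge (trivial : a ∈ (⊤ : Subring Γ(Y, D)))
    obtain ⟨hcS, hgood⟩ := hS S hSbase fun z hz cz hcz => hSe ⟨z, Finset.mem_insert_of_mem hz⟩ cz hcz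
    exact ⟨U, hU, ε, exists_good_of_eq hloc hcS hgood hx'⟩
  choose W N hxW hN using key
  have hXc : IsCompact (Set.univ : Set X) := by
    have : IsCompact (((f ≫ g) ⁻¹ᵁ ⊤ : X.Opens) : Set X) :=
      (f ≫ g).isCompact_preimage (U := (⊤ : Z.Opens)) isCompact_univ
    exact this
  obtain ⟨T, hT⟩ := hXc.elim_finite_subcover (fun x => (W x : Set X)) (fun x => (W x).2)
    fun x _ => Set.mem_iUnion.mpr ⟨x, hxW x⟩
  refine ⟨T.sup N, fun n hn => ?_⟩
  have : (π n).IsQuasicoherent := isQuasicoherent_push (g := h) (hM n)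
  have H : ∀ x : X, ∃ (U : Z.Opens) (_ : IsAffineOpen U) (e : Γ(π n, U)) (c : Γ(X, gLoc (𝟙 (π n)) U e)),
      c ∈ coefRing (𝟙 (π n)) U e (gLoc (𝟙 (π n)) U e) ∧ x ∈ X.basicOpen c ∧
        Good (coefRing (𝟙 (π n)) U e (gLoc (𝟙 (π n)) U e)) c := by
    intro x
    obtain ⟨y, hy, hxy⟩ := Set.mem_iUnion₂.mp (hT (Set.mem_univ x))
    exact hN y n ((Finset.le_sup hy).trans hn) x hxy
  have hgens : Gens (𝟙 (π n)) := gens_of_frames (hM n) fun x => by
    obtain ⟨U, -, e, c, -, hxc, -⟩ := H x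
    exact ⟨U, e, _, X.basicOpen_le c hxc, frame_gLoc⟩
  exact isRelVeryAmple_of hgens (clsImm_of_good hgens H)

end main

end Groth.Agent.ProjBundleLib
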