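import Groth.Agent.ProjBundleLib.PushId

/-! Very ampleness on disjoint unions. -/

noncomputable section

universe u

open CategoryTheory CategoryTheory.Limits AlgebraicGeometry TopologicalSpace Opposite
open RelProj Groth.Agent.QCoh Groth.Agent.Props.GenLocus

namespace Groth.Agent.ProjBundleLib

variable {Y X X' : Scheme.{u}} (g : X ⟶ Y) (L : X.Modules) (κ : X' ⟶ X) [IsOpenImmersion κ]
  {B : X.Opens} (hd : κ.opensRange ⊓ B ≤ ⊥) (hc : κ.opensRange ⊔ B = ⊤)

include hd hc in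
lemma exists_zeroExt (V : X.Opens) (z : Γ(L, κ ''ᵁ (κ ⁻¹ᵁ V))) :
    ∃ ρ : Γ(L, V), res L (κ.image_preimage_le V) ρ = z ∧ res L (inf_le_right : B ⊓ V ≤ V) ρ = 0 := by
  have hz : κ ''ᵁ (κ ⁻¹ᵁ V) ⊓ (B ⊓ V) ≤ ⊥ :=
    le_trans (inf_le_inf (Scheme.Hom.image_le_opensRange κ _) inf_le_left) hd
  obtain ⟨ρ, hρ⟩ := exists_glue L (U := fun b : Bool => cond b (κ ''ᵁ (κ ⁻¹ᵁ V)) (B ⊓ V)) (V := V)
    (fun b => by cases b; exacts [inf_le_right, κ.image_preimage_le V])
    (fun x hx => by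
      rcases hc.ge (trivial : x ∈ (⊤ : X.Opens)) with h | h
      · exact Opens.mem_iSup.mpr ⟨true, by rw [cond_true, Scheme.Hom.image_preimage_eq_opensRange_inf]; exact ⟨h, hx⟩⟩
      · exact Opens.mem_iSup.mpr ⟨false, h, hx⟩)
    (fun b => match b with | true => z | false => (0 : Γ(L, B ⊓ V)))
    (fun i j => by
      cases i <;> cases j
      · rfl
      · exact eq_of_locally_eq L (U := fun i : PEmpty.{1} => i.elim) (fun i => i.elim)
          (le_trans ((inf_comm _ _).trans_le hz) bot_le) _ _ (fun i => i.elim)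
      · exact eq_of_locally_eq L (U := fun i : PEmpty.{1} => i.elim) (fun i => i.elim)
          (hz.trans bot_le) _ _ (fun i => i.elim)
      · rfl)
  exact ⟨ρ, hρ true, hρ false⟩

/-- Extension by zero. -/
def zeroExt (V : X.Opens) (z : Γ(L, κ ''ᵁ (κ ⁻¹ᵁ V))) : Γ(L, V) := (exists_zeroExt L κ hd hc V z).choose

variable {L κ}

include hc in
lemma eq_of_res {V : X.Opens} {s t : Γ(L, V)}
    (h1 : res L (κ.image_preimage_le V) s = res L (κ.image_preimage_le V) t)
    (h2 : res L (inf_le_right : B ⊓ V ≤ V) s = res L (inf_le_right : B ⊓ V ≤ V) t) : s = t := by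
  refine eq_of_locally_eq L (U := fun b : Bool => cond b (κ ''ᵁ (κ ⁻¹ᵁ V)) (B ⊓ V))
    (fun b => by cases b; exacts [inf_le_right, κ.image_preimage_le V]) (fun x hx => ?_) _ _ fun b => ?_
  · rcases hc.ge (trivial : x ∈ (⊤ : X.Opens)) with h | h
    · exact Opens.mem_iSup.mpr ⟨true, by rw [cond_true, Scheme.Hom.image_preimage_eq_opensRange_inf]; exact ⟨h, hx⟩⟩
    · exact Opens.mem_iSup.mpr ⟨false, h, hx⟩
  · cases b
    exacts [h2, h1]

lemma res_zeroExt (V : X.Opens) (z : Γ(L, κ ''ᵁ (κ ⁻¹ᵁ V))) :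
    res L (κ.image_preimage_le V) (zeroExt L κ hd hc V z) = z :=
  (exists_zeroExt L κ hd hc V z).choose_spec.1

lemma res_zeroExt_compl (V : X.Opens) (z : Γ(L, κ ''ᵁ (κ ⁻¹ᵁ V))) :
    res L (inf_le_right : B ⊓ V ≤ V) (zeroExt L κ hd hc V z) = 0 :=
  (exists_zeroExt L κ hd hc V z).choose_spec.2

lemma zeroExt_add (V : X.Opens) (a b : Γ(L, κ ''ᵁ (κ ⁻¹ᵁ V))) :
    zeroExt L κ hd hc V (a + b) = zeroExt L κ hd hc V a + zeroExt L κ hd hc V b :=
  eq_of_res hc
    (by rw [map_add, res_zeroExt, res_zeroExt, res_zeroExt])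
    (by rw [map_add, res_zeroExt_compl, res_zeroExt_compl, res_zeroExt_compl, add_zero])

lemma zeroExt_res {V W : X.Opens} (h : W ≤ V) (z : Γ(L, κ ''ᵁ (κ ⁻¹ᵁ V))) :
    zeroExt L κ hd hc W (res L (κ.image_mono (κ.preimage_mono h)) z) = res L h (zeroExt L κ hd hc V z) :=
  eq_of_res hc
    (by rw [res_zeroExt, res_res, ← res_res L (κ.image_preimage_le V) (κ.image_mono (κ.preimage_mono h)),
      res_zeroExt])
    (by rw [res_zeroExt_compl, res_res, ← res_res L (inf_le_right : B ⊓ V ≤ V) (inf_le_inf_left B h),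
      res_zeroExt_compl, map_zero])

lemma zeroExt_smul (V : X.Opens) (r : Γ(X, V)) (z : Γ(L, κ ''ᵁ (κ ⁻¹ᵁ V))) :
    zeroExt L κ hd hc V (rres (κ.image_preimage_le V) r • z) = r • zeroExt L κ hd hc V z :=
  eq_of_res hc (by rw [res_zeroExt, res_smul, res_zeroExt])
    (by rw [res_zeroExt_compl, res_smul, res_zeroExt_compl, smul_zero])

variable (L κ) in
/-- Extension by zero on direct images. -/
def pushExt : (Scheme.Modules.pushforward (κ ≫ g)).obj (L.restrict κ) ⟶ (Scheme.Modules.pushforward g).obj L :=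
  ⟨PresheafOfModules.homMk
    { app := fun U => AddCommGrpCat.ofHom (AddMonoidHom.mk'
        (fun z => zeroExt L κ hd hc (g ⁻¹ᵁ U.unop) ((L.restrictAppIso κ _).hom z))
        fun a b => (congrArg (zeroExt L κ hd hc (g ⁻¹ᵁ U.unop)) (map_add _ a b)).trans
          (zeroExt_add hd hc _ _ _))
      naturality := fun U U' i => by
        ext z
        exact (congrArg (zeroExt L κ hd hc (g ⁻¹ᵁ U'.unop))
          (restrict_res κ L ((κ ≫ g).preimage_mono i.unop.le) z)).trans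
          (zeroExt_res hd hc (g.preimage_mono i.unop.le) _) }
    (fun U r z => by
      refine Eq.trans ?_ (zeroExt_smul hd hc (g ⁻¹ᵁ U.unop) (g.app U.unop r) _)
      refine congrArg (zeroExt L κ hd hc (g ⁻¹ᵁ U.unop)) ((restrict_smul κ L _ z).trans ?_)
      refine congrArg (· • _) ?_
      change (κ.appIso (κ ⁻¹ᵁ (g ⁻¹ᵁ U.unop))).inv (κ.app (g ⁻¹ᵁ U.unop) (g.app U.unop r)) = _
      have h1 : κ.app (g ⁻¹ᵁ U.unop) ≫ (κ.appIso (κ ⁻¹ᵁ (g ⁻¹ᵁ U.unop))).inv =
          X.presheaf.map (homOfLE (κ.image_preimage_le (g ⁻¹ᵁ U.unop))).op := by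
        rw [Scheme.Hom.app_eq_appLE, Scheme.Hom.appLE_appIso_inv]
      exact congr($h1 (g.app U.unop r)))⟩

lemma res_pushExt (U : Y.Opens) (z : Γ((Scheme.Modules.pushforward (κ ≫ g)).obj (L.restrict κ), U)) :
    res L (κ.image_preimage_le (g ⁻¹ᵁ U)) ((pushExt g L κ hd hc).app U z) = (L.restrictAppIso κ _).hom z :=
  res_zeroExt hd hc _ _

lemma res_pushExt_compl (U : Y.Opens) (z : Γ((Scheme.Modules.pushforward (κ ≫ g)).obj (L.restrict κ), U)) :
    res L (inf_le_right : B ⊓ g ⁻¹ᵁ U ≤ _) ((pushExt g L κ hd hc).app U z) = 0 :=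
  res_zeroExt_compl hd hc _ _

variable {g} {E : Y.Modules} {v : E ⟶ (Scheme.Modules.pushforward (κ ≫ g)).obj (L.restrict κ)}

lemma res_vsec_pushExt {U : Y.Opens} {W : X'.Opens} (hW : W ≤ (κ ≫ g) ⁻¹ᵁ U) (hW' : κ ''ᵁ W ≤ g ⁻¹ᵁ U)
    (z : Γ(E, U)) :
    res L hW' (vsec (v ≫ pushExt g L κ hd hc) U z) =
      (L.restrictAppIso κ W).hom (res (L.restrict κ) hW (vsec v U z)) := by
  rw [restrict_res, ← res_res L (κ.image_preimage_le (g ⁻¹ᵁ U)) (κ.image_mono hW)]
  exact congrArg (res L (κ.image_mono hW)) (res_pushExt g hd hc U (vsec v U z))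

/-- Frames and separating coefficient rings survive extension by zero. -/
lemma subImm_pushExt [E.IsQuasicoherent] (hv : Gens v) (hi : ClsImm v) (x' : X') :
    ∃ (U : Y.Opens) (_ : IsAffineOpen U) (e : Γ(E, U)),
      κ x' ∈ gLoc (v ≫ pushExt g L κ hd hc) U e ∧
        SubImm (gLoc (v ≫ pushExt g L κ hd hc) U e)
          (coefRing (v ≫ pushExt g L κ hd hc) U e (gLoc (v ≫ pushExt g L κ hd hc) U e)) := by
  obtain ⟨U, hU, hx⟩ := exists_affine_mem (g := κ ≫ g) x'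
  obtain ⟨e, V, hxV, hf⟩ := hv U hU x' hx
  let v₁ := v ≫ pushExt g L κ hd hc
  have hGle : κ ''ᵁ gLoc v U e ≤ g ⁻¹ᵁ U := by
    rintro _ ⟨y, hy, rfl⟩
    exact gLoc_le (v := v) (U := U) (e := e) hy
  have hG : gLoc v₁ U e = κ ''ᵁ gLoc v U e := by
    refine le_antisymm (fun x hx => ?_) (le_gLoc ⟨hGle, ?_⟩)
    · rcases hc.ge (trivial : x ∈ (⊤ : X.Opens)) with h | h
      · obtain ⟨y, rfl⟩ : ∃ y, κ y = x := h
        refine ⟨y, le_gLoc (v := v) (U := U) (e := e) (V := κ ⁻¹ᵁ gLoc v₁ U e) ?_ hx, rfl⟩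
        have hW : κ ⁻¹ᵁ gLoc v₁ U e ≤ (κ ≫ g) ⁻¹ᵁ U := κ.preimage_mono gLoc_le
        refine ⟨hW, (isGen_restrict_iff _).2 ?_⟩
        rw [← res_vsec_pushExt hd hc hW ((κ.image_preimage_le _).trans gLoc_le) e]
        exact ((frame_gLoc (v := v₁) (U := U) (e := e)).restrict (κ.image_preimage_le _)).gen
      · exfalso
        let W : X.Opens := gLoc v₁ U e ⊓ B
        have hW : W ≤ g ⁻¹ᵁ U := inf_le_left.trans gLoc_le
        have h0 : res L hW (vsec v₁ U e) = 0 := by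
          rw [← res_res L (inf_le_right : B ⊓ g ⁻¹ᵁ U ≤ _) (le_inf inf_le_right hW : W ≤ B ⊓ g ⁻¹ᵁ U)]
          exact (congrArg (res L _) (res_pushExt_compl g hd hc U (vsec v U e))).trans (map_zero _)
        have hgen := ((frame_gLoc (v := v₁) (U := U) (e := e)).restrict (inf_le_left : W ≤ _)).gen
        rw [h0] at hgen
        have h1 : (1 : Γ(X, W)) = 0 := hgen.injective le_rfl (by simp)
        have hxW : x ∈ W := ⟨hx, h⟩
        have := congrArg (X.presheaf.germ W x hxW) h1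
        rw [map_one, map_zero] at this
        exact one_ne_zero this
    · rw [res_vsec_pushExt hd hc gLoc_le hGle e]
      exact (isGen_restrict_iff _).1 frame_gLoc.gen
  refine ⟨U, hU, e, hG.ge ⟨x', le_gLoc hf hxV, rfl⟩, ?_⟩
  change SubImm (gLoc v₁ U e) (coefRing v₁ U e (gLoc v₁ U e))
  rw [hG]
  refine (subImm_image (subImm_of_clsImm hv hi hU e)).mono ?_
  rw [Subring.map_le_iff_le_comap]
  refine coefRing_le gLoc_le (fun a => ?_) fun z c hcz => ?_
  · simp only [Subring.mem_comap]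
    convert appLE_mem_coefRing (v := v₁) (e := e) hGle a using 1
    suffices h : (κ ≫ g).appLE U (gLoc v U e) gLoc_le ≫ (κ.appIso (gLoc v U e)).inv =
        g.appLE U (κ ''ᵁ gLoc v U e) hGle from congr($h a)
    rw [← cancel_mono (κ.appIso (gLoc v U e)).hom, Category.assoc, Iso.inv_hom_id, Category.comp_id,
      Scheme.Hom.appIso_hom', Scheme.Hom.appLE_comp_appLE]
  · simp only [Subring.mem_comap]
    refine coef_mem_coefRing (z := z) hGle ?_
    rw [res_vsec_pushExt hd hc gLoc_le hGle z, res_vsec_pushExt hd hc gLoc_le hGle e, hcz]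
    exact restrict_smul κ L c _

end Groth.Agent.ProjBundleLib
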