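import Groth.Agent.EGA2Gr.Irrelevant

/-! A degree generating the Veronese subring, and finiteness of the graded pieces. -/

noncomputable section

universe u

namespace Groth.Agent.ProjBundleLib

variable {R A : Type u} [CommRing R] [CommRing A] (𝒜 : ℕ → AddSubgroup A) [GradedRing 𝒜]

/-- A degree `h` all multiples of which generate, and finite generation of each piece over degree zero. -/
theorem exists_degree_generating (φ : R →+* A) (hφ : ∀ r, φ r ∈ 𝒜 0) (hft : φ.FiniteType) :
    ∃ h : ℕ, 0 < h ∧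
      (∀ k n : ℕ, 0 < k → 0 < n → AddSubgroup.toIntSubmodule (𝒜 (n * (h * k))) =
        AddSubgroup.toIntSubmodule (𝒜 (h * k)) ^ n) ∧
      ∀ D : ℕ, ∃ T : Finset A, (↑T : Set A) ⊆ (𝒜 D : Set A) ∧ AddSubgroup.toIntSubmodule (𝒜 D) =
        AddSubgroup.toIntSubmodule (𝒜 0) * Submodule.span ℤ (↑T : Set A) := by
  classical
  let := φ.toAlgebra
  let ℬ : ℕ → Submodule R A := fun n =>
    { (𝒜 n).toAddSubmonoid with
      smul_mem' := fun r a ha => by
        have := SetLike.mul_mem_graded (A := 𝒜) (hφ r) ha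
        rw [zero_add] at this
        exact (Algebra.smul_def r a).symm ▸ this }
  let : GradedRing ℬ :=
    { one_mem := SetLike.one_mem_graded 𝒜
      mul_mem := fun _ _ _ _ ha hb => SetLike.mul_mem_graded (A := 𝒜) ha hb
      decompose' := (DirectSum.decompose 𝒜 : A → _)
      left_inv := (DirectSum.decompose 𝒜).left_inv
      right_inv := (DirectSum.decompose 𝒜).right_inv }
  have : Algebra.FiniteType (ℬ 0) A :=
    have : Algebra.FiniteType R A := hft
    have : IsScalarTower R (ℬ 0) A := ⟨fun r a b => smul_mul_assoc r (a : A) b⟩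
    Algebra.FiniteType.of_restrictScalars_finiteType R (ℬ 0) A
  obtain ⟨D₀, hD, n₀, hadd⟩ := EGA2Gr.exists_degree_add_eq_mul ℬ
  have hstep : ∀ k n, n₀ ≤ n → ℬ (n + k * D₀) = ℬ D₀ ^ k * ℬ n := by
    intro k n hn
    induction k with
    | zero => simp
    | succ k ih =>
      rw [Nat.succ_mul, ← add_assoc, hadd _ (le_trans hn (Nat.le_add_right _ _)), ih, pow_succ',
        mul_assoc]
  have hle : ∀ d k, (ℬ d : Submodule R A) ^ k ≤ ℬ (k * d) := by
    intro d k
    induction k with
    | zero =>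
      rw [pow_zero, Nat.zero_mul, Submodule.one_le]
      exact SetLike.one_mem_graded ℬ
    | succ k ih =>
      rw [pow_succ, Nat.succ_mul]
      refine (mul_le_mul' ih le_rfl).trans (Submodule.mul_le.mpr fun p hp q hq ↦ ?_)
      exact SetLike.mul_mem_graded hp hq
  refine ⟨(n₀ + 1) * D₀, by positivity, fun k n hk hn => ?_, fun D => ?_⟩
  · suffices ℬ (n * ((n₀ + 1) * D₀ * k)) = ℬ ((n₀ + 1) * D₀ * k) ^ n by
      have e : ∀ N, AddSubgroup.toIntSubmodule (𝒜 N) = (ℬ N).restrictScalars ℤ :=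
        fun N => Submodule.ext fun a => Iff.rfl
      rw [e, e, this, Submodule.restrictScalars_pow (by omega)]
    obtain ⟨m, rfl⟩ : ∃ m, n = m + 1 := ⟨n - 1, by omega⟩
    refine le_antisymm ?_ (hle _ _)
    have hn₀ : n₀ ≤ (n₀ + 1) * D₀ * k := by
      have : n₀ + 1 ≤ (n₀ + 1) * D₀ * k :=
        le_trans (Nat.le_mul_of_pos_right _ hD) (Nat.le_mul_of_pos_right _ hk)
      omega
    rw [show (m + 1) * ((n₀ + 1) * D₀ * k) = (n₀ + 1) * D₀ * k + (m * ((n₀ + 1) * k)) * D₀ by ring,
      hstep _ _ hn₀, pow_succ, mul_comm m ((n₀ + 1) * k), pow_mul]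
    gcongr
    refine (hle D₀ ((n₀ + 1) * k)).trans_eq ?_
    rw [show (n₀ + 1) * k * D₀ = (n₀ + 1) * D₀ * k by ring]
  · obtain ⟨s, hs, htop, -⟩ := EGA2Gr.exists_finset_generators ℬ
    choose! deg hdeg using hs
    let x : s → A := fun i => i.1
    let d : s → ℕ := fun i => deg i.1
    have hx : ∀ i, x i ∈ ℬ (d i) := fun i => (hdeg i.1 i.2).2
    have htop' : Algebra.adjoin (ℬ 0) (Set.range x) = ⊤ := by
      rw [show Set.range x = (s : Set A) from Subtype.range_coe]; exact htop
    let T : Finset A := ((Finset.univ : Finset (s → Fin (D + 1))).filter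
      fun a => ∑ i, (a i : ℕ) * d i = D).image fun a => ∏ i, x i ^ (a i : ℕ)
    have hT : (↑T : Set A) ⊆ (ℬ D : Set A) := fun b hb => by
      obtain ⟨a, ha, rfl⟩ := Finset.mem_image.mp hb
      have := SetLike.prod_mem_graded ℬ (fun i => (a i : ℕ) * d i) (fun i => x i ^ (a i : ℕ))
        (F := Finset.univ) fun i _ => by simpa using SetLike.pow_mem_graded (a i : ℕ) (hx i)
      rwa [(Finset.mem_filter.mp ha).2] at this
    refine ⟨T, hT, le_antisymm (fun (y : A) (hy : y ∈ ℬ D) => ?_) ?_⟩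
    · refine EGA2Gr.mem_of_forall_monomial ℬ hx htop' (n := D)
        (P := (AddSubgroup.toIntSubmodule (𝒜 0) * Submodule.span ℤ (↑T : Set A)).toAddSubmonoid) (fun a ha c hc => ?_) hy
      refine Submodule.mul_mem_mul hc (Submodule.subset_span ?_)
      have hb : ∀ i, a i < D + 1 := fun i => by
        have h1 : a i * d i ≤ D := ha ▸ Finset.single_le_sum (f := fun i => a i * d i)
          (fun _ _ => Nat.zero_le _) (Finset.mem_univ i)
        have h2 : a i ≤ a i * d i := Nat.le_mul_of_pos_right _ (hdeg i.1 i.2).1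
        omega
      exact Finset.mem_image.mpr ⟨fun i => ⟨a i, hb i⟩, Finset.mem_filter.mpr ⟨Finset.mem_univ _, ha⟩, rfl⟩
    · refine Submodule.mul_le.mpr fun p hp q hq => ?_
      have := SetLike.mul_mem_graded (A := 𝒜) (i := 0) (j := D) hp ((Submodule.span_le.mpr hT : Submodule.span ℤ (↑T : Set A) ≤ AddSubgroup.toIntSubmodule (𝒜 D)) hq)
      rw [zero_add] at this
      exact this

end Groth.Agent.ProjBundleLib
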