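import Groth.Agent.RelProjLib.AmpleImm
import Groth.Agent.RelProjLib.Preimage

/-! If `r_{L,ψ}` is everywhere defined and a topological embedding over an affine base, `L` is ample. -/

noncomputable section

universe u

open CategoryTheory CategoryTheory.Limits AlgebraicGeometry TopologicalSpace Opposite
open RelProj
open Groth.Agent.Props.GenLocus Groth.Agent.Props.GenProd Groth.Agent.Props.GenExt
open Groth.Agent.RelProjLib Groth.Agent.RelProjLib.AmpleImm

namespace Groth.Agent.ProjBundleLib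

variable {X Y : Scheme.{u}} {q : X ⟶ Y} {𝒮 : QCGrAlg Y} {𝒮L : QCGrAlg X} (u : QGrHom q 𝒮 𝒮L)
  {L : X.Modules} [L.IsQuasicoherent] {j : L ⟶ 𝒮L.toModule} (hj : IsGrSymAlg L 𝒮L j)
  (hY : IsAffineOpen (⊤ : Y.Opens))

include hj hY in
/-- A homogeneous element gives a section of a power of `L` with the same locus. -/
theorem exists_hom_of_element (hL : PicF.IsInvertible L) {d : ℕ} {f : 𝒮.presheaf.obj (op (⊤ : Y.Opens))}
    (hf : f ∈ 𝒮.deg ⊤ hY d) :
    ∃ s : Coh.structureModule X ⟶ CohB1.tensorPow L d, CohB1.genLocus _ s = Xs u d f := by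
  have key : ∀ x : X, ∃ (W : X.Opens) (e : Γ(L, W)), x ∈ W ∧ IsAffineOpen W ∧ IsGen L W e := by
    intro x
    obtain ⟨U, e, hxU, he⟩ := exists_isGen hL x
    obtain ⟨W, hW, hxW, hWU⟩ := exists_isAffineOpen_mem_and_subset (U := U) (x := x) hxU
    exact ⟨W, QCoh.res L hWU e, hxW, hW, he.restrict hWU⟩
  choose W e hxW hW he using key
  choose c hc hcu using fun i => existsUnique_gen hj (he i) (hW i) le_rfl (uTop_mem u hY hf (hW i))
  obtain ⟨s, hs⟩ := exists_hom_of_cover W (fun x _ => Opens.mem_iSup.2 ⟨x, hxW x⟩) e he d c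
    fun i k v hv => by
      refine TopCat.Sheaf.eq_of_locally_eq' X.sheaf
        (fun D : {D : X.affineOpens // (D : X.Opens) ≤ W i ⊓ W k} => (D.1 : X.Opens)) (W i ⊓ W k)
        (fun D => homOfLE D.2) (fun x hx => ?_) _ _ fun ⟨⟨D, hD⟩, hDle⟩ => ?_
      · obtain ⟨D, hD, hxD, hDle⟩ := exists_isAffineOpen_mem_and_subset (U := W i ⊓ W k) (x := x) hx
        exact Opens.mem_iSup.2 ⟨⟨⟨D, hD⟩, hDle⟩, hxD⟩
      have hi : D ≤ W i := le_trans hDle inf_le_left
      have hk : D ≤ W k := le_trans hDle inf_le_right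
      have e1 : ∀ (l : X) (h : D ≤ W l), uTop u D f =
          (𝒮L.str.app (op D)).hom (QCoh.rres h (c l)) * gen (e l) j h ^ d := fun l h => by
        rw [← uTop_res u h f, hc l]
        change rh 𝒮L h _ = _
        rw [map_mul, rh_str, map_pow, rh_gen]
      have e2 : gen (e k) j hk = (𝒮L.str.app (op D)).hom (QCoh.rres hDle v) * gen (e i) j hi := by
        have := congrArg (QCoh.res L hDle) hv
        rw [QCoh.res_smul, QCoh.res_res, QCoh.res_res] at this
        exact (congrArg (j.app D) this).trans (j.app_smul (QCoh.rres hDle v) _)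
      obtain ⟨_, -, huniq⟩ := existsUnique_gen hj (he i) hD hi (uTop_mem u hY hf hD)
      change QCoh.rres hDle (QCoh.rres inf_le_left (c i)) = QCoh.rres hDle (v ^ d * QCoh.rres inf_le_right (c k))
      rw [map_mul, map_pow, QCoh.rres_rres, QCoh.rres_rres]
      refine (huniq _ (e1 i hi)).trans (huniq _ ?_).symm
      rw [e1 k hk, e2, mul_pow, ← map_pow, ← mul_assoc, ← map_mul, mul_comm (QCoh.rres hk (c k))]
  refine ⟨s, ?_⟩
  ext x
  have h1 := Xs_inf u hj (he x) (hW x) le_rfl f (hc x)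
  constructor
  · intro h
    exact (((hs x).2.trans h1.symm).le ⟨h, hxW x⟩).1
  · intro h
    exact ((h1.trans (hs x).2.symm).le ⟨h, hxW x⟩).1

include hj hY in
/-- Embedding implies ample. -/
theorem isAmple_of_isEmbedding [CompactSpace X] {P PL : Scheme.{u}} (hL : PicF.IsInvertible L) {p : P ⟶ Y}
    {chart : ∀ (U : Y.Opens) (hU : IsAffineOpen U), (((p ⁻¹ᵁ U : P.Opens) : Scheme.{u}) ≅ Proj (𝒮.deg U hU))}
    (hP : IsRelProj 𝒮 p chart) {pL : PL ⟶ X}
    {chartL : ∀ (U : X.Opens) (hU : IsAffineOpen U), (((pL ⁻¹ᵁ U : PL.Opens) : Scheme.{u}) ≅ Proj (𝒮L.deg U hU))}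
    (hPL : IsRelProj 𝒮L pL chartL) {r : ((domQ u pL chartL : PL.Opens) : Scheme.{u}) ⟶ P}
    (hr : IsProjQMapOn u p chart pL chartL (domQ u pL chartL) r) (hdom : domQ u pL chartL = ⊤)
    (hemb : Topology.IsInducing r.base) : CohB1.IsAmple L := by
  refine ⟨hL, inferInstance, fun x => ?_⟩
  have : IsIso pL := SymLib.isIso_proj hj hL hPL
  obtain ⟨z, rfl⟩ : ∃ z, pL z = x := ⟨inv pL x, by rw [← Scheme.Hom.comp_apply, IsIso.inv_hom_id]; rfl⟩
  obtain ⟨U₀, e, hxU, he⟩ := exists_isGen hL (pL z)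
  obtain ⟨W, hW, hxW, hWU⟩ := exists_isAffineOpen_mem_and_subset (U := U₀) (x := pL z) hxU
  have hopen : IsOpen ((fun w : (domQ u pL chartL : Scheme.{u}) => pL w.1) ⁻¹' (W : Set X)) :=
    W.2.preimage (pL.continuous.comp continuous_subtype_val)
  obtain ⟨O, hO, hOe⟩ := hemb.isOpen_iff.1 hopen
  have hz : z ∈ domQ u pL chartL := hdom.ge trivial
  have hzO : r ⟨z, hz⟩ ∈ O := hOe.ge hxW
  obtain ⟨y, hy⟩ := exists_emb_eq 𝒮 (p := p) (chart := chart) hY (x := r ⟨z, hz⟩) trivial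
  obtain ⟨d, hd, f, hf, hfy, hle⟩ := exists_basicOpen_subset p hY (O := ⟨O, hO⟩) y (hy ▸ hzO)
  have hzX : pL z ∈ Xs u d f :=
    (mem_preimage_iff_mem_Xs u r hr hj hL hP hPL hY hd hf z).1 ⟨hz, y, hfy, hy⟩
  have hXW : Xs u d f ≤ W := fun x hx => by
    obtain ⟨w, rfl⟩ : ∃ w, pL w = x := ⟨inv pL x, by rw [← Scheme.Hom.comp_apply, IsIso.inv_hom_id]; rfl⟩
    obtain ⟨hw, hm⟩ := (mem_preimage_iff_mem_Xs u r hr hj hL hP hPL hY hd hf w).2 hx
    exact (hOe.le (hle hm) :)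
  obtain ⟨c, hc, -⟩ := existsUnique_gen hj he hW hWU (uTop_mem u hY hf hW)
  have haff : IsAffineOpen (Xs u d f) := by
    have := Xs_inf u hj he hW hWU f hc
    rw [inf_eq_left.2 hXW] at this
    rw [this]
    exact hW.basicOpen c
  obtain ⟨s, hs⟩ := exists_hom_of_element u hj hY hL hf
  obtain ⟨n, t, ht⟩ := exists_succ hd s
  exact ⟨n, t, ht.trans hs ▸ hzX, ht.trans hs ▸ haff⟩

end Groth.Agent.ProjBundleLib
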