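import Groth.Agent.ProjBundleLib.GrSym
import Groth.Agent.ProjBundleLib.Algebra
import Groth.Agent.RelProjLib.QMapHom
import Groth.Agent.RelProjLib.Comp
import Groth.Agent.RelProjLib.ProjMap
import Groth.Agent.RelProjLib.Existence
import Groth.Agent.QCoh.FiniteType

/-! An algebra generated in degree one as a quotient of a symmetric algebra. -/

noncomputable section

universe u

open CategoryTheory CategoryTheory.Limits AlgebraicGeometry TopologicalSpace Opposite
open scoped HomogeneousIdeal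
open RelProj

namespace Groth.Agent.ProjBundleLib

variable {Y : Scheme.{u}} {E : Y.Modules} [E.IsQuasicoherent] {𝒮 𝒯 : QCGrAlg Y} {u : E ⟶ 𝒮.toModule}
  {j : E ⟶ 𝒯.toModule} {ubar : 𝒯.toQCAlg ⟶ 𝒮.toQCAlg}

omit [E.IsQuasicoherent] in
lemma ubar_el (hju : j ≫ RelSpec.QCAlg.Hom.toModuleMap ubar = u) (U : Y.Opens) (e : Γ(E, U)) :
    (ubar.hom.app (op U)).hom (el j U e) = u.app U e :=
  congr($(congrArg (fun f => Scheme.Modules.Hom.app f U) hju) e)

lemma isGradedHom_ubar (hj : IsGrSymAlg E 𝒯 j) (hju : j ≫ RelSpec.QCAlg.Hom.toModuleMap ubar = u)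
    (hu : ∀ (U : Y.Opens) (hU : IsAffineOpen U) (x : Γ(E, U)), u.app U x ∈ 𝒮.deg U hU 1) :
    IsGradedHom ubar := by
  intro U hU d x hx
  let := (𝒯.str.app (op U)).hom.toAlgebra
  have hx' := (SymLib.mem_deg_iff hj hU).1 hx
  clear hx
  unfold SymLib.piece at hx'
  induction hx' using Submodule.pow_induction_on_left' with
  | algebraMap r =>
    rw [show (ubar.hom.app (op U)).hom (algebraMap Γ(Y, U) _ r) = (𝒮.str.app (op U)).hom r from
      congr($(NatTrans.congr_app ubar.comm (op U)).hom r)]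
    exact 𝒮.str_mem U hU r
  | add a b i _ _ iha ihb => rw [map_add]; exact add_mem iha ihb
  | mem_mul m hm i y _ ih =>
    obtain ⟨e, rfl⟩ := hm
    have h : (ubar.hom.app (op U)).hom (el j U e) * (ubar.hom.app (op U)).hom y ∈ 𝒮.deg U hU (1 + i) :=
      SetLike.mul_mem_graded (A := 𝒮.deg U hU) (by rw [ubar_el hju]; exact hu U hU e) ih
    rw [← map_mul, add_comm] at h
    exact h

/-- In positive degrees every section comes from the symmetric algebra. -/
lemma exists_ubar (hgen : 𝒮.IsGenDegOne) (hj : IsGrSymAlg E 𝒯 j)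
    (hju : j ≫ RelSpec.QCAlg.Hom.toModuleMap ubar = u)
    (hu : ∀ (U : Y.Opens) (hU : IsAffineOpen U) (x : Γ(E, U)), u.app U x ∈ 𝒮.deg U hU 1)
    (husurj : ∀ (U : Y.Opens) (hU : IsAffineOpen U), ∀ s ∈ 𝒮.deg U hU 1, ∃ x : Γ(E, U), u.app U x = s)
    (U : Y.Opens) (hU : IsAffineOpen U) (k : ℕ) (hk : 1 ≤ k) (y : 𝒮.presheaf.obj (op U))
    (hy : y ∈ 𝒮.deg U hU k) : ∃ x ∈ 𝒯.deg U hU k, (ubar.hom.app (op U)).hom x = y := by
  classical
  let φ := (ubar.hom.app (op U)).hom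
  let I : ℕ → AddSubgroup (𝒮.presheaf.obj (op U)) := fun i => (AddSubgroup.ofClass (𝒯.deg U hU i)).map φ.toAddMonoidHom
  have h1 : ∀ z ∈ 𝒮.deg U hU 1, z ∈ I 1 := fun z hz => by
    obtain ⟨e, rfl⟩ := husurj U hU z hz
    exact ⟨el j U e, el_mem hj hU e, ubar_el hju U e⟩
  have hmul : ∀ {i l : ℕ} {a b}, a ∈ I i → b ∈ I l → a * b ∈ I (i + l) := by
    rintro i l _ _ ⟨a, ha, rfl⟩ ⟨b, hb, rfl⟩
    exact ⟨a * b, SetLike.mul_mem_graded (A := 𝒯.deg U hU) ha hb, map_mul φ a b⟩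
  have h0 : ∀ (n : ℕ), ∀ z ∈ I (n + 1), ∀ a ∈ 𝒮.deg U hU 0, a * z ∈ I (n + 1) := by
    rintro n _ ⟨t, ht, rfl⟩ a ha
    let := (𝒯.str.app (op U)).hom.toAlgebra
    have ht' := (SymLib.mem_deg_iff hj hU).1 ht
    unfold SymLib.piece at ht'
    rw [pow_succ] at ht'
    refine Submodule.mul_induction_on ht' (fun b hb c hc => ?_) fun b c hb hc => ?_
    · obtain ⟨e, rfl⟩ := hc
      have hce : a * φ (el j U e) ∈ I 1 := h1 _ (by
        have h := SetLike.mul_mem_graded (A := 𝒮.deg U hU) ha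
          (show φ (el j U e) ∈ 𝒮.deg U hU 1 from isGradedHom_ubar hj hju hu U hU 1 _ (el_mem hj hU e))
        simpa using h)
      have h := hmul (i := n) (l := 1) ⟨b, (SymLib.mem_deg_iff hj hU).2 hb, rfl⟩ hce
      have e2 : a * φ.toAddMonoidHom (b * el j U e) = φ b * (a * φ (el j U e)) :=
        (congrArg (a * ·) (map_mul φ b _)).trans (mul_left_comm _ _ _)
      exact e2 ▸ h
    · rw [map_add, mul_add]
      exact add_mem hb hc
  have key : ∀ y : 𝒮.presheaf.obj (op U), ∀ i, 1 ≤ i →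
      (DirectSum.decompose (𝒮.deg U hU) y i : 𝒮.presheaf.obj (op U)) ∈ I i := by
    intro y
    have hy' : y ∈ Subring.closure ((𝒮.deg U hU 0 : Set (𝒮.presheaf.obj (op U))) ∪ (𝒮.deg U hU 1 : Set _)) := by
      rw [hgen U hU]; trivial
    induction hy' using Subring.closure_induction with
    | mem z hz =>
      intro i hi
      rcases hz with hz | hz
      · rw [DirectSum.decompose_of_mem_ne (𝒮.deg U hU) hz (by omega)]
        exact zero_mem _
      · rcases eq_or_ne 1 i with rfl | hne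
        · rw [DirectSum.decompose_of_mem_same (𝒮.deg U hU) hz]
          exact h1 _ hz
        · rw [DirectSum.decompose_of_mem_ne (𝒮.deg U hU) hz hne]
          exact zero_mem _
    | zero => intro i _; simp
    | one =>
      intro i hi
      rw [DirectSum.decompose_of_mem_ne (𝒮.deg U hU) SetLike.GradedOne.one_mem (by omega)]
      exact zero_mem _
    | add a b _ _ ha hb =>
      intro i hi
      rw [DirectSum.decompose_add, DirectSum.add_apply, AddMemClass.coe_add]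
      exact add_mem (ha i hi) (hb i hi)
    | neg a _ ha =>
      intro i hi
      rw [DirectSum.decompose_neg]
      exact neg_mem (ha i hi)
    | mul a b _ _ ha hb =>
      intro i hi
      rw [DirectSum.decompose_mul, DirectSum.coe_mul_apply]
      refine sum_mem fun p hp => ?_
      simp only [Finset.mem_filter] at hp
      rcases p with ⟨p₁, p₂⟩
      obtain hp' : p₁ + p₂ = i := hp.2
      rcases Nat.eq_zero_or_pos p₁ with rfl | hp₁
      · obtain ⟨n, rfl⟩ : ∃ n, p₂ = n + 1 := ⟨p₂ - 1, by omega⟩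
        rw [show i = n + 1 by omega]
        exact h0 n _ (hb _ (by omega)) _ (SetLike.coe_mem _)
      · rcases Nat.eq_zero_or_pos p₂ with rfl | hp₂
        · obtain ⟨n, rfl⟩ : ∃ n, p₁ = n + 1 := ⟨p₁ - 1, by omega⟩
          rw [show i = n + 1 by omega, mul_comm]
          exact h0 n _ (ha _ (by omega)) _ (SetLike.coe_mem _)
        · exact hp' ▸ hmul (ha _ hp₁) (hb _ hp₂)
  have h := key y k hk
  rw [DirectSum.decompose_of_mem_same (𝒮.deg U hU) hy] at h
  obtain ⟨x, hx, e⟩ := h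
  exact ⟨x, hx, e⟩

/-- A morphism of relative spectra which is a chartwise `Proj.map`, surjective in large degrees, is a closed immersion. -/
theorem isClosedImmersion_of_relProjMap {φ : 𝒯.toQCAlg ⟶ 𝒮.toQCAlg} {hφ : IsGradedHom φ}
    {hirr : ∀ (U : Y.Opens) (hU : IsAffineOpen U), (𝒮.deg U hU)₊ ≤ ((𝒯.deg U hU)₊).map (gradedHomAt φ hφ U hU)}
    {PT PS : Scheme.{u}} {pT : PT ⟶ Y} {pS : PS ⟶ Y}
    {chartT : ∀ (U : Y.Opens) (hU : IsAffineOpen U), ((pT ⁻¹ᵁ U : PT.Opens) : Scheme.{u}) ≅ Proj (𝒯.deg U hU)}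
    {chartS : ∀ (U : Y.Opens) (hU : IsAffineOpen U), ((pS ⁻¹ᵁ U : PS.Opens) : Scheme.{u}) ≅ Proj (𝒮.deg U hU)}
    (hPT : IsRelProj 𝒯 pT chartT) (hPS : IsRelProj 𝒮 pS chartS) {h : PS ⟶ PT}
    (hh : IsRelProjMap φ hφ hirr chartT chartS h)
    (hs : ∀ (U : Y.Opens) (hU : IsAffineOpen U) (k : ℕ), 1 ≤ k → ∀ y ∈ 𝒮.deg U hU k,
      ∃ x ∈ 𝒯.deg U hU k, (φ.hom.app (op U)).hom x = y) : IsClosedImmersion h := by
  have hcomp : h ≫ pT = pS := by
    refine RelProjLib.hom_ext_ι chartS fun U hU => ?_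
    rw [← Category.assoc, hh U hU]
    simp only [Category.assoc]
    rw [← hPT.chart_over U hU, Iso.inv_hom_id_assoc, ← hPS.chart_over U hU]
    congr 1
    rw [← Category.assoc, RelProjLib.map_toSpecZero, Category.assoc, ← Spec.map_comp_assoc]
    congr 3
    exact CommRingCat.hom_ext (RingHom.ext fun r => Subtype.ext
      congr($(NatTrans.congr_app φ.comm (op U)).hom r))
  refine (IsZariskiLocalAtTarget.iff_of_openCover (P := @IsClosedImmersion)
    (RelProjLib.embCover pT chartT)).2 ?_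
  rintro ⟨U, hU⟩
  have hcomm : emb pS chartS U hU ≫ h = Proj.map (gradedHomAt φ hφ U hU) (hirr U hU) ≫ emb pT chartT U hU := by
    rw [emb, emb, Category.assoc, hh U hU, Iso.inv_hom_id_assoc]
  have hrange : h ⁻¹ᵁ (emb pT chartT U hU).opensRange = (emb pS chartS U hU).opensRange := by
    rw [RelProjLib.emb_opensRange, RelProjLib.emb_opensRange, ← Scheme.Hom.comp_preimage, hcomp]
  have pb := IsOpenImmersion.isPullback _ (emb pS chartS U hU) (emb pT chartT U hU) h hcomm hrange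
  change IsClosedImmersion (pullback.snd h (emb pT chartT U hU))
  rw [← pb.flip.isoPullback_inv_snd, MorphismProperty.cancel_left_of_respectsIso @IsClosedImmersion]
  exact RelProjLib.map_property _ _ @IsClosedImmersion fun d hd f hf => IsClosedImmersion.spec_of_surjective _
    (RelProjLib.away_map_surjective_of_eventually (gradedHomAt φ hφ U hU) (n := 1) (hs U hU) hd hf)

omit [E.IsQuasicoherent] in
lemma isFTDeg_one [E.IsQuasicoherent] (hj : IsGrSymAlg E 𝒯 j) (hE : CohB1.IsFT E) : 𝒯.IsFTDeg 1 := by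
  classical
  intro U hU
  have := (QCoh.isFiniteType_iff E).1 hE U hU
  obtain ⟨n, b, hb⟩ := Module.Finite.exists_fin (R := Γ(Y, U)) (M := Γ(E, U))
  refine ⟨Finset.univ.image fun i => el j U (b i), ?_, fun x hx => ?_⟩
  · intro y hy
    obtain ⟨i, -, rfl⟩ := Finset.mem_image.1 hy
    exact el_mem hj hU _
  · obtain ⟨e, rfl⟩ := (piece_one_iff hj).1 ((SymLib.mem_deg_iff hj hU).1 hx)
    let := (𝒯.str.app (op U)).hom.toAlgebra
    have hmem : el j U e ∈ Submodule.span Γ(Y, U)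
        (↑(Finset.univ.image fun i => el j U (b i)) : Set (𝒯.presheaf.obj (op U))) := by
      obtain ⟨c, hc⟩ := Submodule.mem_span_range_iff_exists_fun Γ(Y, U) |>.1 (hb.ge (Submodule.mem_top (x := e)))
      rw [← hc, show el j U (∑ i, c i • b i) = ∑ i, el j U (c i • b i) from map_sum (j.app U).hom _ _]
      refine sum_mem fun i _ => ?_
      rw [el_smul]
      exact Submodule.smul_mem _ (c i) (Submodule.subset_span (Finset.mem_coe.2
        (Finset.mem_image_of_mem _ (Finset.mem_univ i))))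
    obtain ⟨c, -, hc⟩ := Submodule.mem_span_finset.1 hmem
    exact ⟨c, hc.symm⟩

/-- `Proj` of an algebra generated by `u E` is a closed subscheme of `P(E)`. -/
theorem exists_closedImmersion (hgen : 𝒮.IsGenDegOne)
    (hu : ∀ (U : Y.Opens) (hU : IsAffineOpen U) (x : Γ(E, U)), u.app U x ∈ 𝒮.deg U hU 1)
    (husurj : ∀ (U : Y.Opens) (hU : IsAffineOpen U), ∀ s ∈ 𝒮.deg U hU 1, ∃ x : Γ(E, U), u.app U x = s)
    (hj : IsGrSymAlg E 𝒯 j) {PT PS : Scheme.{u}} {pT : PT ⟶ Y} {pS : PS ⟶ Y}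
    {chartT : ∀ (U : Y.Opens) (hU : IsAffineOpen U), ((pT ⁻¹ᵁ U : PT.Opens) : Scheme.{u}) ≅ Proj (𝒯.deg U hU)}
    {chartS : ∀ (U : Y.Opens) (hU : IsAffineOpen U), ((pS ⁻¹ᵁ U : PS.Opens) : Scheme.{u}) ≅ Proj (𝒮.deg U hU)}
    (hPT : IsRelProj 𝒯 pT chartT) (hPS : IsRelProj 𝒮 pS chartS) :
    ∃ i : PS ⟶ PT, IsClosedImmersion i ∧ i ≫ pT = pS := by
  obtain ⟨ubar, hju, -⟩ := hj.1 𝒮.toQCAlg u
  let w := QGrHom.ofHom ubar (isGradedHom_ubar hj hju hu)
  have hs : ∀ (U : Y.Opens) (hU : IsAffineOpen U) (hle : U ≤ (𝟙 Y : Y ⟶ Y) ⁻¹ᵁ U) (k : ℕ), 1 ≤ k →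
      ∀ y ∈ 𝒮.deg U hU k, ∃ x ∈ 𝒯.deg U hU k, w.gradedAt U hU U hU hle x = y := fun U hU hle k hk y hy => by
    obtain ⟨x, hx, e⟩ := exists_ubar hgen hj hju hu husurj U hU k hk y hy
    exact ⟨x, hx, (RelProjLib.gradedAt_ofHom_apply ubar _ U hU hle x).trans e⟩
  obtain ⟨h, hh⟩ := RelProjLib.exists_isProjQMap w pT pS hPT hPS
    (RelProjLib.domQ_eq_top_of_eventually_surjective w pS chartS hs)
  exact ⟨h, RelProjLib.qmap_property w @IsClosedImmersion hPT hPS hh fun U hU hle d hd f hf =>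
    IsClosedImmersion.spec_of_surjective _
      (RelProjLib.away_map_surjective_of_eventually (w.gradedAt U hU U hU hle) (n := 1) (hs U hU hle) hd hf),
    RelProjLib.comp_of_isProjQMap w hPT hPS hh⟩

end Groth.Agent.ProjBundleLib
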