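import Groth.Agent.SymLib.Grading
import Groth.Agent.SymLib.Sheaf

/-! The symmetric algebra of a quasi-coherent module as a graded algebra. -/

noncomputable section

universe u

open CategoryTheory CategoryTheory.Limits AlgebraicGeometry TopologicalSpace Opposite
open scoped DirectSum

namespace Groth.Agent.ProjBundleLib

variable {S : Scheme.{u}} (E : S.Modules) [E.IsQuasicoherent]

local notation "A" => SymLib.symAlg E

/-- Sections of `E` in the symmetric algebra. -/
def symEl (U : S.Opens) : Γ(E, U) →+ ((A).presheaf.obj (op U) : Type u) :=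
  AddMonoidHom.mk' (fun m => (SymLib.jSym E).app U m) fun a b => map_add _ a b

/-- Combinations of products of `d` sections. -/
def symPiece (U : S.Opens) : ℕ → AddSubgroup ((A).presheaf.obj (op U) : Type u)
  | 0 => ((A).str.app (op U)).hom.toAddMonoidHom.range
  | d + 1 => AddSubgroup.closure
      {z | ∃ (m : Γ(E, U)) (y : (A).presheaf.obj (op U)), y ∈ symPiece U d ∧ z = symEl E U m * y}

variable {E}

lemma symEl_mul_mem {U : S.Opens} {d : ℕ} (m : Γ(E, U)) {y : (A).presheaf.obj (op U)}
    (hy : y ∈ symPiece E U d) : symEl E U m * y ∈ symPiece E U (d + 1) :=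
  AddSubgroup.subset_closure ⟨m, y, hy, rfl⟩

lemma str_mul_mem {U : S.Opens} {d : ℕ} (r : Γ(S, U)) {y : (A).presheaf.obj (op U)}
    (hy : y ∈ symPiece E U d) : ((A).str.app (op U)).hom r * y ∈ symPiece E U d := by
  induction d generalizing y with
  | zero =>
    obtain ⟨s, rfl⟩ := hy
    exact ⟨r * s, map_mul ((A).str.app (op U)).hom r s⟩
  | succ d ih =>
    induction hy using AddSubgroup.closure_induction with
    | mem z hz =>
      obtain ⟨m, y, hy, rfl⟩ := hz
      rw [mul_left_comm]
      exact symEl_mul_mem m (ih hy)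
    | zero => rw [mul_zero]; exact zero_mem _
    | add a b _ _ ha hb => rw [mul_add]; exact add_mem ha hb
    | neg a _ ha => rw [mul_neg]; exact neg_mem ha

lemma one_mem_symPiece (U : S.Opens) : (1 : (A).presheaf.obj (op U)) ∈ symPiece E U 0 :=
  ⟨1, map_one ((A).str.app (op U)).hom⟩

lemma mul_mem_symPiece {U : S.Opens} {i k : ℕ} {a b : (A).presheaf.obj (op U)}
    (ha : a ∈ symPiece E U i) (hb : b ∈ symPiece E U k) : a * b ∈ symPiece E U (i + k) := by
  induction i generalizing a with
  | zero =>
    obtain ⟨r, rfl⟩ := ha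
    rw [zero_add]
    exact str_mul_mem r hb
  | succ i ih =>
    induction ha using AddSubgroup.closure_induction with
    | mem z hz =>
      obtain ⟨m, y, hy, rfl⟩ := hz
      rw [mul_assoc, Nat.succ_add]
      exact symEl_mul_mem m (ih hy)
    | zero => rw [zero_mul]; exact zero_mem _
    | add a a' _ _ h h' => rw [add_mul]; exact add_mem h h'
    | neg a _ h => rw [neg_mul]; exact neg_mem h

lemma res_mem_symPiece {U V : S.Opens} (h : V ≤ U) {d : ℕ} {x : (A).presheaf.obj (op U)}
    (hx : x ∈ symPiece E U d) : ((A).presheaf.map (homOfLE h).op).hom x ∈ symPiece E V d := by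
  induction d generalizing x with
  | zero =>
    obtain ⟨r, rfl⟩ := hx
    exact ⟨_, congr($((A).str.naturality (homOfLE h).op).hom r)⟩
  | succ d ih =>
    induction hx using AddSubgroup.closure_induction with
    | mem z hz =>
      obtain ⟨m, y, hy, rfl⟩ := hz
      rw [map_mul, show ((A).presheaf.map (homOfLE h).op).hom (symEl E U m) =
        symEl E V (QCoh.res E h m) from (QCoh.app_res (SymLib.jSym E) h m).symm]
      exact symEl_mul_mem _ (ih hy)
    | zero => rw [map_zero]; exact zero_mem _
    | add a b _ _ ha hb => rw [map_add]; exact add_mem ha hb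
    | neg a _ ha => rw [map_neg]; exact neg_mem ha

variable (E) in
lemma exists_gradeHom (U : S.Opens) (hU : IsAffineOpen U) :
    ∃ F : ((A).presheaf.obj (op U) : Type u) →+* Polynomial ((A).presheaf.obj (op U) : Type u),
      ∀ (d : ℕ) (x), x ∈ symPiece E U d → F x = Polynomial.C x * Polynomial.X ^ d := by
  let φ : Γ(S, U) →+* Polynomial ((A).presheaf.obj (op U) : Type u) :=
    Polynomial.C.comp ((A).str.app (op U)).hom
  let := φ.toAlgebra
  let Lm : Γ(E, U) →ₗ[Γ(S, U)] Polynomial ((A).presheaf.obj (op U) : Type u) :=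
    { toFun := fun m => Polynomial.C (symEl E U m) * Polynomial.X
      map_add' := fun a b => by rw [map_add, map_add, add_mul]
      map_smul' := fun r m => by
        have h : symEl E U (r • m) = ((A).str.app (op U)).hom r * symEl E U m :=
          (SymLib.jSym E).app_smul r m
        rw [h, map_mul, mul_assoc]
        rfl }
  let e := RingEquiv.ofBijective _ (SymLib.affLift_bijective (SymLib.isSymAlg_symAlg E) hU)
  let F := (SymmetricAlgebra.lift Lm).toRingHom.comp e.symm.toRingHom
  have hF0 : ∀ r, F (((A).str.app (op U)).hom r) = Polynomial.C (((A).str.app (op U)).hom r) := by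
    intro r
    have h : e.symm (((A).str.app (op U)).hom r) = algebraMap _ _ r :=
      e.symm_apply_eq.2 (SymLib.affLift_algebraMap _ U r).symm
    change SymmetricAlgebra.lift Lm (e.symm _) = _
    rw [h]
    exact AlgHom.commutes _ r
  have hF1 : ∀ m, F (symEl E U m) = Polynomial.C (symEl E U m) * Polynomial.X := by
    intro m
    have h : e.symm (symEl E U m) = SymmetricAlgebra.ι _ _ m :=
      e.symm_apply_eq.2 (SymLib.affLift_ι (SymLib.jSym E) U m).symm
    change SymmetricAlgebra.lift Lm (e.symm _) = _
    rw [h]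
    exact SymmetricAlgebra.lift_ι_apply Lm m
  refine ⟨F, fun d => ?_⟩
  induction d with
  | zero =>
    rintro _ ⟨r, rfl⟩
    rw [pow_zero, mul_one]
    exact hF0 r
  | succ d ih =>
    intro x hx
    induction hx using AddSubgroup.closure_induction with
    | mem z hz =>
      obtain ⟨m, y, hy, rfl⟩ := hz
      rw [map_mul, hF1, ih y hy, map_mul, pow_succ]
      ring
    | zero => rw [map_zero, map_zero, zero_mul]
    | add a b _ _ ha hb => rw [map_add, ha, hb, map_add, add_mul]
    | neg a _ ha => rw [map_neg, ha, map_neg, neg_mul]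

lemma iSup_symPiece (U : S.Opens) (hU : IsAffineOpen U) (a : (A).presheaf.obj (op U)) :
    a ∈ ⨆ d, symPiece E U d := by
  induction a using SymLib.affInduction (SymLib.isSymAlg_symAlg E) hU with
  | hstr r => exact AddSubgroup.mem_iSup_of_mem 0 ⟨r, rfl⟩
  | hj m =>
    refine AddSubgroup.mem_iSup_of_mem 1 ?_
    have h := symEl_mul_mem (E := E) (U := U) m (one_mem_symPiece U)
    rwa [mul_one] at h
  | hmul a b ha hb =>
    induction ha using AddSubgroup.iSup_induction' with
    | hp i x hx =>
      induction hb using AddSubgroup.iSup_induction' with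
      | hp k y hy => exact AddSubgroup.mem_iSup_of_mem (i + k) (mul_mem_symPiece hx hy)
      | h1 => rw [mul_zero]; exact zero_mem _
      | hadd y z _ _ hy hz => rw [mul_add]; exact add_mem hy hz
    | h1 => rw [zero_mul]; exact zero_mem _
    | hadd x y _ _ hx hy => rw [add_mul]; exact add_mem hx hy
  | hadd a b ha hb => exact add_mem ha hb

lemma isInternal_symPiece (U : S.Opens) (hU : IsAffineOpen U) :
    DirectSum.IsInternal (symPiece E U) := by
  classical
  obtain ⟨F, hF⟩ := exists_gradeHom E U hU
  constructor
  · have key : ∀ (z : ⨁ d, symPiece E U d) (d : ℕ),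
        (F (DirectSum.coeAddMonoidHom (symPiece E U) z)).coeff d = (z d : (A).presheaf.obj (op U)) := by
      intro z d
      induction z using DirectSum.induction_on with
      | zero => simp
      | of i x =>
        rw [DirectSum.coeAddMonoidHom_of, hF i _ x.2, Polynomial.coeff_C_mul_X_pow]
        rcases eq_or_ne d i with rfl | h
        · simp
        · rw [if_neg h, DirectSum.of_eq_of_ne _ _ _ h]
          rfl
      | add a b ha hb => simp [map_add, ha, hb]
    intro a b hab
    refine DFinsupp.ext fun d => Subtype.ext ?_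
    rw [← key a d, ← key b d, hab]
  · intro a
    induction iSup_symPiece U hU a using AddSubgroup.iSup_induction' with
    | hp i x hx => exact ⟨DirectSum.of _ i ⟨x, hx⟩, DirectSum.coeAddMonoidHom_of _ _ _⟩
    | h1 => exact ⟨0, map_zero _⟩
    | hadd x y _ _ hx hy =>
      obtain ⟨u, rfl⟩ := hx
      obtain ⟨w, rfl⟩ := hy
      exact ⟨u + w, map_add _ _ _⟩

variable (E) in
/-- The symmetric algebra with its grading. -/
def grSym : RelProj.QCGrAlg S where
  toQCAlg := A
  deg U _ d := symPiece E U d
  graded U hU :=
    { one_mem := ⟨1, map_one ((A).str.app (op U)).hom⟩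
      mul_mem := fun _ _ _ _ => mul_mem_symPiece
      toDecomposition := (isInternal_symPiece U hU).chooseDecomposition _ }
  map_mem {_ _} _ _ i {_ _} hx := res_mem_symPiece i hx
  str_mem U _ r := ⟨r, rfl⟩

variable (E) in
theorem exists_isGrSymAlg :
    ∃ (𝒮 : RelProj.QCGrAlg S) (j : E ⟶ 𝒮.toModule), RelProj.IsGrSymAlg E 𝒮 j := by
  refine ⟨grSym _, SymLib.jSym E, SymLib.isSymAlg_symAlg E, fun U hU x => ?_⟩
  have h := symEl_mul_mem (E := E) (U := U) x (one_mem_symPiece U)
  rwa [mul_one] at h

end Groth.Agent.ProjBundleLib
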