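import Groth.Agent.ProjBundleLib.Main
import Groth.Agent.ProjBundleLib.Canonical
import Groth.Agent.ProjBundleLib.GrSym
import Groth.Agent.RelProjLib.Existence
import Groth.Agent.RelTildeLib.UnitModule

/-! Very ampleness relative to a morphism, through generating maps `E → g_* L`. -/

noncomputable section

universe u

open CategoryTheory CategoryTheory.Limits AlgebraicGeometry TopologicalSpace Opposite
open HomogeneousLocalization
open RelProj Groth.Agent.QCoh Groth.Agent.Props.GenLocus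

namespace Groth.Agent.ProjBundleLib

variable {Y X : Scheme.{u}} {g : X ⟶ Y}

/-- `P(E)` with all its structure. -/
structure Bundle (E : Y.Modules) where
  /-- the algebra -/
  alg : QCGrAlg Y
  /-- the degree one map -/
  j : E ⟶ alg.toModule
  hj : IsGrSymAlg E alg j
  /-- the total space -/
  P : Scheme.{u}
  /-- the projection -/
  p : P ⟶ Y
  /-- the charts -/
  chart : ∀ (U : Y.Opens) (hU : IsAffineOpen U), ((p ⁻¹ᵁ U : P.Opens) : Scheme.{u}) ≅ Proj (alg.deg U hU)
  hP : IsRelProj alg p chart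
  /-- the fundamental sheaf -/
  O1 : P.Modules
  /-- its charts -/
  lam : ∀ (U : Y.Opens) (hU : IsAffineOpen U),
    O1 ⟶ (Scheme.Modules.pushforward (emb p chart U hU)).obj (GrTwist.twist (alg.deg U hU) 1)
  hO1 : IsRelTwist alg p chart 1 O1 lam
  /-- the canonical map -/
  φ : E ⟶ (Scheme.Modules.pushforward p).obj O1
  hφ : IsCan j p chart lam φ

lemma exists_bundle (E : Y.Modules) [E.IsQuasicoherent] : Nonempty (Bundle E) := by
  obtain ⟨𝒮, j, hj⟩ := exists_isGrSymAlg E
  obtain ⟨P, p, chart, hP⟩ := RelProjLib.exists_isRelProj 𝒮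
  obtain ⟨O1, lam, hO1⟩ := RelTildeLib.exists_isRelTwist hP 1
  obtain ⟨φ, hφ⟩ := exists_isCan hj hO1 hP
  exact ⟨⟨𝒮, j, hj, P, p, chart, hP, O1, lam, hO1, φ, hφ⟩⟩

/-- The morphism classified by `v` is an immersion, for some bundle. -/
def ClsImm {E : Y.Modules} [E.IsQuasicoherent] {L : X.Modules}
    (v : E ⟶ (Scheme.Modules.pushforward g).obj L) : Prop :=
  ∃ (B : Bundle E) (r : X ⟶ B.P), Cls B.hj (v := v) (chart := B.chart) r ∧ IsImmersion r

/-- Generating maps with immersive classifying morphisms give very ample modules. -/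
theorem isRelVeryAmple_of {E : Y.Modules} [hE : E.IsQuasicoherent] {L : X.Modules}
    {v : E ⟶ (Scheme.Modules.pushforward g).obj L} (hv : Gens v) (h : ClsImm v) : IsRelVeryAmple g L := by
  obtain ⟨B, r, hr, hi⟩ := h
  obtain ⟨τ, -⟩ := exists_compat B.hj B.hP B.hO1 B.hφ hv hr
  exact ⟨E, hE, B.alg, B.j, B.hj, B.P, B.p, B.chart, B.hP, B.O1, B.lam, B.hO1, r, hi,
    Cls.comp_eq B.hj B.hP hv hr, ⟨τ.symm⟩⟩

lemma isInvertible_O1 {E : Y.Modules} [E.IsQuasicoherent] (B : Bundle E) : PicF.IsInvertible B.O1 :=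
  GrModLib.isInvertible_relTwist (SymLib.isGenDegOne B.hj) B.hO1

lemma exists_of_compMap {E : Y.Modules} [E.IsQuasicoherent] {L : X.Modules} (B : Bundle E) (r : X ⟶ B.P)
    (hrg : r ≫ B.p = g) (τ : (Scheme.Modules.pullback r).obj B.O1 ≅ L) :
    ∃ v : E ⟶ (Scheme.Modules.pushforward g).obj L,
      Gens v ∧ Cls B.hj (v := v) (chart := B.chart) r ∧ Compat B.φ v hrg τ.hom := by
  let s := compMap B.φ r hrg τ.hom
  have hβ : Epi (((Scheme.Modules.pullbackPushforwardAdjunction B.p).homEquiv E B.O1).symm B.φ) := by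
    refine epi_of_gens ?_
    rw [adjMap, Equiv.apply_symm_apply]
    exact gens_can B.hj B.hO1 B.hφ
  have : PreservesColimitsOfSize.{u, u} (Scheme.Modules.pullback r) :=
    (Scheme.Modules.pullbackPushforwardAdjunction r).leftAdjoint_preservesColimits
  have : Epi ((Scheme.Modules.pullback r).map
      (((Scheme.Modules.pullbackPushforwardAdjunction B.p).homEquiv E B.O1).symm B.φ)) :=
    (Scheme.Modules.pullback r).map_epi _
  have : Epi s := inferInstanceAs (Epi ((Scheme.Modules.pullbackCongr hrg).inv.app E ≫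
    (Scheme.Modules.pullbackComp r B.p).inv.app E ≫ (Scheme.Modules.pullback r).map
      (((Scheme.Modules.pullbackPushforwardAdjunction B.p).homEquiv E B.O1).symm B.φ) ≫ τ.hom))
  have hc : Compat B.φ (adjMap s) hrg τ.hom := (compMap_eq_iff r hrg τ.hom s).1 rfl
  have hL : PicF.IsInvertible L :=
    PicCl.isInvertible_of_iso τ (PicCl.isInvertible_pullback r (isInvertible_O1 B))
  exact ⟨adjMap s, gens_of_epi hL s, cls_of_compat B.hj B.hP B.hO1 B.hφ hrg τ hc, hc⟩

/-- A very ample module has a generating map with immersive classifying morphism. -/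
theorem exists_of_isRelVeryAmple {L : X.Modules} (h : IsRelVeryAmple g L) :
    ∃ (E : Y.Modules) (_ : E.IsQuasicoherent) (v : E ⟶ (Scheme.Modules.pushforward g).obj L),
      Gens v ∧ ClsImm v := by
  obtain ⟨E, hE, 𝒮, j, hj, P, p, chart, hP, O1, lam, hO1, i, hi, hip, ⟨e⟩⟩ := h
  have : E.IsQuasicoherent := hE
  obtain ⟨φ, hφ⟩ := exists_isCan hj hO1 hP
  obtain ⟨v, hv, hcls, -⟩ := exists_of_compMap ⟨𝒮, j, hj, P, p, chart, hP, O1, lam, hO1, φ, hφ⟩ i hip e.symm
  exact ⟨E, this, v, hv, ⟨𝒮, j, hj, P, p, chart, hP, O1, lam, hO1, φ, hφ⟩, i, hcls, hi⟩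

/-- Over an immersion every generating map has immersive classifying morphism. -/
theorem clsImm_of_isImmersion {E : Y.Modules} [E.IsQuasicoherent] {L : X.Modules} [IsImmersion g]
    {v : E ⟶ (Scheme.Modules.pushforward g).obj L} (hv : Gens v) : ClsImm v := by
  obtain ⟨B⟩ := exists_bundle E
  obtain ⟨r, hr, -⟩ := existsUnique_cls B.hj B.hP hv
  have : IsImmersion (r ≫ B.p) := by rw [Cls.comp_eq B.hj B.hP hv hr]; infer_instance
  exact ⟨B, r, hr, IsImmersion.of_comp r B.p⟩

section refine'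

variable {E E'' : Y.Modules} {L L'' : X.Modules} {v : E ⟶ (Scheme.Modules.pushforward g).obj L}
  {v'' : E'' ⟶ (Scheme.Modules.pushforward g).obj L''}

lemma mem_preimage_Dop_iff [E.IsQuasicoherent] (B : Bundle E) (hv : Gens v) {r : X ⟶ B.P}
    (hr : Cls B.hj (v := v) (chart := B.chart) r) {U : Y.Opens} (hU : IsAffineOpen U) (e : Γ(E, U)) :
    Frame v U e (r ⁻¹ᵁ Dop B.j B.p B.chart U hU e) := by
  have hrg : r ≫ B.p = g := Cls.comp_eq B.hj B.hP hv hr
  have hle : r ⁻¹ᵁ Dop B.j B.p B.chart U hU e ≤ g ⁻¹ᵁ U :=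
    (r.preimage_mono (Dop_le U hU e)).trans (preimage_le hrg U)
  refine ⟨hle, IsGen.of_local fun x hx => ?_⟩
  obtain ⟨e₁, V, hxV, hf⟩ := hv U hU x (hle hx)
  let W : X.Opens := V ⊓ r ⁻¹ᵁ Dop B.j B.p B.chart U hU e
  have hWV : W ≤ V := inf_le_left
  have hWD : W ≤ r ⁻¹ᵁ Dop B.j B.p B.chart U hU e := inf_le_right
  have hfW := hf.restrict hWV
  refine ⟨W, hWD, ⟨hxV, hx⟩, ?_⟩
  rw [res_res]
  have h1 := chartAlg_spec B.hj (hU := hU) hfW e
  have hu : IsUnit (chartAlg B.hj U hU e₁ W hfW (el B.j U e)) := by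
    rw [← chartCo_ratio B.hj hfW, ← rCo_eq_of_cls B.hj hr hfW, rCo, RingHom.comp_apply]
    let z := chartRing B.j B.p B.chart U hU e₁ (ratio B.hj hU e₁ e)
    have hB : X.basicOpen (r.appLE _ W (le_preimage_Dop_of_cls B.hj hr hfW) z) = W := by
      rw [Scheme.basicOpen_appLE, basicOpen_chartRing]
      refine inf_eq_left.2 fun y hy => ⟨le_preimage_Dop_of_cls B.hj hr hfW hy, hWD hy⟩
    have h2 := RingedSpace.isUnit_res_basicOpen X.toRingedSpace (r.appLE _ W (le_preimage_Dop_of_cls B.hj hr hfW) z)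
    have h3 := h2.map (rres hB.ge).hom
    exact (congrArg IsUnit ((rres_rres (X.basicOpen_le _) hB.ge
      (r.appLE _ W (le_preimage_Dop_of_cls B.hj hr hfW) z)).trans (rres_self _ _))).mp h3
  rw [h1]
  exact hfW.gen.smul_unit hu

/-- If `v''` refines `v` locally, the classifying morphism of `v''` is an immersion when that of `v` is. -/
theorem clsImm_of_refine [E.IsQuasicoherent] [E''.IsQuasicoherent] (hv'' : Gens v'') (hv : Gens v)
    (h : ClsImm v)
    (H : ∀ x : X, ∃ (U : Y.Opens) (_ : IsAffineOpen U) (e : Γ(E, U)) (e'' : Γ(E'', U))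
      (m : Γ(E, U) →+ Γ(E'', U)), (∀ (a : Γ(Y, U)) z, m (a • z) = a • m z) ∧ m e = e'' ∧
        (∃ W, x ∈ W ∧ Frame v'' U e'' W) ∧ (∀ W, Frame v'' U e'' W → Frame v U e W) ∧
        ∀ (W : X.Opens) (hW : W ≤ g ⁻¹ᵁ U) (z : Γ(E, U)) (c : Γ(X, W)),
          res L hW (vsec v U z) = c • res L hW (vsec v U e) →
          res L'' hW (vsec v'' U (m z)) = c • res L'' hW (vsec v'' U e'')) :
    ClsImm v'' := by
  obtain ⟨B, r, hr, hi⟩ := h
  obtain ⟨C⟩ := exists_bundle E''
  obtain ⟨r'', hr'', -⟩ := existsUnique_cls C.hj C.hP hv''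
  refine ⟨C, r'', hr'', ?_⟩
  choose U hU e e'' m hm hme hmem hsub hcoef using H
  have : MorphismProperty.RespectsRight @IsImmersion @IsOpenImmersion :=
    ⟨fun i hi g hg => by
      have : IsImmersion g := hg
      have : IsOpenImmersion i := hi
      exact inferInstanceAs (IsImmersion (g ≫ i))⟩
  let V'' : X → C.P.Opens := fun x => Dop C.j C.p C.chart (U x) (hU x) (e'' x)
  refine IsZariskiLocalAtTarget.of_range_subset_iSup (P := @IsImmersion) V'' ?_ fun x => ?_
  · rintro _ ⟨x, rfl⟩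
    obtain ⟨W, hxW, hW⟩ := hmem x
    exact Opens.mem_iSup.mpr ⟨x, le_preimage_Dop_of_cls C.hj hr'' hW hxW⟩
  · let G : X.Opens := r'' ⁻¹ᵁ V'' x
    have hG'' : Frame v'' (U x) (e'' x) G := mem_preimage_Dop_iff C hv'' hr'' (hU x) (e'' x)
    have hG : Frame v (U x) (e x) G := hsub x G hG''
    let f : Γ(E, U x) →+ Away (C.alg.deg (U x) (hU x)) (el C.j (U x) (e'' x)) :=
      AddMonoidHom.mk' (fun z => ratio C.hj (hU x) (e'' x) (m x z)) fun a b => by
        refine val_injective _ ?_
        rw [val_add, ratio, ratio, ratio, Away.val_mk, Away.val_mk, Away.val_mk, Localization.add_mk_self,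
          map_add, el_add]
    obtain ⟨F, hF0, hF1⟩ := exists_lift B.hj
      ((fromZeroRingHom _ _).comp (C.alg.strZero (U x) (hU x)).hom :
        Γ(Y, U x) →+* Away (C.alg.deg (U x) (hU x)) (el C.j (U x) (e'' x))) f (hU x) fun a z => by
        change ratio C.hj (hU x) (e'' x) (m x (a • z)) = _ * ratio C.hj (hU x) (e'' x) (m x z)
        refine val_injective _ ?_
        rw [val_mul, ratio, ratio, Away.val_mk, Away.val_mk, RingHom.comp_apply, hm, el_smul]
        simp only [fromZeroRingHom, RingHom.coe_mk, MonoidHom.coe_mk, OneHom.coe_mk]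
        erw [HomogeneousLocalization.val_mk, Localization.mk_mul]
        exact congrArg _ (Subtype.ext (one_mul _).symm)
    have hFe : F (el B.j (U x) (e x)) = 1 := by
      rw [hF1]
      change ratio C.hj (hU x) (e'' x) (m x (e x)) = 1
      refine val_injective _ ?_
      rw [hme, ratio, Away.val_mk, val_one, ← Localization.mk_one, Localization.mk_eq_mk_iff,
        Localization.r_iff_exists]
      exact ⟨1, by simp⟩
    let A : Away (B.alg.deg (U x) (hU x)) (el B.j (U x) (e x)) →+*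
        Away (C.alg.deg (U x) (hU x)) (el C.j (U x) (e'' x)) :=
      liftAway (B.alg.deg (U x) (hU x)) F (by rw [hFe]; exact isUnit_one)
    let ψ : (V'' x : Scheme.{u}) ⟶ B.P :=
      awayHom (B.alg.deg (U x) (hU x)) (V'' x) (el_mem B.hj (hU x) (e x)) one_pos
        ((chartRing C.j C.p C.chart (U x) (hU x) (e'' x)).comp A) ≫ emb B.p B.chart (U x) (hU x)
    have key : (r''.resLE (V'' x) G le_rfl) ≫ ψ = G.ι ≫ r := by
      rw [ι_comp_eq B.hj (hU x) (e x) (le_preimage_Dop_of_cls B.hj (hU := hU x) hr hG)]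
      simp only [ψ, awayHom, CommRingCat.ofHom_comp, Spec.map_comp, Category.assoc]
      rw [← Scheme.Opens.toSpecΓ_SpecMap_appLE_assoc r'' (V'' x) G le_rfl]
      simp only [← Spec.map_comp_assoc]
      congr 3
      refine CommRingCat.hom_ext (away_ext B.hj (hU x) (e x) (fun a => ?_) fun z => ?_)
      · rw [rCo_eq_of_cls B.hj hr hG]
        simp only [CommRingCat.hom_comp, CommRingCat.hom_ofHom, RingHom.comp_apply]
        rw [chartCo_zero]
        rw [liftAway_fromZero]
        erw [hF0]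
        exact (rCo_zero C.hj C.hP (Cls.comp_eq C.hj C.hP hv'' hr'') (hU x) (e'' x) le_rfl hG.le a)
      · rw [rCo_eq_of_cls B.hj hr hG]
        simp only [CommRingCat.hom_comp, CommRingCat.hom_ofHom, RingHom.comp_apply]
        rw [chartCo_ratio]
        have hA : A (ratio B.hj (hU x) (e x) z) = ratio C.hj (hU x) (e'' x) (m x z) := by
          have h := liftAway_mk (𝒜 := B.alg.deg (U x) (hU x)) F (by rw [hFe]; exact isUnit_one)
            (el_mem B.hj (hU x) (e x)) 1 (el B.j (U x) z)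
            (by rw [smul_eq_mul, one_mul]; exact el_mem B.hj (hU x) z)
          simp only [hFe, one_pow, mul_one] at h
          exact h.trans (hF1 z)
        rw [hA]
        change rCo (r := r'') (hU x) (e'' x) (le_preimage_Dop_of_cls C.hj hr'' hG'') _ = _
        rw [rCo_eq_of_cls C.hj hr'' hG'', chartCo_ratio]
        exact chartAlg_unique C.hj hG'' (hcoef x G hG.le z _ (chartAlg_spec B.hj hG z))
    have h1 : IsImmersion ((r''.resLE (V'' x) G le_rfl) ≫ ψ) := by rw [key]; infer_instance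
    rw [← Scheme.Hom.resLE_eq_morphismRestrict]
    exact IsImmersion.of_comp _ ψ

end refine'

end Groth.Agent.ProjBundleLib
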