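import Groth.Agent.ProjBundleLib.Crit
import Groth.Agent.ProjBundleLib.RelVA
import Groth.Agent.ProjBundleLib.Main
import Groth.Agent.SymLib.Grading
import Groth.Agent.ProjMor.Local
import Groth.Agent.Props.QProj
import Groth.Agent.QCoh.Exact
import Groth.Agent.AmpleLib.Locus

/-!
# Projective bundles of quotients
-/

set_option autoImplicit false
universe u

open CategoryTheory CategoryTheory.Limits AlgebraicGeometry TopologicalSpace Opposite
open RelProj

noncomputable section

namespace Groth.Agent.ProjBundleLib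

variable {Y X : Scheme.{u}} {g : X ⟶ Y} {L : X.Modules}

/-- Composing with a map surjective over affines keeps generation and immersivity. -/
theorem gens_clsImm_comp {E E' : Y.Modules} [E.IsQuasicoherent] [E'.IsQuasicoherent] {a : E ⟶ E'}
    (ha : ∀ U : Y.Opens, IsAffineOpen U → Function.Surjective (a.app U))
    {w : E' ⟶ (Scheme.Modules.pushforward g).obj L} (hw : Gens w) (h : ClsImm w) :
    Gens (a ≫ w) ∧ ClsImm (a ≫ w) := by
  have hv : Gens (a ≫ w) := fun U hU x hx => by
    obtain ⟨e', V, hxV, hf⟩ := hw U hU x hx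
    obtain ⟨e, rfl⟩ := ha U hU e'
    exact ⟨e, V, hxV, hf⟩
  refine ⟨hv, clsImm_of_subImm hv fun x => ?_⟩
  obtain ⟨U, hU, hx⟩ := exists_affine_mem (g := g) x
  obtain ⟨e', V, hxV, hf⟩ := hw U hU x hx
  obtain ⟨e, rfl⟩ := ha U hU e'
  refine ⟨U, hU, e, le_gLoc (v := a ≫ w) (e := e) hf hxV, ?_⟩
  refine (subImm_of_clsImm hw h hU (a.app U e)).mono ?_
  exact coefRing_le gLoc_le (fun r => appLE_mem_coefRing gLoc_le r) fun z c hc => by
    obtain ⟨z, rfl⟩ := ha U hU z
    exact coef_mem_coefRing (z := z) gLoc_le hc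

/-- The canonical map of a bundle classifies the identity. -/
theorem clsImm_can {E : Y.Modules} [E.IsQuasicoherent] (B : Bundle E) : ClsImm B.φ := by
  refine ⟨B, 𝟙 B.P, cls_of_compat B.hj B.hP B.hO1 B.hφ (Category.id_comp B.p)
    ((Scheme.Modules.pullbackId B.P).app B.O1) fun U _ e => ?_, inferInstance⟩
  refine Eq.trans ?_ (QCoh.res_self B.O1 _ _).symm
  have hu := unit_conjugateEquiv Adjunction.id
    (Scheme.Modules.pullbackPushforwardAdjunction (𝟙 B.P)) (Scheme.Modules.pullbackId B.P).hom B.O1
  rw [Scheme.Modules.conjugateEquiv_pullbackId_hom] at hu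
  exact congr(Scheme.Modules.Hom.app $hu.symm (B.p ⁻¹ᵁ U) (vsec B.φ U e))

/-- `P(E)` of a finite locally free module is quasi-compact over a quasi-compact base. -/
theorem isProper_bundle {E : Y.Modules} (hE : FlatMod.IsFinLocFree E) [E.IsQuasicoherent] (B : Bundle E) :
    IsProper B.p := by
  refine ProjMor.isProper_of_isProjective ⟨B.alg, B.P, B.p, B.chart, Iso.refl _, SymLib.isGenDegOne B.hj,
    fun U hU => ?_, B.hP, Category.id_comp _⟩
  classical
  have : Module.FinitePresentation Γ(Y, U) Γ(E, U) := Props.QProj.finitePresentation_sections (M := E) hE hU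
  obtain ⟨T, hT⟩ := (Module.Finite.fg_top : (⊤ : Submodule Γ(Y, U) Γ(E, U)).FG)
  refine ⟨T.image fun e => el B.j U e, ?_, fun x hx => ?_⟩
  · simp only [Finset.coe_image, Set.image_subset_iff]
    exact fun e _ => B.hj.2 U hU e
  · let := (B.alg.str.app (op U)).hom.toAlgebra
    have hx' := (SymLib.mem_deg_iff B.hj hU).1 hx
    rw [SymLib.piece, pow_one] at hx'
    obtain ⟨e, rfl⟩ := hx'
    have he : e ∈ Submodule.span Γ(Y, U) (T : Set Γ(E, U)) := hT ▸ Submodule.mem_top
    clear hx
    have hspan : el B.j U e ∈ Submodule.span Γ(Y, U)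
        ((T.image fun e => el B.j U e : Finset _) : Set (B.alg.presheaf.obj (op U))) := by
      rw [Finset.coe_image]
      induction he using Submodule.span_induction with
      | mem y hy => exact Submodule.subset_span ⟨y, hy, rfl⟩
      | zero => rw [el, map_zero]; exact zero_mem _
      | add y z _ _ hy hz => rw [el, map_add]; exact add_mem hy hz
      | smul r y _ hy =>
        rw [el, B.j.app_smul r y]
        exact Submodule.smul_mem _ r hy
    obtain ⟨f, -, hf⟩ := Submodule.mem_span_finset.1 hspan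
    exact ⟨f, hf.symm.trans (Finset.sum_congr rfl fun t _ => Algebra.smul_def _ _)⟩

end Groth.Agent.ProjBundleLib

end
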