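import Groth.Agent.ProjBundleLib.FTQP
import Groth.Agent.AmpleLib.Counit
import Groth.Agent.AmpleLib.GenOn
import Groth.Agent.ZeroSchemeLib.Basic

/-! Quotients of pullbacks of modules of finite type. -/

noncomputable section

universe u

open CategoryTheory CategoryTheory.Limits AlgebraicGeometry TopologicalSpace Opposite
open Groth.Agent.QCoh Groth.Agent.Props.GenLocus Groth.Agent.Props.SubMod Groth.Agent.Props.SubSheaf
open Groth.Agent.PullStalk.Sky
open Groth.Agent.PullStalk.Exact (stalkLin stalkLin_germ)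

namespace Groth.Agent.ProjBundleLib

variable {Y Z : Scheme.{u}}

/-- Sections generating over an affine open generate the stalks. -/
lemma spanGerm_eq_top {M : Y.Modules} [M.IsQuasicoherent] {V : Y.Opens} (hV : IsAffineOpen V)
    {s : Set Γ(M, V)} (hs : Submodule.span Γ(Y, V) s = ⊤) (y : Y) (hy : y ∈ V) : spanGerm s y hy = ⊤ := by
  refine eq_top_iff.2 fun t _ => ?_
  let := Props.QStalk.moduleSections M hy
  let := Y.presheaf.algebra_section_stalk ⟨y, hy⟩
  have : IsScalarTower Γ(Y, V) (Y.presheaf.stalk y) (M.presheaf.stalk y) :=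
    IsScalarTower.of_algebraMap_smul fun _ _ ↦ rfl
  have hA : IsLocalization.AtPrime (Y.presheaf.stalk y) (hV.primeIdealOf ⟨y, hy⟩).asIdeal :=
    hV.isLocalization_stalk ⟨y, hy⟩
  obtain ⟨⟨m, a⟩, hm⟩ := (Props.QStalk.isLocalizedModule_germLin M hy hV).surj t
  obtain ⟨w, hw⟩ := IsLocalization.map_units (Y.presheaf.stalk y) a
  have h1 : (w : Y.presheaf.stalk y) • t = germM M V y hy m := by rw [hw]; exact hm
  have h2 : t = (↑w⁻¹ : Y.presheaf.stalk y) • germM M V y hy m := by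
    rw [← h1, smul_smul, Units.inv_mul, one_smul]
  rw [h2]
  exact Submodule.smul_mem _ _ (germ_mem_spanGerm_of_mem_span (hs ▸ Submodule.mem_top) y hy)

variable {g : Y ⟶ Z} {M : Y.Modules}

/-- Near each point finitely many sections over an affine of the base generate. -/
lemma exists_finite_gen [QuasiCompact g] [QuasiSeparated g] [M.IsQuasicoherent]
    (hft : SheafOfModules.IsFiniteType.{u} M)
    (hepi : Epi ((Scheme.Modules.pullbackPushforwardAdjunction g).counit.app M)) (y : Y) :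
    ∃ (V : Z.Opens) (_ : IsAffineOpen V) (P : Y.Opens) (hP : P ≤ g ⁻¹ᵁ V) (T : Finset Γ(M, g ⁻¹ᵁ V)),
      y ∈ P ∧ ∀ y' (hy' : y' ∈ P), spanGerm (T : Set Γ(M, g ⁻¹ᵁ V)) y' (hP hy') = ⊤ := by
  classical
  obtain ⟨V, hV, hyV⟩ := exists_affine_mem (g := g) y
  obtain ⟨W, hW, hyW, hWV⟩ := exists_isAffineOpen_mem_and_subset (X := Y) (x := y) (U := g ⁻¹ᵁ V) hyV
  have := hft
  obtain ⟨G, hG⟩ := (finite_sections_of_isFiniteType M hW).fg_top
  have key : ∀ m : Γ(M, W), ∃ (T : Finset Γ(M, g ⁻¹ᵁ V)) (P : Y.Opens) (hPW : P ≤ W) (hPV : P ≤ g ⁻¹ᵁ V),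
      y ∈ P ∧ res M hPW m ∈ Submodule.span Γ(Y, P) ((res M hPV) '' (T : Set Γ(M, g ⁻¹ᵁ V))) := by
    intro m
    obtain ⟨P, hPW, hPV, hyP, hP⟩ := AmpleLib.exists_res_mem_span_on m hyV hyW
      (AmpleLib.spanAt_eq_top_of_epi g ‹_› hepi hV hyV hyW m)
    obtain ⟨T', hT', hT''⟩ := Submodule.mem_span_finite_of_mem_span hP
    have hT1 : ∀ z ∈ T', ∃ σ, res M hPV σ = z := fun z hz => hT' hz
    choose σ hσ using hT1
    refine ⟨T'.attach.image fun z => σ z.1 z.2, P, hPW, hPV, hyP, Submodule.span_mono ?_ hT''⟩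
    intro z hz
    exact ⟨σ z hz, Finset.mem_image.mpr ⟨⟨z, hz⟩, Finset.mem_attach _ _, rfl⟩, hσ z hz⟩
  choose T P hPW hPV hyP hspan using key
  obtain ⟨Q, hyQ, hQ⟩ : ∃ Q : Y.Opens, y ∈ Q ∧ ∀ m ∈ G, Q ≤ P m ⊓ W :=
    ⟨W ⊓ G.inf fun m => P m, ⟨hyW, Finset.inf_induction (p := fun O : Y.Opens => y ∈ O)
      trivial (fun _ ha _ hb => ⟨ha, hb⟩) fun m _ => hyP m⟩,
      fun m hm => le_inf (inf_le_right.trans (Finset.inf_le hm)) inf_le_left⟩
  refine ⟨V, hV, Q ⊓ W, inf_le_right.trans hWV, G.biUnion T, ⟨hyQ, hyW⟩, fun y' hy' => ?_⟩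
  rw [eq_top_iff, ← spanGerm_eq_top hW hG y' hy'.2, spanGerm, Submodule.span_le]
  rintro _ ⟨m, hm, rfl⟩
  have hy'P : y' ∈ P m := (hQ m hm hy'.1).1
  have h1 := germ_mem_spanGerm_of_mem_span (hspan m) y' hy'P
  rw [spanGerm_res (hPV m) _ y' hy'P,
    show germM M (P m) y' hy'P (res M (hPW m) m) = germM M W y' hy'.2 m from
      M.presheaf.germ_res_apply _ y' hy'P m] at h1
  exact Submodule.span_mono (Set.image_mono fun z hz => Finset.mem_biUnion.mpr ⟨m, hm, hz⟩) h1

/-- A module of finite type generated by its direct image is a quotient of a pullback of finite type. -/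
theorem exists_ft_epi [CompactSpace Z] [QuasiSeparatedSpace Z] [QuasiCompact g] [QuasiSeparated g]
    [M.IsQuasicoherent] (hft : SheafOfModules.IsFiniteType.{u} M)
    (hepi : Epi ((Scheme.Modules.pullbackPushforwardAdjunction g).counit.app M)) :
    ∃ (F : Z.Modules) (φ : (Scheme.Modules.pullback g).obj F ⟶ M), Coh.IsQCoh F ∧ CohB1.IsFT F ∧ Epi φ := by
  classical
  choose V hV P hP T hyP hT using exists_finite_gen hft hepi
  have : CompactSpace Y := QuasiCompact.compactSpace_of_compactSpace g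
  obtain ⟨A, hA⟩ := isCompact_univ.elim_finite_subcover (fun y => (P y : Set Y)) (fun y => (P y).2)
    fun y _ => Set.mem_iUnion.mpr ⟨y, hyP y⟩
  have : ((Scheme.Modules.pushforward g).obj M).IsQuasicoherent := QCoh.isQuasicoherent_pushforward g M
  obtain ⟨S, hS, hmem⟩ := exists_sub_through ((Scheme.Modules.pushforward g).obj M) A V hV
    fun y => (T y : Finset Γ((Scheme.Modules.pushforward g).obj M, V y))
  let φ := ((Scheme.Modules.pullbackPushforwardAdjunction g).homEquiv _ _).symm (incl S)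
  refine ⟨sub S, φ, isQuasicoherent_sub hS, isFiniteType_sub hS, Omega.Stalks.epi_of_stalk fun y' t => ?_⟩
  obtain ⟨y, hyA, hy'⟩ := Set.mem_iUnion₂.mp (hA (Set.mem_univ y'))
  suffices h : t ∈ LinearMap.range (stalkLin φ y') by exact h
  have ht : t ∈ spanGerm (T y : Set Γ(M, g ⁻¹ᵁ V y)) y' (hP y hy') := (hT y y' hy').ge Submodule.mem_top
  refine (Submodule.span_le.mpr ?_) ht
  rintro _ ⟨σ, hσ, rfl⟩
  obtain ⟨e', he'⟩ := hmem y hyA σ hσ
  refine ⟨germM _ (g ⁻¹ᵁ V y) y' (hP y hy') (LFFrame.unitSec g (sub S) (V y) e'), ?_⟩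
  rw [stalkLin_germ, adj_unitSec (p := g) (incl S) (V y) e']
  exact congrArg (germM M (g ⁻¹ᵁ V y) y' (hP y hy')) he'

/-- Over a qc base, large twists by a relatively ample module are generated by their direct images. -/
theorem eventually_epi_counit [CompactSpace Z] [QuasiCompact g] [QuasiSeparated g] {L : Y.Modules}
    (hL : PicF.IsInvertible L) (hA : RelAmple.IsRelAmple g L) {F : Y.Modules} (hF : Coh.IsQCoh F)
    (hFT : SheafOfModules.IsFiniteType.{u} F) :
    ∃ n₀ : ℕ, ∀ n, n₀ ≤ n →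
      Epi ((Scheme.Modules.pullbackPushforwardAdjunction g).counit.app
        (CohB1.tensorMod F (CohB1.tensorPow L n))) := by
  classical
  choose V hV hx using fun z : Z => (show ∃ V : Z.Opens, IsAffineOpen V ∧ z ∈ V from by
    obtain ⟨V, hV, hx, -⟩ := exists_isAffineOpen_mem_and_subset (X := Z) (x := z) (U := ⊤) trivial
    exact ⟨V, hV, hx⟩)
  choose N hN using fun z : Z => AmpleLib.eventually_spanAt hL ((AmpleLib.isRelAmple_iff.mp hA).2.2 ⟨V z, hV z⟩)
    (g.isQuasiSeparated_preimage (hV z).isQuasiSeparated) hF hFT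
  obtain ⟨A, hA'⟩ := isCompact_univ.elim_finite_subcover (fun z => (V z : Set Z)) (fun z => (V z).2)
    fun z _ => Set.mem_iUnion.mpr ⟨z, hx z⟩
  refine ⟨A.sup N, fun n hn => AmpleLib.epi_counit_of_spanAt g fun y => ?_⟩
  obtain ⟨z, hz, hyz⟩ := Set.mem_iUnion₂.mp (hA' (Set.mem_univ (g y)))
  exact ⟨V z, hyz, fun W hW m => hN z n ((Finset.le_sup hz).trans hn) y hyz W hW m⟩

end Groth.Agent.ProjBundleLib
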