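import Groth.Agent.ProjBundleLib.PnGood
import Groth.Agent.ProjBundleLib.AmpleVA
import Groth.Agent.AmpleLib.GlobGen
import Groth.Agent.S12474

/-! Immersions into projective space from ample and very ample modules. -/

noncomputable section

universe u

open CategoryTheory CategoryTheory.Limits AlgebraicGeometry TopologicalSpace Opposite
open Groth.Agent.QCoh Groth.Agent.Props.GenLocus

namespace Groth.Agent.ProjBundleLib

open Props.GenTensor (tmul pw res_tmul tmul_smul_left tmul_smul_right res_pw)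

variable {X Y : Scheme.{u}}

/-- A piece of the criterion, with the affine piece given by an equation. -/
def PieceAt (q : X ⟶ Y) {L : X.Modules} {κ : Type*} (s : κ → Γ(L, ⊤)) (x : X) : Prop :=
  ∃ (k : κ) (V : Y.Opens) (_ : IsAffineOpen V)
    (c : Γ(X, AmpleLib.locus (s k) ⊓ q ⁻¹ᵁ V)), x ∈ X.basicOpen c ∧
    ∀ T : Subring Γ(X, AmpleLib.locus (s k) ⊓ q ⁻¹ᵁ V), (∀ a, q.appLE V _ inf_le_right a ∈ T) →
      (∀ l (b : Γ(X, AmpleLib.locus (s k) ⊓ q ⁻¹ᵁ V)),
        res L (le_top : AmpleLib.locus (s k) ⊓ q ⁻¹ᵁ V ≤ ⊤) (s l) =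
          b • res L (le_top : AmpleLib.locus (s k) ⊓ q ⁻¹ᵁ V ≤ ⊤) (s k) → b ∈ T) →
      c ∈ T ∧ Good T c

lemma pieceAt_of_eq {q : X ⟶ Y} {L : X.Modules} {κ : Type*} {s : κ → Γ(L, ⊤)} {x : X} (k : κ) {V : Y.Opens}
    (hV : IsAffineOpen V) {G : X.Opens} (hG : AmpleLib.locus (s k) ⊓ q ⁻¹ᵁ V = G) (hGV : G ≤ q ⁻¹ᵁ V)
    (c : Γ(X, G)) (hx : x ∈ X.basicOpen c)
    (h : ∀ T : Subring Γ(X, G), (∀ a, q.appLE V G hGV a ∈ T) →
      (∀ l (b : Γ(X, G)), res L (le_top : G ≤ ⊤) (s l) = b • res L (le_top : G ≤ ⊤) (s k) → b ∈ T) →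
      c ∈ T ∧ Good T c) : PieceAt q s x := by
  subst hG
  exact ⟨k, V, hV, c, hx, h⟩

lemma PieceAt.map {q : X ⟶ Y} {L : X.Modules} {κ κ' : Type*} {s : κ → Γ(L, ⊤)} {s' : κ' → Γ(L, ⊤)} {x : X}
    (h : PieceAt q s x) (f : κ → κ') (hf : ∀ k, s' (f k) = s k) : PieceAt q s' x := by
  obtain ⟨k, V, hV, c, hx, hT⟩ := h
  refine pieceAt_of_eq (f k) hV (G := AmpleLib.locus (s k) ⊓ q ⁻¹ᵁ V) (by rw [hf]) inf_le_right c hx
    fun T h0 h1 => hT T h0 fun l b hb => h1 (f l) b ?_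
  rw [hf, hf]; exact hb

/-- Good pieces make `L` very ample for projective space. -/
theorem isRelVeryAmplePn_of_pieceAt (q : X ⟶ Y) {L : X.Modules} (hL : PicF.IsInvertible L) {κ : Type*} [Finite κ]
    (s : κ → Γ(L, ⊤)) (H : ∀ x, PieceAt q s x) : RelAmple.IsRelVeryAmplePn q L :=
  isRelVeryAmplePn_of_good q hL s H

/-- An ample module: high powers embed in projective space over any base. -/
theorem eventually_veryAmplePn_of_isAmple (f : X ⟶ Y) [LocallyOfFiniteType f] {L : X.Modules}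
    (hA : CohB1.IsAmple L) :
    ∃ d₀ : ℕ, 0 < d₀ ∧ ∀ d, d₀ ≤ d → RelAmple.IsRelVeryAmplePn f (CohB1.tensorPow L d) := by
  classical
  have hL := hA.1
  have : CompactSpace X := hA.2.1
  have : X.IsSeparated := Props.GenSep.isSeparated hL hA.2.2
  have hqs : IsQuasiSeparated ((⊤ : X.Opens) : Set X) := isQuasiSeparated_univ
  have hO1 := ProjTwist.isQuasicoherent_structureModule X
  have key : ∀ x : X, ∃ (W : X.Opens) (N : ℕ), x ∈ W ∧ ∀ d, N ≤ d →
      ∃ (n : ℕ) (s : Fin n → Γ(CohB1.tensorPow L d, ⊤)), ∀ x' ∈ W, PieceAt f s x' := by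
    intro x
    obtain ⟨V, hV, hxV⟩ := exists_affine_mem (g := f) x
    obtain ⟨W₀, eW, hxW₀, heW⟩ := exists_isGen hL x
    obtain ⟨W, hW, hxW, hWle⟩ := exists_isAffineOpen_mem_and_subset (X := X) (x := x) (U := W₀ ⊓ f ⁻¹ᵁ V) ⟨hxW₀, hxV⟩
    obtain ⟨U, ⟨m, s, rfl⟩, hxU, hUW⟩ := Opens.isBasis_iff_nbhd.mp (Props.GenExt.isBasis_of_isAmple hA) hxW
    rw [AmpleLib.genLocus_eq_locus] at hxU hUW
    let σ : Γ(CohB1.tensorPow L (m + 1), ⊤) := sec s ⊤
    let U := AmpleLib.locus σ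
    have hU : IsAffineOpen U := AmpleLib.isAffineOpen_locus_of_le hL σ hW le_top hUW
    have hUW₀ : U ≤ W₀ := fun y hy => (hWle (hUW hy)).1
    have hUV : U ≤ f ⁻¹ᵁ V := fun y hy => (hWle (hUW hy)).2
    have he : IsGen L U (res L hUW₀ eW) := heW.restrict _
    have hft := f.finiteType_appLE hV hU hUV
    let := (f.appLE V U hUV).hom.toAlgebra
    obtain ⟨t, ht⟩ := (hft : Algebra.FiniteType Γ(Y, V) Γ(X, U)).out
    let b : Option (Fin t.card) → Γ(X, U) := fun j => j.elim 1 fun i => (t.equivFin.symm i).1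
    choose N₀ hN₀ using fun p : Fin (m + 1) × Option (Fin t.card) =>
      AmpleLib.exists_twist_on hO1 hL (O := ⊤) isCompact_univ hqs σ rfl le_top he
        (id (b p.2) : Γ(Coh.structureModule X, U)) p.1
    let m₀ := Finset.univ.sup N₀
    refine ⟨U, m + 1 + (m + 1) * m₀, hxU, fun d hd => ?_⟩
    obtain ⟨l, M, hl, hm, rfl⟩ : ∃ l M, l < m + 1 ∧ m₀ ≤ M ∧ d = l + (m + 1) * M + (m + 1) := by
      refine ⟨(d - (m + 1)) % (m + 1), (d - (m + 1)) / (m + 1), Nat.mod_lt _ m.succ_pos,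
        (Nat.le_div_iff_mul_le (show 0 < m + 1 by omega)).mpr ?_, ?_⟩
      · rw [Nat.mul_comm]; omega
      · rw [Nat.mod_add_div]; omega
    have hN' : ∀ j : Option (Fin t.card),
        ∃ ρ : Γ(CohB1.tensorMod (CohB1.tensorPow L 0) (CohB1.tensorPow L (l + (m + 1) * M)), ⊤),
          res _ (le_top : U ≤ ⊤) ρ =
            tmul (Props.GenProd.co (m + 1) σ (le_top : U ≤ ⊤) he ^ M • (id (b j) : Γ(CohB1.tensorPow L 0, U)))
              (pw L (res L hUW₀ eW) (l + (m + 1) * M)) := fun j =>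
      hN₀ (⟨l, hl⟩, j) M ((Finset.le_sup (Finset.mem_univ _)).trans hm)
    choose ρ hρ using hN'
    obtain ⟨φ⟩ := AmpleLib.exists_iso_tensor_pow_add (AmpleLib.isInvertible_tensorPow hL 0) hL (l + (m + 1) * M) (m + 1)
    let ψ := φ ≪≫ ProjTwist.oneTens (CohB1.tensorPow L (l + (m + 1) * M + (m + 1)))
    let S : Option (Fin t.card) → Γ(CohB1.tensorPow L (l + (m + 1) * M + (m + 1)), ⊤) :=
      fun j => ψ.hom.app ⊤ (tmul (ρ j) σ)
    let E : Option (Fin t.card) ≃ Fin (t.card + 1) := (finSuccEquiv t.card).symm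
    refine ⟨t.card + 1, fun i => S (E.symm i), fun x' hx' => ?_⟩
    refine PieceAt.map (s := S) ?_ E fun k => by simp
    have hu : IsUnit (Props.GenProd.co (m + 1) σ (le_top : U ≤ ⊤) he ^ M) :=
      (isUnit_co σ rfl le_top he).pow M
    have hgen1 : IsGen (CohB1.tensorPow L 0) U (id (1 : Γ(X, U)) : Γ(CohB1.tensorPow L 0, U)) :=
      Props.GenTensor.isGen_one U
    have hP : PicF.IsInvertible (CohB1.tensorMod (CohB1.tensorPow L 0) (CohB1.tensorPow L (l + (m + 1) * M))) :=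
      AmpleLib.isInvertible_tensorMod (AmpleLib.isInvertible_tensorPow hL 0) (AmpleLib.isInvertible_tensorPow hL _)
    have hgenρ : IsGen _ U (res _ (le_top : U ≤ ⊤) (ρ none)) := by
      rw [hρ none, tmul_smul_left]
      exact (Props.GenTensor.isGen_tmul hgen1 (Props.GenTensor.isGen_pw he _)).smul_unit hu
    have hloc : AmpleLib.locus (S none) = U := by
      have h1 : U ≤ AmpleLib.locus (ρ none) := AmpleLib.le_locus le_top hgenρ
      change AmpleLib.locus (ψ.hom.app ⊤ (tmul (ρ none) σ)) = U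
      rw [AmpleLib.locus_app_iso, AmpleLib.locus_tmul hP (AmpleLib.isInvertible_tensorPow hL _)]
      exact inf_eq_right.mpr h1
    refine pieceAt_of_eq none hV (G := U) (by rw [hloc]; exact inf_eq_left.mpr hUV) hUV (1 : Γ(X, U))
      (by rw [X.basicOpen_of_isUnit isUnit_one]; exact hx') fun T h0 h1 => ⟨one_mem T, ?_⟩
    have hT : T = ⊤ := by
      refine eq_top_iff.2 fun z _ => ?_
      have hz : z ∈ Algebra.adjoin Γ(Y, V) (t : Set Γ(X, U)) := ht.ge trivial
      induction hz using Algebra.adjoin_induction with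
      | mem a ha =>
        refine h1 (some (t.equivFin ⟨a, ha⟩)) a ?_
        have hS : ∀ j, res _ (le_top : U ≤ ⊤) (S j) =
            ψ.hom.app U (tmul (res _ (le_top : U ≤ ⊤) (ρ j)) (res _ (le_top : U ≤ ⊤) σ)) := fun j => by
          change res _ _ (ψ.hom.app ⊤ (tmul (ρ j) σ)) = _
          rw [← app_res, res_tmul]
        rw [hS, hS]
        refine Eq.trans ?_ (ψ.hom.app_smul a _)
        refine congrArg _ ?_
        rw [← tmul_smul_left]
        refine congrArg (fun q => tmul q _) ?_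
        rw [hρ, hρ]
        refine (coef_eq_smul _ _ _).trans ?_
        simp [b]
        rfl
      | algebraMap r => exact h0 r
      | add a b _ _ ha hb => exact add_mem (ha trivial) (hb trivial)
      | mul a b _ _ ha hb => exact mul_mem (ha trivial) (hb trivial)
    refine ⟨by rw [X.basicOpen_of_isUnit isUnit_one]; exact hU, fun a => ?_⟩
    have hle : U ≤ X.basicOpen (1 : Γ(X, U)) := (X.basicOpen_of_isUnit isUnit_one).ge
    refine ⟨0, rres hle a, hT ▸ Subring.mem_top _, ?_⟩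
    rw [pow_zero, mul_one, rres_rres, rres_self]
  choose W N hxW hN using key
  obtain ⟨A, hA'⟩ := isCompact_univ.elim_finite_subcover (fun x => (W x : Set X)) (fun x => (W x).2)
    fun x _ => Set.mem_iUnion.mpr ⟨x, hxW x⟩
  refine ⟨A.sup N + 1, Nat.succ_pos _, fun d hd => ?_⟩
  choose n s hs using fun y : A => hN y.1 d (by have := Finset.le_sup (f := N) y.2; omega)
  refine isRelVeryAmplePn_of_pieceAt f (AmpleLib.isInvertible_tensorPow hL d)
    (κ := Σ y : A, Fin (n y)) (fun p => s p.1 p.2) fun x => ?_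
  obtain ⟨y, hy, hxy⟩ := Set.mem_iUnion₂.mp (hA' (Set.mem_univ x))
  exact (hs ⟨y, hy⟩ x hxy).map (fun i => ⟨⟨y, hy⟩, i⟩) fun _ => rfl

/-- Over an affine base a very ample module is very ample for projective space. -/
theorem isRelVeryAmplePn_of_isRelVeryAmple [IsAffine Y] (q : X ⟶ Y) [LocallyOfFiniteType q] [QuasiCompact q]
    {L : X.Modules} (hL : PicF.IsInvertible L) (h : RelProj.IsRelVeryAmple q L) :
    RelAmple.IsRelVeryAmplePn q L := by
  classical
  obtain ⟨F, hF, v, hv, hi⟩ := exists_of_isRelVeryAmple h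
  choose e c Zs hxc hS using fun x : X =>
    exists_finite_piece hv hi (isAffineOpen_top Y) (x := x) trivial
  have : CompactSpace X := QuasiCompact.compactSpace_of_compactSpace q
  obtain ⟨A, hA⟩ := isCompact_univ.elim_finite_subcover (fun x => (X.basicOpen (c x) : Set X))
    (fun x => (X.basicOpen (c x)).2) fun x _ => Set.mem_iUnion.mpr ⟨x, hxc x⟩
  refine isRelVeryAmplePn_of_pieceAt q hL
    (κ := Σ y : A, ↥(insert (e y.1) (Zs y.1))) (fun p => (vsec v ⊤ p.2.1 : Γ(L, q ⁻¹ᵁ ⊤))) fun x' => ?_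
  obtain ⟨x, hx, hx'⟩ := Set.mem_iUnion₂.mp (hA (Set.mem_univ x'))
  let G := gLoc v ⊤ (e x)
  refine pieceAt_of_eq ⟨⟨x, hx⟩, e x, Finset.mem_insert_self _ _⟩ (isAffineOpen_top Y) (G := G)
    ((inf_eq_left.mpr le_top).trans (locus_eq_gLoc ⊤ (e x))) gLoc_le (c x) hx' fun T h0 h1 => ?_
  exact hS x T h0 fun z hz cz hcz => h1 ⟨⟨x, hx⟩, z, Finset.mem_insert_of_mem hz⟩ cz hcz

end Groth.Agent.ProjBundleLib
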