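import Groth.Agent.ProjBundleLib.PnAmple
import Groth.Agent.S12478
import Groth.Agent.ProjMor.QProj

/-! Quasi-projective morphisms over a base with an ample module. -/

noncomputable section

universe u

open CategoryTheory CategoryTheory.Limits AlgebraicGeometry TopologicalSpace Opposite

namespace Groth.Agent.ProjBundleLib

variable {X Y : Scheme.{u}}

/-- Quasi-projective over a base with an ample module: immersion into projective space. -/
theorem exists_immersion_pn [CompactSpace Y] [QuasiSeparatedSpace Y] {M : Y.Modules} (hM : CohB1.IsAmple M)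
    {f : X ⟶ Y} (hf : RelProj.IsQuasiProjective f) :
    ∃ (r : ℕ) (i : X ⟶ CohB1.ProjSpaceOver r Y), IsImmersion i ∧ i ≫ CohB1.ProjSpaceOver.toBase r Y = f := by
  obtain ⟨hlft, hqc, L, hA⟩ := hf
  obtain ⟨-, hL, hLV⟩ := AmpleLib.isRelAmple_iff.mp hA
  obtain ⟨n₀, -, hn⟩ := S12478.result f L hL hA
  have : IsSeparated f := isSeparated_of_isRelVeryAmple (hn n₀ le_rfl)
  obtain ⟨N, hN⟩ := AmpleLib.eventually_ampleOn_comp f hL hM.1 hLV ((AmpleLib.ampleOn_top_iff hM.1).2 hM)
    isQuasiSeparated_univ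
  have hA' : CohB1.IsAmple (CohB1.tensorMod L (CohB1.tensorPow ((Scheme.Modules.pullback f).obj M) N)) :=
    (AmpleLib.ampleOn_top_iff (AmpleLib.isInvertible_tensorMod hL
      (AmpleLib.isInvertible_tensorPow (PicCl.isInvertible_pullback f hM.1) N))).1 (hN N le_rfl)
  obtain ⟨d₀, -, hd⟩ := eventually_veryAmplePn_of_isAmple f hA'
  obtain ⟨r, i, hi, hif, -⟩ := hd d₀ le_rfl
  exact ⟨r, i, hi, hif⟩

end Groth.Agent.ProjBundleLib
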