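import Groth.Agent.ProjBundleLib.CompVA
import Groth.Agent.ProjMorph.VeryAmple
import Groth.Agent.ProjMor.HProj

/-! Immersions into projective space by sections with good ratios. -/

noncomputable section

universe u

open CategoryTheory CategoryTheory.Limits AlgebraicGeometry TopologicalSpace Opposite
open Groth.Agent.QCoh Groth.Agent.Props.GenLocus

namespace Groth.Agent.ProjBundleLib

set_option backward.isDefEq.respectTransparency.types false

variable {X Y : Scheme.{u}}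

/-- An immersion criterion by good functions on affine pieces of the target. -/
theorem isImmersion_of_good (i : X ⟶ Y)
    (H : ∀ x : X, ∃ (D : Y.Opens) (_ : IsAffineOpen D) (w : Γ(Y, D)),
      x ∈ X.basicOpen (i.app D w) ∧ Good (i.app D).hom.range (i.app D w)) : IsImmersion i := by
  choose D hD w hx hgood using H
  refine ProjMorph.isImmersion_of_affine_pieces i (fun x => Y.basicOpen (w x)) (fun x => (hD x).basicOpen _)
    (fun x => ?_) (fun x _ => Opens.mem_iSup.mpr ⟨x, ?_⟩) fun x a => ?_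
  · rw [Scheme.preimage_basicOpen]; exact (hgood x).affine
  · rw [Scheme.preimage_basicOpen]; exact hx x
  · have hle : X.basicOpen (i.app (D x) (w x)) ≤ i ⁻¹ᵁ Y.basicOpen (w x) := (Scheme.preimage_basicOpen i _).ge
    have hge : i ⁻¹ᵁ Y.basicOpen (w x) ≤ X.basicOpen (i.app (D x) (w x)) := (Scheme.preimage_basicOpen i _).le
    obtain ⟨m, _, ⟨z, rfl⟩, e⟩ := (hgood x).frac (rres hle a)
    obtain ⟨u, hu'⟩ : IsUnit (rres (Y.basicOpen_le (w x)) (w x)) :=
      RingedSpace.isUnit_res_basicOpen Y.toRingedSpace (w x)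
    let v : Γ(Y, Y.basicOpen (w x)) := ↑u⁻¹
    have huv : rres (Y.basicOpen_le (w x)) (w x) * v = 1 := by rw [← hu']; exact u.mul_inv
    refine ⟨rres (Y.basicOpen_le (w x)) z * v ^ m, ?_⟩
    have hA : ∀ y, rres hle (i.app _ (rres (Y.basicOpen_le (w x)) y)) =
        rres (X.basicOpen_le _) (i.app (D x) y) := fun y => by
      rw [Props.GenPull.app_rres, rres_rres]
    have h0 : rres hle (i.app _ (rres (Y.basicOpen_le (w x)) z * v ^ m)) = rres hle a := by
      rw [map_mul, map_mul, hA, ← e, ← hA, ← map_pow, ← map_pow, mul_assoc, ← map_mul, ← map_mul, ← map_mul,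
        ← mul_pow, huv]
      simp
    have h1 := congrArg (rres hge) h0
    rwa [rres_rres, rres_rres, rres_self, rres_self] at h1

/-- Sections with good ratios give an immersion into projective space, over any base. -/
theorem isRelVeryAmplePn_of_good (q : X ⟶ Y) {L : X.Modules} (hL : PicF.IsInvertible L) {κ : Type*} [Finite κ]
    (s : κ → Γ(L, ⊤))
    (H : ∀ x : X, ∃ (k : κ) (V : Y.Opens) (_ : IsAffineOpen V)
      (c : Γ(X, AmpleLib.locus (s k) ⊓ q ⁻¹ᵁ V)), x ∈ X.basicOpen c ∧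
      ∀ T : Subring Γ(X, AmpleLib.locus (s k) ⊓ q ⁻¹ᵁ V), (∀ a, q.appLE V _ inf_le_right a ∈ T) →
        (∀ l (b : Γ(X, AmpleLib.locus (s k) ⊓ q ⁻¹ᵁ V)),
          res L (le_top : AmpleLib.locus (s k) ⊓ q ⁻¹ᵁ V ≤ ⊤) (s l) =
            b • res L (le_top : AmpleLib.locus (s k) ⊓ q ⁻¹ᵁ V ≤ ⊤) (s k) → b ∈ T) →
        c ∈ T ∧ Good T c) :
    RelAmple.IsRelVeryAmplePn q L := by
  classical
  let := Fintype.ofFinite κ
  let n := Fintype.card κ
  let e : Option κ ≃ Fin (n + 1) := Fintype.equivFinOfCardEq (by simp [n])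
  let t : Fin (n + 1) → ProjUP.Γm L := fun j => (e.symm j).elim (0 : Γ(L, ⊤)) s
  have hts : ∀ k, t (e (some k)) = s k := fun k => by simp [t]
  have hsgen : ProjUP.GeneratedBy L t := by
    intro x
    obtain ⟨k, V, -, c, hxc, -⟩ := H x
    have hxi : x ∈ AmpleLib.locus (s k) := (X.basicOpen_le c hxc).1
    have hbij := ((isGen_iff_isFrame _).mp (AmpleLib.isGen_locus (s k))).stalkComb_bijective x hxi
    refine top_le_iff.mp fun z _ => ?_
    obtain ⟨a, ha⟩ := hbij.2 z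
    rw [← ha]
    simp only [LFFrame.stalkComb, Fintype.linearCombination_apply, Fin.sum_univ_one]
    refine Submodule.smul_mem _ _ (Submodule.subset_span ⟨e (some k), ?_⟩)
    show L.presheaf.germ ⊤ x (Opens.mem_top x) (t (e (some k))) = _
    rw [hts]
    exact (L.presheaf.germ_res_apply _ x hxi (s k)).symm
  obtain ⟨i, hiq, hpre, hcoef, ⟨τ⟩⟩ := ProjMorph.exists_toProjSpaceOver q hL t hsgen
  refine ⟨n, i, ?_, hiq, ⟨τ⟩⟩
  let p₁ : CohB1.ProjSpaceOver n Y ⟶ CohB1.ProjSpace n (ULift.{u} ℤ) :=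
    pullback.fst (CohB1.ProjSpace.toSpec n (ULift.{u} ℤ)) (specULiftZIsTerminal.from Y)
  let p₂ := CohB1.ProjSpaceOver.toBase n Y
  refine isImmersion_of_good i fun x => ?_
  obtain ⟨k, V, hV, c, hxc, hT⟩ := H x
  let D₀ := Proj.basicOpen (CohB1.polyGrading n (ULift.{u} ℤ)) (MvPolynomial.X (e (some k)))
  have hDaff : IsAffineOpen (p₁ ⁻¹ᵁ D₀ ⊓ p₂ ⁻¹ᵁ V) := by
    let W := p₂ ⁻¹ᵁ V
    have : IsAffine (V : Scheme.{u}) := hV
    have haff : IsAffineHom (V.ι ≫ specULiftZIsTerminal.from Y) := isAffineHom_of_isAffine _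
    have h1 := (isPullback_morphismRestrict p₂ V).flip.paste_horiz (ProjMor.isPullback_fstP n (S := Y))
    have hp : IsAffineHom (W.ι ≫ p₁) := MorphismProperty.of_isPullback h1.flip haff
    have h2 : IsAffineOpen ((W.ι ≫ p₁) ⁻¹ᵁ D₀) := hp.isAffine_preimage _
      (Proj.isAffineOpen_basicOpen _ _ (MvPolynomial.isHomogeneous_X (ULift.{u} ℤ) (e (some k))) one_pos)
    have h3 := h2.image_of_isOpenImmersion W.ι
    rw [Scheme.Hom.comp_preimage, Scheme.Hom.image_preimage_eq_opensRange_inf, Scheme.Opens.opensRange_ι,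
      inf_comm] at h3
    exact h3
  let D := p₁ ⁻¹ᵁ D₀ ⊓ p₂ ⁻¹ᵁ V
  have hG : AmpleLib.locus (s k) ⊓ q ⁻¹ᵁ V = i ⁻¹ᵁ D := by
    have h1 : i ⁻¹ᵁ (p₁ ⁻¹ᵁ D₀) = AmpleLib.locus (s k) :=
      (hpre (e (some k))).trans (congrArg AmpleLib.locus (hts k))
    rw [← h1, ← hiq]
    rfl
  have key : ∀ (G : X.Opens), G = i ⁻¹ᵁ D → ∀ (hGV : G ≤ q ⁻¹ᵁ V) (c : Γ(X, G)), x ∈ X.basicOpen c →
      (∀ T : Subring Γ(X, G), (∀ a, q.appLE V G hGV a ∈ T) →
        (∀ l (b : Γ(X, G)), res L (le_top : G ≤ ⊤) (s l) = b • res L (le_top : G ≤ ⊤) (s k) → b ∈ T) →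
        c ∈ T ∧ Good T c) →
      ∃ (w : Γ(CohB1.ProjSpaceOver n Y, D)), x ∈ X.basicOpen (i.app D w) ∧ Good (i.app D).hom.range (i.app D w) := by
    rintro G rfl hGV c hxc hT
    suffices hh : c ∈ (i.app D).hom.range ∧ Good (i.app D).hom.range c by
      obtain ⟨⟨w, rfl⟩, hgood⟩ := hh
      exact ⟨w, hxc, hgood⟩
    refine hT (i.app D).hom.range (fun a => ?_) fun l b hb => ?_
    · subst hiq
      refine ⟨p₂.appLE V D inf_le_right a, Eq.trans ?_ (congr($(Scheme.Hom.appLE_comp_appLE i p₂ V D (i ⁻¹ᵁ D) inf_le_right le_rfl) a))⟩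
      exact ConcreteCategory.congr_hom i.app_eq_appLE _
    · let ρ := ProjMorph.ratio (𝒜 := CohB1.polyGrading n (ULift.{u} ℤ)) (MvPolynomial.isHomogeneous_X (ULift.{u} ℤ) (e (some k)))
        (MvPolynomial.isHomogeneous_X (ULift.{u} ℤ) (e (some l)))
      refine ⟨p₁.appLE D₀ D inf_le_left ρ, ?_⟩
      have hle : i ⁻¹ᵁ D ≤ (i ≫ p₁) ⁻¹ᵁ D₀ := i.preimage_mono inf_le_left
      have h := congrArg (res L hle) (hcoef (e (some k)) (e (some l)))
      rw [res_res, res_smul, res_res, hts, hts, hb] at h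
      have hgen : IsGen L (i ⁻¹ᵁ D) (res L (le_top : i ⁻¹ᵁ D ≤ ⊤) (s k)) := by
        have h1 : i ⁻¹ᵁ D ≤ AmpleLib.locus (s k) := hG.ge.trans inf_le_left
        have h2 := (AmpleLib.isGen_locus (s k)).restrict h1
        rwa [res_res] at h2
      have hb' : b = (i ≫ p₁).appLE D₀ (i ⁻¹ᵁ D) hle ρ :=
        hgen.injective le_rfl (by simp only [res_self]; exact h)
      refine Eq.trans ?_ hb'.symm
      refine Eq.trans ?_ (congr($(Scheme.Hom.appLE_comp_appLE i p₁ D₀ D (i ⁻¹ᵁ D) inf_le_left le_rfl) ρ))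
      exact ConcreteCategory.congr_hom i.app_eq_appLE _
  obtain ⟨w, h1, h2⟩ := key _ hG inf_le_right c hxc hT
  exact ⟨D, hDaff, w, h1, h2⟩

end Groth.Agent.ProjBundleLib
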