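import Groth.Agent.ProjBundleLib.FTSub
import Groth.Agent.ProjBundleLib.Pair
import Groth.Agent.LimTop.TensorQC

/-! Products of projective morphisms. -/

noncomputable section

universe u

open CategoryTheory CategoryTheory.Limits AlgebraicGeometry TopologicalSpace Opposite
open RelProj

namespace Groth.Agent.ProjBundleLib

variable {X X' Y Y' Q S : Scheme.{u}}

/-- The fibre product of two projective schemes is projective. -/
theorem isProjective_fibreProduct {f : X ⟶ Q} {g : X' ⟶ Q} (hf : RelProj.IsProjective f)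
    (hg : RelProj.IsProjective g) : RelProj.IsProjective (pullback.fst f g ≫ f) := by
  have := ProjMor.isProper_of_isProjective hf
  have := ProjMor.isProper_of_isProjective hg
  obtain ⟨E, hE, B, i, hft, hi, hip⟩ := exists_of_isProjective hf
  obtain ⟨E', hE', B', i', hft', hi', hip'⟩ := exists_of_isProjective hg
  have hr₁ : (pullback.fst f g ≫ i) ≫ B.p = pullback.fst f g ≫ f := by rw [Category.assoc, hip]
  have hr₂ : (pullback.snd f g ≫ i') ≫ B'.p = pullback.fst f g ≫ f := by
    rw [Category.assoc, hip', pullback.condition]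
  obtain ⟨v, hv, hr, -⟩ := exists_of_compMap B (pullback.fst f g ≫ i) hr₁ (Iso.refl _)
  obtain ⟨v', hv', hr', -⟩ := exists_of_compMap B' (pullback.snd f g ≫ i') hr₂ (Iso.refl _)
  let π : pullback f g ⟶ pullback B.p B'.p := pullback.map f g B.p B'.p i i' (𝟙 Q)
    (by rw [Category.comp_id, hip]) (by rw [Category.comp_id, hip'])
  have : IsClosedImmersion π := MorphismProperty.pullback_map (P := @IsClosedImmersion) hi hi'
    hip.symm hip'.symm
  have : E.IsFiniteType := hft
  have : E'.IsFiniteType := hft'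
  have : (CohB1.tensorMod E E').IsQuasicoherent := LimTop.TensorQC.isQuasicoherent_tensM E E'
  have hL := PicCl.isInvertible_pullback (pullback.fst f g ≫ i) (isInvertible_O1 B)
  have hL' := PicCl.isInvertible_pullback (pullback.snd f g ≫ i') (isInvertible_O1 B')
  obtain ⟨C, r, hrC, hri⟩ := clsImm_tensV_pair hL hL' hv hv' B B' hr hr' π
    (pullback.lift_fst _ _ _) (pullback.lift_snd _ _ _)
  have : (KFlat.StalkTensor.tensM E E').IsQuasicoherent := LimTop.TensorQC.isQuasicoherent_tensM E E'
  exact isProjective_of_immersion (LimTop.TensorQC.isFT_tensM (F := E) (G := E')) C r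
    (Cls.comp_eq C.hj C.hP (gens_tensV hv hv') hrC)

/-- The product of two projective morphisms over a base is projective. -/
theorem isProjective_map (a : Y ⟶ S) (a' : Y' ⟶ S) {f : X ⟶ Y} {f' : X' ⟶ Y'}
    (hf : RelProj.IsProjective f) (hf' : RelProj.IsProjective f') :
    RelProj.IsProjective (pullback.map (f ≫ a) (f' ≫ a') a a' f f' (𝟙 S)
      (Category.comp_id (f ≫ a)) (Category.comp_id (f' ≫ a'))) := by
  let q₁ := pullback.fst a a'
  let q₂ := pullback.snd a a'
  let f₁ := pullback.snd f q₁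
  let f₂ := pullback.snd f' q₂
  have h1 : RelProj.IsProjective f₁ := isProjective_baseChange hf (IsPullback.of_hasPullback _ _)
  have h2 : RelProj.IsProjective f₂ := isProjective_baseChange hf' (IsPullback.of_hasPullback _ _)
  let h := pullback.map (f ≫ a) (f' ≫ a') a a' f f' (𝟙 S)
    (Category.comp_id (f ≫ a)) (Category.comp_id (f' ≫ a'))
  have hh1 : h ≫ q₁ = pullback.fst _ _ ≫ f := pullback.lift_fst _ _ _
  have hh2 : h ≫ q₂ = pullback.snd _ _ ≫ f' := pullback.lift_snd _ _ _
  let l₁ : pullback (f ≫ a) (f' ≫ a') ⟶ pullback f q₁ := pullback.lift (pullback.fst _ _) h hh1.symm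
  let l₂ : pullback (f ≫ a) (f' ≫ a') ⟶ pullback f' q₂ := pullback.lift (pullback.snd _ _) h hh2.symm
  let fwd : pullback (f ≫ a) (f' ≫ a') ⟶ pullback f₁ f₂ :=
    pullback.lift l₁ l₂ (by simp only [l₁, l₂, f₁, f₂, pullback.lift_snd])
  have c1 : pullback.fst f q₁ ≫ f = f₁ ≫ q₁ := pullback.condition
  have c2 : pullback.fst f' q₂ ≫ f' = f₂ ≫ q₂ := pullback.condition
  have c0 : q₁ ≫ a = q₂ ≫ a' := pullback.condition
  have c3 : pullback.fst f₁ f₂ ≫ f₁ = pullback.snd f₁ f₂ ≫ f₂ := pullback.condition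
  have hw : (pullback.fst f₁ f₂ ≫ pullback.fst f q₁) ≫ f ≫ a =
      (pullback.snd f₁ f₂ ≫ pullback.fst f' q₂) ≫ f' ≫ a' := by
    rw [Category.assoc, Category.assoc, reassoc_of% c1, reassoc_of% c2, c0, reassoc_of% c3]
  let bwd : pullback f₁ f₂ ⟶ pullback (f ≫ a) (f' ≫ a') :=
    pullback.lift (pullback.fst _ _ ≫ pullback.fst _ _) (pullback.snd _ _ ≫ pullback.fst _ _) hw
  have b1 : bwd ≫ pullback.fst (f ≫ a) (f' ≫ a') = pullback.fst f₁ f₂ ≫ pullback.fst f q₁ :=
    pullback.lift_fst _ _ _
  have b2 : bwd ≫ pullback.snd (f ≫ a) (f' ≫ a') = pullback.snd f₁ f₂ ≫ pullback.fst f' q₂ :=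
    pullback.lift_snd _ _ _
  have hb : bwd ≫ h = pullback.fst f₁ f₂ ≫ f₁ := by
    apply pullback.hom_ext
    · rw [Category.assoc, Category.assoc, show h ≫ pullback.fst a a' = _ from hh1, reassoc_of% b1, c1]
    · rw [Category.assoc, Category.assoc, show h ≫ pullback.snd a a' = _ from hh2, reassoc_of% b2, c2,
        reassoc_of% c3]
  have w1 : fwd ≫ pullback.fst f₁ f₂ = l₁ := pullback.lift_fst _ _ _
  have w2 : fwd ≫ pullback.snd f₁ f₂ = l₂ := pullback.lift_snd _ _ _
  have l1a : l₁ ≫ pullback.fst f q₁ = pullback.fst _ _ := pullback.lift_fst _ _ _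
  have l1b : l₁ ≫ f₁ = h := pullback.lift_snd _ _ _
  have l2a : l₂ ≫ pullback.fst f' q₂ = pullback.snd _ _ := pullback.lift_fst _ _ _
  have l2b : l₂ ≫ f₂ = h := pullback.lift_snd _ _ _
  let e : pullback (f ≫ a) (f' ≫ a') ≅ pullback f₁ f₂ :=
    { hom := fwd
      inv := bwd
      hom_inv_id := by
        apply pullback.hom_ext
        · rw [Category.assoc, b1, reassoc_of% w1, l1a, Category.id_comp]
        · rw [Category.assoc, b2, reassoc_of% w2, l2a, Category.id_comp]
      inv_hom_id := by
        apply pullback.hom_ext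
        · rw [Category.assoc, w1, Category.id_comp]
          apply pullback.hom_ext
          · rw [Category.assoc, l1a, b1]
          · rw [Category.assoc, l1b, hb]
        · rw [Category.assoc, w2, Category.id_comp]
          apply pullback.hom_ext
          · rw [Category.assoc, l2a, b2]
          · rw [Category.assoc, l2b, hb, c3] }
  have : IsIso e.hom := ⟨e.inv, e.hom_inv_id, e.inv_hom_id⟩
  have : IsClosedImmersion e.hom := inferInstance
  have h3 := isProjective_comp_of_closed (isProjective_fibreProduct h1 h2) e.hom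
  have e1 : e.hom ≫ pullback.fst f₁ f₂ ≫ f₁ = h := by
    change fwd ≫ _ = h
    rw [reassoc_of% w1, l1b]
  change RelProj.IsProjective h
  rw [← e1]
  exact h3

end Groth.Agent.ProjBundleLib
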