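import Groth.Agent.ProjBundleLib.Classify
import Groth.Agent.Props.GenPull
import Groth.Agent.AmpleLib.GenIso
import Groth.Agent.ProjMorph.Glue

/-! The classified morphism and the inverse image of `O(1)`. -/

noncomputable section

universe u

open CategoryTheory CategoryTheory.Limits AlgebraicGeometry TopologicalSpace Opposite
open HomogeneousLocalization
open RelProj Groth.Agent.QCoh Groth.Agent.Props.GenLocus

namespace Groth.Agent.ProjBundleLib

variable {Y P X : Scheme.{u}} {E : Y.Modules} {𝒮 : QCGrAlg Y} {j : E ⟶ 𝒮.toModule} {p : P ⟶ Y}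
  {chart : ∀ (U : Y.Opens) (hU : IsAffineOpen U), ((p ⁻¹ᵁ U : P.Opens) : Scheme.{u}) ≅ Proj (𝒮.deg U hU)}
  {O1 : P.Modules}
  {lam : ∀ (U : Y.Opens) (hU : IsAffineOpen U),
    O1 ⟶ (Scheme.Modules.pushforward (emb p chart U hU)).obj (GrTwist.twist (𝒮.deg U hU) 1)}
  (φ : E ⟶ (Scheme.Modules.pushforward p).obj O1)
  {g : X ⟶ Y} {L : X.Modules} (v : E ⟶ (Scheme.Modules.pushforward g).obj L)
  {r : X ⟶ P}

lemma preimage_le (hrg : r ≫ p = g) (U : Y.Opens) : r ⁻¹ᵁ (p ⁻¹ᵁ U) ≤ g ⁻¹ᵁ U := by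
  subst hrg
  exact le_rfl

lemma le_preimage (hrg : r ≫ p = g) (U : Y.Opens) : g ⁻¹ᵁ U ≤ r ⁻¹ᵁ (p ⁻¹ᵁ U) := by
  subst hrg
  exact le_rfl

variable (r) in
/-- The inverse image of the section given by `e`. -/
def uSec (U : Y.Opens) (e : Γ(E, U)) : Γ((Scheme.Modules.pullback r).obj O1, r ⁻¹ᵁ (p ⁻¹ᵁ U)) :=
  LFFrame.unitSec r O1 (p ⁻¹ᵁ U) (te φ U e)

lemma uSec_res {U V : Y.Opens} (h : V ≤ U) (e : Γ(E, U)) :
    uSec φ r V (res E h e) = res _ (r.preimage_mono (p.preimage_mono h)) (uSec φ r U e) := by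
  rw [uSec, te_res]
  exact LFFrame.unitSec_res r O1 (p.preimage_mono h) _

/-- `τ` carries the canonical sections to the sections of `L`. -/
def Compat (hrg : r ≫ p = g) (τ : (Scheme.Modules.pullback r).obj O1 ⟶ L) : Prop :=
  ∀ (U : Y.Opens), IsAffineOpen U → ∀ e : Γ(E, U),
    τ.app _ (uSec φ r U e) = res L (preimage_le hrg U) (vsec v U e)

lemma isGen_app {M N : X.Modules} (τ : M ≅ N) {W : X.Opens} {e : Γ(M, W)} (he : IsGen M W e) :
    IsGen N W (τ.hom.app W e) := fun V h => by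
  have e1 : sm (τ.hom.app W e) h = (τ.hom.app V : _ → _) ∘ sm e h := funext fun a => by
    change a • res N h (τ.hom.app W e) = τ.hom.app V (a • res M h e)
    rw [Scheme.Modules.Hom.app_smul, app_res]
  rw [e1]
  exact (ConcreteCategory.bijective_of_isIso (τ.hom.app V)).comp (he V h)

variable {φ v} [E.IsQuasicoherent] (hj : IsGrSymAlg E 𝒮 j)
include hj

lemma isGen_uSec (hO1 : IsRelTwist 𝒮 p chart 1 O1 lam) (hφ : IsCan j p chart lam φ) {U : Y.Opens}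
    (hU : IsAffineOpen U) (e₀ : Γ(E, U)) :
    IsGen _ (r ⁻¹ᵁ Dop j p chart U hU e₀)
      (res _ (r.preimage_mono (Dop_le (j := j) (chart := chart) U hU e₀)) (uSec φ r U e₀)) := by
  rw [uSec, ← LFFrame.unitSec_res r O1 (Dop_le (j := j) (chart := chart) U hU e₀)]
  exact Props.GenPull.isGen_pb r (isGen_te hj hO1 hφ U hU e₀)

lemma uSec_eq_smul (hO1 : IsRelTwist 𝒮 p chart 1 O1 lam) (hφ : IsCan j p chart lam φ) {U : Y.Opens}
    (hU : IsAffineOpen U) (e₀ e : Γ(E, U)) {V : X.Opens} (hV : V ≤ r ⁻¹ᵁ Dop j p chart U hU e₀) :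
    res _ (hV.trans (r.preimage_mono (Dop_le U hU e₀))) (uSec φ r U e) =
      r.appLE (Dop j p chart U hU e₀) V hV (chartRing j p chart U hU e₀ (ratio hj hU e₀ e)) •
        res _ (hV.trans (r.preimage_mono (Dop_le U hU e₀))) (uSec φ r U e₀) := by
  have h := congrArg (LFFrame.unitSec r O1 _) (te_eq_smul hj hO1 hφ U hU e₀ e)
  rw [LFFrame.unitSec_smul, LFFrame.unitSec_res, LFFrame.unitSec_res] at h
  have h2 := congrArg (res _ hV) h
  rw [res_smul, res_res, res_res] at h2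
  exact h2

/-- The comorphism of `r` on a chart. -/
def rCo {U : Y.Opens} (hU : IsAffineOpen U) (e₀ : Γ(E, U)) {V : X.Opens}
    (hV : V ≤ r ⁻¹ᵁ Dop j p chart U hU e₀) : Away (𝒮.deg U hU) (el j U e₀) →+* Γ(X, V) :=
  (r.appLE _ V hV).hom.comp (chartRing j p chart U hU e₀)

lemma rCo_zero (hP : IsRelProj 𝒮 p chart) (hrg : r ≫ p = g) {U : Y.Opens} (hU : IsAffineOpen U)
    (e₀ : Γ(E, U)) {V : X.Opens} (hV : V ≤ r ⁻¹ᵁ Dop j p chart U hU e₀) (hVg : V ≤ g ⁻¹ᵁ U) (a : Γ(Y, U)) :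
    rCo hU e₀ hV (fromZeroRingHom _ _ ((𝒮.strZero U hU).hom a)) = g.appLE U V hVg a := by
  subst hrg
  rw [rCo, RingHom.comp_apply, chartRing_str hj hP]
  exact ConcreteCategory.congr_hom
    (Scheme.Hom.appLE_comp_appLE r p U _ V (Dop_le (j := j) (chart := chart) U hU e₀) hV) a

omit hj in
lemma embcomp {U : Y.Opens} (hU : IsAffineOpen U) (e₀ : Γ(E, U)) (he : el j U e₀ ∈ 𝒮.deg U hU 1) :
    (Dop j p chart U hU e₀).toSpecΓ ≫ Spec.map (CommRingCat.ofHom (chartRing j p chart U hU e₀)) ≫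
      Proj.awayι (𝒮.deg U hU) (el j U e₀) he one_pos ≫ emb p chart U hU = (Dop j p chart U hU e₀).ι := by
  let D := Proj.basicOpen (𝒮.deg U hU) (el j U e₀)
  let f := emb p chart U hU
  have hle : D ≤ f ⁻¹ᵁ (f ''ᵁ D) := (Scheme.Hom.preimage_image_eq _ _).ge
  have : IsIso (f.resLE (f ''ᵁ D) D hle) := by
    have : f.resLE (f ''ᵁ D) D hle = (f.isoImage D).hom := by
      rw [← cancel_mono (f ''ᵁ D).ι, Scheme.Hom.resLE_comp_ι, Scheme.Hom.isoImage_hom_ι]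
    rw [this]
    infer_instance
  change (f ''ᵁ D).toSpecΓ ≫ Spec.map (CommRingCat.ofHom (chartRing j p chart U hU e₀)) ≫
      Proj.awayι (𝒮.deg U hU) (el j U e₀) he one_pos ≫ emb p chart U hU = (f ''ᵁ D).ι
  rw [← cancel_epi (f.resLE (f ''ᵁ D) D hle)]
  refine Eq.trans ?_ (Scheme.Hom.resLE_comp_ι f hle).symm
  change f.resLE (f ''ᵁ D) D hle ≫ (f ''ᵁ D).toSpecΓ ≫ _ = _
  rw [← Scheme.Opens.toSpecΓ_SpecMap_appLE_assoc f (f ''ᵁ D) D hle]
  have e2 : CommRingCat.ofHom (chartRing j p chart U hU e₀) ≫ f.appLE (f ''ᵁ D) D hle =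
      Proj.awayToSection (𝒮.deg U hU) (el j U e₀) := by
    change (Proj.awayToSection _ _ ≫ (f.appIso D).inv) ≫ _ = _
    rw [Category.assoc, Scheme.Hom.appIso_inv_appLE]
    simp
    rfl
  rw [← Spec.map_comp_assoc]
  refine Eq.trans (congrArg (fun z => D.toSpecΓ ≫ Spec.map z ≫ Proj.awayι (𝒮.deg U hU) (el j U e₀) he one_pos ≫ emb p chart U hU) e2) ?_
  have e3 : D.toSpecΓ ≫ Spec.map (Proj.awayToSection (𝒮.deg U hU) (el j U e₀)) ≫
      Proj.awayι (𝒮.deg U hU) (el j U e₀) he one_pos = D.ι := by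
    have h := ι_comp_eq_awayHom_id (𝒜 := 𝒮.deg U hU) (hg := he) (hk := one_pos)
    simp only [awayHom, CommRingCat.ofHom_hom] at h
    exact h.symm
  change _ = D.ι ≫ f
  rw [← e3]
  simp only [Category.assoc, f]

/-- On the preimage of a chart `r` is given by its comorphism. -/
lemma ι_comp_eq {U : Y.Opens} (hU : IsAffineOpen U)
    (e₀ : Γ(E, U)) {V : X.Opens} (hV : V ≤ r ⁻¹ᵁ Dop j p chart U hU e₀) :
    V.ι ≫ r = awayHom (𝒮.deg U hU) V (el_mem hj hU e₀) one_pos (rCo hU e₀ hV) ≫ emb p chart U hU := by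
  rw [awayHom, rCo, CommRingCat.ofHom_comp, Spec.map_comp, CommRingCat.ofHom_hom]
  simp only [Category.assoc]
  rw [Scheme.Opens.toSpecΓ_SpecMap_appLE_assoc, embcomp hU e₀ (el_mem hj hU e₀), Scheme.Hom.resLE_comp_ι]

lemma le_preimage_Dop_of_cls {U : Y.Opens} {hU : IsAffineOpen U} {e₀ : Γ(E, U)} {V : X.Opens}
    (hr : Cls hj (v := v) (chart := chart) r) (hf : Frame v U e₀ V) :
    V ≤ r ⁻¹ᵁ Dop j p chart U hU e₀ := by
  intro x hx
  have h : r x = chartMor p chart hj U hU e₀ V hf ⟨x, hx⟩ := by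
    rw [← hr U hU e₀ V hf]
    rfl
  show r x ∈ Dop j p chart U hU e₀
  rw [h, chartMor, awayHom]
  simp only [Category.assoc, Scheme.Hom.comp_apply]
  refine ⟨_, ?_, rfl⟩
  rw [← Proj.opensRange_awayι (𝒮.deg U hU) (el j U e₀) (el_mem hj hU e₀) one_pos]
  exact ⟨_, rfl⟩

lemma rCo_eq_of_cls {U : Y.Opens} {hU : IsAffineOpen U} {e₀ : Γ(E, U)} {V : X.Opens}
    (hr : Cls hj (v := v) (chart := chart) r) (hf : Frame v U e₀ V) :
    rCo hU e₀ (le_preimage_Dop_of_cls hj (hU := hU) hr hf) = chartCo hj U hU e₀ V hf := by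
  have h := (ι_comp_eq hj hU e₀ (le_preimage_Dop_of_cls hj (hU := hU) hr hf)).symm.trans (hr U hU e₀ V hf)
  rw [chartMor, cancel_mono] at h
  simp only [awayHom, ← Category.assoc, cancel_mono] at h
  exact congrArg CommRingCat.Hom.hom (ProjMorph.toSpecΓ_SpecMap_injective h)

/-- A compatible isomorphism forces `r` to be the classified morphism. -/
theorem cls_of_compat (hP : IsRelProj 𝒮 p chart) (hO1 : IsRelTwist 𝒮 p chart 1 O1 lam)
    (hφ : IsCan j p chart lam φ) (hrg : r ≫ p = g) (τ : (Scheme.Modules.pullback r).obj O1 ≅ L)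
    (hτ : Compat φ v hrg τ.hom) : Cls hj (v := v) (chart := chart) r := by
  intro U hU e₀ V hf
  have hVp : V ≤ r ⁻¹ᵁ (p ⁻¹ᵁ U) := hf.le.trans (le_preimage hrg U)
  have hval : ∀ {W : X.Opens} (hW : W ≤ r ⁻¹ᵁ (p ⁻¹ᵁ U)) (e : Γ(E, U)),
      τ.hom.app W (res _ hW (uSec φ r U e)) = res L (hW.trans (preimage_le hrg U)) (vsec v U e) := by
    intro W hW e
    rw [app_res, hτ U hU e, res_res]
  have hV : V ≤ r ⁻¹ᵁ Dop j p chart U hU e₀ := by
    intro x hx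
    obtain ⟨e₁, he₁⟩ := exists_mem_Dop (chart := chart) hj U hU (hVp hx)
    let W : X.Opens := V ⊓ r ⁻¹ᵁ Dop j p chart U hU e₁
    have hxW : x ∈ W := ⟨hx, he₁⟩
    let c := chartRing j p chart U hU e₁ (ratio hj hU e₁ e₀)
    have hW1 : W ≤ r ⁻¹ᵁ Dop j p chart U hU e₁ := inf_le_right
    have hg1 := isGen_app τ ((isGen_uSec (r := r) hj hO1 hφ hU e₁).restrict hW1)
    rw [res_res, hval] at hg1
    have hg0 := (hf.gen).restrict (inf_le_left : W ≤ V)
    rw [res_res] at hg0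
    obtain ⟨u, hu, he⟩ := Props.GenProd.exists_unit_smul hg1 hg0
    have h1 := congrArg (τ.hom.app W) (uSec_eq_smul hj hO1 hφ hU e₁ e₀ hW1)
    rw [Scheme.Modules.Hom.app_smul, hval, hval] at h1
    have hueq : r.appLE _ W hW1 c = u := hg1.injective le_rfl (by
      simp only [res_self]
      exact h1.symm.trans he)
    have hxu : x ∈ X.basicOpen (r.appLE _ W hW1 c) := by
      rw [hueq, X.basicOpen_of_isUnit hu]
      exact hxW
    rw [Scheme.basicOpen_appLE] at hxu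
    have h2 : r x ∈ P.basicOpen c := hxu.2
    rw [basicOpen_chartRing] at h2
    exact h2.2
  rw [ι_comp_eq hj hU e₀ hV, chartMor]
  congr 2
  refine away_ext hj hU e₀ (fun a => ?_) fun e => ?_
  · exact (rCo_zero hj hP hrg hU e₀ hV hf.le a).trans (chartCo_zero hj hf a).symm
  · refine Eq.trans ?_ (chartCo_ratio hj hf e).symm
    refine (chartAlg_unique hj hf ?_).symm
    have h1 := congrArg (τ.hom.app V) (uSec_eq_smul hj hO1 hφ hU e₀ e hV)
    rw [Scheme.Modules.Hom.app_smul, hval, hval] at h1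
    exact h1

/-- The classified morphism pulls `O(1)` back to `L`. -/
theorem exists_compat (hP : IsRelProj 𝒮 p chart) (hO1 : IsRelTwist 𝒮 p chart 1 O1 lam)
    (hφ : IsCan j p chart lam φ) (hv : Gens v) (hr : Cls hj (v := v) (chart := chart) r) :
    ∃ τ : (Scheme.Modules.pullback r).obj O1 ≅ L, Compat φ v (Cls.comp_eq hj hP hv hr) τ.hom := by
  have hrg : r ≫ p = g := Cls.comp_eq hj hP hv hr
  let ι := Σ' (U : Y.Opens) (_ : IsAffineOpen U) (e₀ : Γ(E, U)) (V : X.Opens), Frame v U e₀ V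
  let W : ι → X.Opens := fun i => i.2.2.2.1
  have hWp : ∀ i : ι, W i ≤ r ⁻¹ᵁ (p ⁻¹ᵁ i.1) := fun i => i.2.2.2.2.le.trans (le_preimage hrg _)
  let gM : ∀ i : ι, Γ((Scheme.Modules.pullback r).obj O1, W i) := fun i =>
    res _ (hWp i) (uSec φ r i.1 i.2.2.1)
  have key : ∀ {U : Y.Opens} (hU : IsAffineOpen U) {e₀ : Γ(E, U)} {V : X.Opens} (hf : Frame v U e₀ V)
      (e : Γ(E, U)) (hVp : V ≤ r ⁻¹ᵁ (p ⁻¹ᵁ U)),
      res _ hVp (uSec φ r U e) = chartAlg hj U hU e₀ V hf (el j U e) • res _ hVp (uSec φ r U e₀) := by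
    intro U hU e₀ V hf e hVp
    rw [← chartCo_ratio hj hf, ← rCo_eq_of_cls hj hr hf]
    exact uSec_eq_smul hj hO1 hφ hU e₀ e (le_preimage_Dop_of_cls hj hr hf)
  have hgM : ∀ i : ι, IsGen _ (W i) (gM i) := fun ⟨U, hU, e₀, V, hf⟩ => by
    have h := (isGen_uSec (r := r) hj hO1 hφ hU e₀).restrict (le_preimage_Dop_of_cls hj hr hf)
    rwa [res_res] at h
  obtain ⟨τ, hτ⟩ := AmpleLib.exists_iso_of_gen W
    (fun x _ => by
      obtain ⟨U, hU, e₀, V, hxV, hf⟩ := exists_frame_mem hv x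
      exact Opens.mem_iSup.mpr ⟨⟨U, hU, e₀, V, hf⟩, hxV⟩)
    gM hgM
    (fun i => res L i.2.2.2.2.le (vsec v i.1 i.2.2.1)) (fun i => i.2.2.2.2.gen)
    (by
      rintro ⟨U, hU, e₀, V, hf⟩ ⟨U', hU', e₁, V', hf'⟩ O hi hk u hu
      refine eq_of_locally_eq L (U := fun D : {D : Y.affineOpens // D.1 ≤ U ⊓ U'} => O ⊓ g ⁻¹ᵁ D.1.1) (V := O)
        (fun D => inf_le_left) (fun x hx => ?_) _ _ fun ⟨⟨D, hD⟩, hDle⟩ => ?_
      · obtain ⟨D, hD, hxD, hDle⟩ := exists_isAffineOpen_mem_and_subset (X := Y) (x := g x) (U := U ⊓ U')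
          ⟨hf.le (hi hx), hf'.le (hk hx)⟩
        exact Opens.mem_iSup.mpr ⟨⟨⟨D, hD⟩, hDle⟩, hx, hxD⟩
      · let O' : X.Opens := O ⊓ g ⁻¹ᵁ D
        have hO : O' ≤ O := inf_le_left
        have hOD : O' ≤ g ⁻¹ᵁ D := inf_le_right
        have hDU : D ≤ U := fun y hy => (hDle hy).1
        have hDU' : D ≤ U' := fun y hy => (hDle hy).2
        have hOp : O' ≤ r ⁻¹ᵁ (p ⁻¹ᵁ D) := hOD.trans (le_preimage hrg D)
        have hfD := ((hf.restrict hi).restrict hO).shrink hDU hOD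
        have hk1 := key hD hfD (res E hDU' e₁) hOp
        simp only [uSec_res φ hDU', uSec_res φ hDU, res_res] at hk1
        have hu' := congrArg (res _ hO) hu
        simp only [gM, res_smul, res_res] at hu'
        have hg0 := ((hgM ⟨U, hU, e₀, V, hf⟩).restrict hi).restrict hO
        simp only [gM, res_res] at hg0
        have hueq : rres hO u = chartAlg hj D hD (res E hDU e₀) O' hfD (el j D (res E hDU' e₁)) :=
          hg0.injective le_rfl (by
            simp only [res_self]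
            exact hu'.symm.trans hk1)
        have hv1 := chartAlg_spec hj (hU := hD) hfD (res E hDU' e₁)
        simp only [vsec_res, res_res] at hv1
        simp only [res_smul, res_res]
        rw [hueq]
        exact hv1)
  refine ⟨τ, fun U hU e => ?_⟩
  refine eq_of_locally_eq L (U := fun i : {i : ι // i.1 = U} => r ⁻¹ᵁ (p ⁻¹ᵁ U) ⊓ W i.1)
    (V := r ⁻¹ᵁ (p ⁻¹ᵁ U)) (fun i => inf_le_left) (fun x hx => ?_) _ _ fun ⟨⟨U', hU', e₀, V, hf⟩, hi⟩ => ?_
  · obtain ⟨e₀, V, hxV, hf⟩ := hv U hU x (preimage_le hrg U hx)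
    exact Opens.mem_iSup.mpr ⟨⟨⟨U, hU, e₀, V, hf⟩, rfl⟩, hx, hxV⟩
  · cases hi
    let V' : X.Opens := r ⁻¹ᵁ (p ⁻¹ᵁ U') ⊓ V
    have hVV : V' ≤ V := inf_le_right
    have hV1 : V' ≤ r ⁻¹ᵁ (p ⁻¹ᵁ U') := inf_le_left
    rw [← app_res, res_res]
    have h1 := key hU (hf.restrict hVV) e hV1
    have h2 := hτ ⟨U', hU', e₀, V, hf⟩ V' hVV (chartAlg hj U' hU e₀ V' (hf.restrict hVV) (el j U' e))
    simp only [gM, res_res] at h2
    rw [h1, h2]
    exact (chartAlg_spec hj (hf.restrict hVV) e).symm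

end Groth.Agent.ProjBundleLib
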