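import Groth.Agent.ProjBundleLib.RestrictAmple
import Groth.Agent.ProjBundleLib.BundleImm
import Groth.Agent.RelProjLib.AmpleImm
import Groth.Agent.RelTildeLib.TwistPull
import Groth.Agent.RelTildeLib.TwistGen
import Groth.Agent.DimOneAmple.AmpleOfGG
import Groth.Agent.AmpleLib.GlobGen
import Groth.Agent.ZeroSchemeLib.Basic
import Groth.Agent.ProjTwist.Tensor
import Groth.Agent.CycLib.ProjBdl.Chart

/-! Inverse image of `O(n)` along `r_{L,σ}` for a relatively ample `L`. -/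

noncomputable section

universe u

open CategoryTheory CategoryTheory.Limits AlgebraicGeometry TopologicalSpace Opposite
open RelProj Groth.Agent.QCoh Groth.Agent.Props.GenLocus Groth.Agent.RelTildeLib
open Groth.Agent.RelProjLib.AmpleImm Groth.Agent.Props.GenProd Groth.Agent.Props.GenTensor

namespace Groth.Agent.ProjBundleLib.PullPow

variable {X Y : Scheme.{u}} {q : X ⟶ Y} {𝒮 : QCGrAlg Y} {𝒮L : QCGrAlg X}
  {L : X.Modules} [L.IsQuasicoherent] {jL : L ⟶ 𝒮L.toModule} (hjL : IsGrSymAlg L 𝒮L jL)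

include hjL in
/-- A generator of the degree-`d` part has a unit coefficient. -/
lemma exists_unit_coeff {V : X.Opens} (hV : IsAffineOpen V) {ε : Γ(L, V)} (he : IsGen L V ε) {d : ℕ}
    {s : 𝒮L.presheaf.obj (op V)} (hs : s ∈ 𝒮L.deg V hV d)
    (hspan : gen ε jL le_rfl ^ d ∈ Ideal.span {s}) :
    ∃ α : Γ(X, V), IsUnit α ∧ s = (𝒮L.str.app (op V)).hom α * gen ε jL le_rfl ^ d := by
  obtain ⟨c, hc, -⟩ := existsUnique_gen hjL he hV le_rfl hs
  obtain ⟨a, ha⟩ := Ideal.mem_span_singleton'.1 hspan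
  have hg : gen ε jL le_rfl ^ d ∈ 𝒮L.deg V hV d := by simpa using str_mul_gen_mem hjL ε hV le_rfl 1 d
  have h0 : (DirectSum.decompose (𝒮L.deg V hV) a 0 : _).1 * s = gen ε jL le_rfl ^ d := by
    have := congrArg (fun b => ((DirectSum.decompose (𝒮L.deg V hV) b d : _).1 : 𝒮L.presheaf.obj (op V))) ha
    simp only at this
    rw [DirectSum.coe_decompose_mul_of_right_mem_of_le _ hs le_rfl, Nat.sub_self] at this
    exact this.trans (DirectSum.decompose_of_mem_same _ hg)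
  obtain ⟨r, hr, -⟩ := existsUnique_gen hjL he hV le_rfl (SetLike.coe_mem (DirectSum.decompose (𝒮L.deg V hV) a 0))
  rw [pow_zero, mul_one] at hr
  rw [hr, hc, ← mul_assoc, ← map_mul] at h0
  obtain ⟨_, -, huniq⟩ := existsUnique_gen hjL he hV le_rfl hg
  have h1 : r * c = 1 := (huniq _ h0.symm).trans (huniq 1 (by simp)).symm
  exact ⟨c, IsUnit.of_mul_eq_one r ((mul_comm c r).trans h1), hc⟩

variable (u : QGrHom q 𝒮 𝒮L)

include hjL in
/-- Near every point two consecutive degrees have generators. -/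
lemma exists_pair [QuasiCompact q] (hu : ∀ (U : Y.Opens), IsAffineOpen U → Function.Bijective (u.app U).hom)
    (h : RelAmple.IsRelAmple q L) (hL : PicF.IsInvertible L) (x : X) :
    ∃ (U : Y.Opens) (hU : IsAffineOpen U) (V : X.Opens) (hV : IsAffineOpen V) (hVU : V ≤ q ⁻¹ᵁ U) (ε : Γ(L, V))
      (_ : IsGen L V ε) (K : ℕ) (a b : 𝒮.presheaf.obj (op U)) (α γ : Γ(X, V)),
      x ∈ V ∧ a ∈ 𝒮.deg U hU K ∧ b ∈ 𝒮.deg U hU (K + 1) ∧ IsUnit α ∧ IsUnit γ ∧
      (u.appLE U V hVU).hom a = (𝒮L.str.app (op V)).hom α * gen ε jL le_rfl ^ K ∧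
      (u.appLE U V hVU).hom b = (𝒮L.str.app (op V)).hom (γ * α) * gen ε jL le_rfl ^ (K + 1) := by
  obtain ⟨U₀, hU₀, hxU₀, -⟩ := exists_isAffineOpen_mem_and_subset (X := Y) (x := q x) (U := ⊤) trivial
  have hamp : CohB1.IsAmple (L.restrict (q ⁻¹ᵁ U₀).ι) := h.2 ⟨U₀, hU₀⟩
  have : IsAffine U₀.toScheme := hU₀
  haveI : (L.restrict (q ⁻¹ᵁ U₀).ι).IsQuasicoherent := ProjTwist.isQCoh_of_isInvertible hamp.1
  have hbij : Function.Bijective ((Restr.qHom U₀ u).app ⊤).hom :=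
    Restr.bijective_appLE_of_eq u (image_morphismRestrict_preimage q U₀ ⊤)
      (hu _ ((isAffineOpen_top _).image_of_isOpenImmersion _))
  obtain ⟨n₀, hn₀⟩ := AmpleLib.eventually_globallyGenerated hamp (ProjTwist.isQCoh_of_isInvertible hamp.1)
    (ZeroSchemeLib.isFiniteType_of_isInvertible hamp.1)
  let x₀ : (q ⁻¹ᵁ U₀ : X.Opens).toScheme := ⟨x, hxU₀⟩
  have key : ∀ n, n₀ ≤ n → ∃ (a : 𝒮.presheaf.obj (op (U₀.ι ''ᵁ ⊤)))
      (_ : a ∈ 𝒮.deg (U₀.ι ''ᵁ ⊤) ((isAffineOpen_top _).image_of_isOpenImmersion _) (n + 1))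
      (D : X.Opens) (hD : IsAffineOpen D) (hle : D ≤ q ⁻¹ᵁ (U₀.ι ''ᵁ ⊤)), x ∈ D ∧
      ((𝒮L.deg D hD (n + 1) : AddSubgroup (𝒮L.presheaf.obj (op D))) : Set (𝒮L.presheaf.obj (op D))) ⊆
        (Ideal.span {(u.appLE (U₀.ι ''ᵁ ⊤) D hle).hom a} : Set (𝒮L.presheaf.obj (op D))) := by
    intro n hn
    obtain ⟨σ, hσ⟩ := DimOneAmple.exists_genLocus_mem
      (AmpleLib.isInvertible_tensorMod hamp.1 (AmpleLib.isInvertible_tensorPow hamp.1 n)) (hn₀ n hn) x₀
    let σ' : Γ(CohB1.tensorPow (L.restrict (q ⁻¹ᵁ U₀).ι) (n + 1), ⊤) :=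
      (ProjTwist.tensComm (L.restrict (q ⁻¹ᵁ U₀).ι) (CohB1.tensorPow (L.restrict (q ⁻¹ᵁ U₀).ι) n)).hom.app ⊤ σ
    have hσ' : x₀ ∈ CohB1.genLocus _ (homOfSec σ') := by
      rw [AmpleLib.genLocus_homOfSec]
      exact (AmpleLib.locus_app_iso _ σ).ge hσ
    obtain ⟨a, ha, hXa⟩ := exists_of_tensorPow (Restr.qHom U₀ u) (Restr.isGrSymAlg (q ⁻¹ᵁ U₀) 𝒮L jL hjL)
      (isAffineOpen_top _) hbij hamp.1 (homOfSec σ')
    rw [← hXa] at hσ'
    obtain ⟨⟨⟨D, hD⟩, hsub⟩, hxD⟩ := Opens.mem_iSup.1 hσ'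
    refine ⟨a, ha, (q ⁻¹ᵁ U₀).ι ''ᵁ D, hD.image_of_isOpenImmersion _,
      ((q ⁻¹ᵁ U₀).ι.image_mono (le_top.trans (Scheme.Hom.preimage_top _).ge)).trans
        (image_morphismRestrict_preimage q U₀ ⊤).le, ⟨x₀, hxD, rfl⟩, ?_⟩
    rw [← Restr.appLE_appLE u (image_morphismRestrict_preimage q U₀ ⊤).le
      ((q ⁻¹ᵁ U₀).ι.image_mono (le_top.trans (Scheme.Hom.preimage_top (q ∣_ U₀)).ge))]
    exact hsub
  obtain ⟨a, ha, D₁, hD₁, hle₁, hx₁, hs₁⟩ := key n₀ le_rfl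
  obtain ⟨b, hb, D₂, hD₂, hle₂, hx₂, hs₂⟩ := key (n₀ + 1) (Nat.le_succ _)
  obtain ⟨E₀, e, hxE, he⟩ := exists_isGen hL x
  obtain ⟨c₁, c₂, hc, hxc⟩ := exists_basicOpen_le_affine_inter hD₁ hD₂ x ⟨hx₁, hx₂⟩
  obtain ⟨f, hf, hxf⟩ := (hD₁.basicOpen c₁).exists_basicOpen_le (V := E₀ ⊓ X.basicOpen c₁) ⟨x, hxE, hxc⟩ hxc
  have hV : IsAffineOpen (X.basicOpen f) := (hD₁.basicOpen c₁).basicOpen f
  have hVE : X.basicOpen f ≤ E₀ := hf.trans inf_le_left
  obtain ⟨hle', g₁, hg₁⟩ : ∃ (_ : X.basicOpen f ≤ D₁) (g₁ : Γ(X, D₁)), X.basicOpen g₁ = X.basicOpen f := by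
    obtain ⟨g₁, hg₁⟩ := IsAffineOpen.basicOpen_basicOpen_is_basicOpen hD₁ c₁ f
    exact ⟨(X.basicOpen_le f).trans (X.basicOpen_le c₁), g₁, hg₁⟩
  obtain ⟨g₂, hg₂⟩ : ∃ g₂ : Γ(X, D₂), X.basicOpen g₂ = X.basicOpen f := by
    have hf' : X.basicOpen f ≤ X.basicOpen c₂ := hc ▸ X.basicOpen_le f
    obtain ⟨g₂, hg₂⟩ := IsAffineOpen.basicOpen_basicOpen_is_basicOpen hD₂ c₂
      ((X.presheaf.map (homOfLE hc.ge).op).hom f)
    exact ⟨g₂, hg₂.trans ((Scheme.basicOpen_res _ _ _).trans (inf_eq_right.2 hf'))⟩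
  have hle₂' : X.basicOpen f ≤ D₂ := hg₂ ▸ X.basicOpen_le g₂
  have hε := he.restrict hVE
  have hgm : ∀ d : ℕ, gen (res L hVE e) jL le_rfl ^ d ∈ 𝒮L.deg _ hV d := fun d => by
    simpa using str_mul_gen_mem hjL (res L hVE e) hV le_rfl 1 d
  have sp : ∀ {D : X.Opens} (hD : IsAffineOpen D) (hle : D ≤ q ⁻¹ᵁ (U₀.ι ''ᵁ ⊤)) (d : ℕ)
      (s : 𝒮.presheaf.obj (op (U₀.ι ''ᵁ ⊤)))
      (hs : ((𝒮L.deg D hD d : AddSubgroup (𝒮L.presheaf.obj (op D))) : Set (𝒮L.presheaf.obj (op D))) ⊆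
        (Ideal.span {(u.appLE (U₀.ι ''ᵁ ⊤) D hle).hom s} : Set (𝒮L.presheaf.obj (op D))))
      (g : Γ(X, D)) (W : X.Opens) (hW : IsAffineOpen W) (hWD : W ≤ D) (z : 𝒮L.presheaf.obj (op W)),
      X.basicOpen g = W → z ∈ 𝒮L.deg W hW d → z ∈ Ideal.span {(u.appLE (U₀.ι ''ᵁ ⊤) W (hWD.trans hle)).hom s} := by
    rintro D hD hle d s hs g _ hW hWD z rfl hz
    rw [← Restr.appLE_appLE u hle hWD]
    exact span_basicOpen hD g hs hz
  obtain ⟨α, hα, hαa⟩ := exists_unit_coeff hjL hV hε (u.map_mem _ _ _ hV (hle'.trans hle₁) ha)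
    (sp hD₁ hle₁ _ a hs₁ g₁ _ hV hle' _ hg₁ (hgm _))
  obtain ⟨β, hβ, hβb⟩ := exists_unit_coeff hjL hV hε (u.map_mem _ _ _ hV (hle'.trans hle₁) hb)
    (sp hD₂ hle₂ _ b hs₂ g₂ _ hV hle₂' _ hg₂ (hgm _))
  obtain ⟨α', hα'⟩ := isUnit_iff_exists_inv.1 hα
  refine ⟨_, _, _, hV, hle'.trans hle₁, res L hVE e, hε, n₀ + 1, a, b, α, β * α', hxf, ha, hb, hα,
    hβ.mul (IsUnit.of_mul_eq_one α ((mul_comm _ _).trans hα')), hαa, ?_⟩
  rw [mul_assoc, mul_comm α', hα', mul_one]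
  exact hβb

section maps

variable {P PL : Scheme.{u}} {p : P ⟶ Y}
  {chart : ∀ (U : Y.Opens) (hU : IsAffineOpen U), (((p ⁻¹ᵁ U : P.Opens) : Scheme.{u}) ≅ Proj (𝒮.deg U hU))}
  {pL : PL ⟶ X}
  {chartL : ∀ (U : X.Opens) (hU : IsAffineOpen U), (((pL ⁻¹ᵁ U : PL.Opens) : Scheme.{u}) ≅ Proj (𝒮L.deg U hU))}
  (hPL : IsRelProj 𝒮L pL chartL)
  {r : ((domQ u pL chartL : PL.Opens) : Scheme.{u}) ⟶ P}
  (hr : IsProjQMapOn u p chart pL chartL (domQ u pL chartL) r)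
  {D : Y.Opens} (hD : IsAffineOpen D) {V : X.Opens} (hV : IsAffineOpen V) (hVD : V ≤ q ⁻¹ᵁ D)
  {ε : Γ(L, V)} (hε : IsGen L V ε) {d : ℕ} (hd : 0 < d) {f : 𝒮.presheaf.obj (op D)} (hf : f ∈ 𝒮.deg D hD d)
  {δ : Γ(X, V)} (hδ : IsUnit δ)
  (hfδ : (u.appLE D V hVD).hom f = (𝒮L.str.app (op V)).hom δ * gen ε jL le_rfl ^ d)

include hjL hV hε hδ hfδ in
lemma notMem_image (w : Proj (𝒮L.deg V hV)) : (u.appLE D V hVD).hom f ∉ w.asHomogeneousIdeal := by
  rw [hfδ]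
  obtain ⟨v, hv⟩ := isUnit_iff_exists_inv.1 (hδ.map (𝒮L.str.app (op V)).hom)
  intro h
  have h2 := Ideal.mul_mem_left _ v h
  rw [← mul_assoc, mul_comm v, hv, one_mul] at h2
  exact SymLib.notMem_asHomogeneousIdeal hjL hV ((isGen_iff_isFrame ε).1 hε) le_rfl w
    (w.isPrime.mem_of_pow_mem d h2)

include hjL hPL hV hε hδ hfδ hr hd hf in
lemma preimage_le_image :
    ((domQ u pL chartL).ι ≫ pL) ⁻¹ᵁ V ≤ r ⁻¹ᵁ (emb p chart D hD ''ᵁ Proj.basicOpen (𝒮.deg D hD) f) := by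
  intro z hz
  obtain ⟨w, hw⟩ := RelProjLib.exists_emb_eq 𝒮L hV (p := pL) (chart := chartL) (x := (domQ u pL chartL).ι z) hz
  let i : RelProjLib.ChartIdx (g := q) (𝒮 := 𝒮) := ⟨D, hD, V, hV, hVD, d, hd, f, hf⟩
  obtain ⟨t, ht⟩ := (RelProjLib.mem_range_e u pL chartL (i := i)).2
    ⟨w, hw, notMem_image hjL u hV hVD hε hδ hfδ w⟩
  have hW := range_awayEmb_subset_domQ u pL chartL D hD V hV hVD hd f hf
  let l := IsOpenImmersion.lift (domQ u pL chartL).ι (i.e u pL chartL) hW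
  obtain rfl : l t = z := (domQ u pL chartL).ι.isOpenEmbedding.injective (by
    rw [← Scheme.Hom.comp_apply, IsOpenImmersion.lift_fac]
    exact ht)
  refine (show r (l t) ∈ (emb p chart D hD ''ᵁ Proj.basicOpen (𝒮.deg D hD) f : P.Opens) from ?_)
  rw [← Scheme.Hom.comp_apply, show l ≫ r = _ from hr D hD V hV hVD d hd f hf hW]
  simp only [Scheme.Hom.comp_apply]
  refine ⟨_, ?_, rfl⟩
  rw [← Proj.opensRange_awayι (𝒮.deg D hD) f hf hd]
  exact ⟨_, rfl⟩

include hjL hPL hV hε hδ hfδ hr hd hf in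
/-- A fraction pulls back to the quotient of its coefficients. -/
lemma app_fraction {N : 𝒮.presheaf.obj (op D)} (hN : N ∈ 𝒮.deg D hD d) {ν τ : Γ(X, V)}
    (hNν : (u.appLE D V hVD).hom N = (𝒮L.str.app (op V)).hom ν * gen ε jL le_rfl ^ d) (hτ : τ * δ = ν)
    {O : P.Opens} (hO : emb p chart D hD ''ᵁ Proj.basicOpen (𝒮.deg D hD) f ≤ O) (c : Γ(P, O))
    (hc : ∀ y hy (hfy : f ∉ y.asHomogeneousIdeal), fv p chart D hD c y hy = Localization.mk N ⟨f, hfy⟩)
    (hle : ((domQ u pL chartL).ι ≫ pL) ⁻¹ᵁ V ≤ r ⁻¹ᵁ O) :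
    r.appLE O (((domQ u pL chartL).ι ≫ pL) ⁻¹ᵁ V) hle c = ((domQ u pL chartL).ι ≫ pL).app V τ := by
  set pG := (domQ u pL chartL).ι ≫ pL with hpG
  let i : RelProjLib.ChartIdx (g := q) (𝒮 := 𝒮) := ⟨D, hD, V, hV, hVD, d, hd, f, hf⟩
  have := RelProjLib.isOpenImmersion_e u pL chartL i
  have hW := range_awayEmb_subset_domQ u pL chartL D hD V hV hVD hd f hf
  let l := IsOpenImmersion.lift (domQ u pL chartL).ι (i.e u pL chartL) hW
  have hl : l ≫ (domQ u pL chartL).ι = i.e u pL chartL := IsOpenImmersion.lift_fac _ _ _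
  have : IsOpenImmersion (l ≫ (domQ u pL chartL).ι) := by rw [hl]; infer_instance
  have : IsOpenImmersion l := IsOpenImmersion.of_comp l (domQ u pL chartL).ι
  have hrange : pG ⁻¹ᵁ V ≤ l.opensRange := fun z hz => by
    obtain ⟨w, hw⟩ := RelProjLib.exists_emb_eq 𝒮L hV (p := pL) (chart := chartL) (x := (domQ u pL chartL).ι z) hz
    obtain ⟨t, ht⟩ := (RelProjLib.mem_range_e u pL chartL (i := i)).2
      ⟨w, hw, notMem_image hjL u hV hVD hε hδ hfδ w⟩
    refine ⟨t, (domQ u pL chartL).ι.isOpenEmbedding.injective ?_⟩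
    rw [← Scheme.Hom.comp_apply, hl]
    exact ht
  -- the two composites
  let φ := CommRingCat.ofHom (HomogeneousLocalization.Away.map (u.gradedAt D hD V hV hVD) f)
  let k₀ := Proj.awayι (𝒮.deg D hD) f hf hd ≫ emb p chart D hD
  have sq : l ≫ r = Spec.map φ ≫ k₀ := hr D hD V hV hVD d hd f hf hW
  let ψ₀ := 𝒮L.strZero V hV ≫ CommRingCat.ofHom (HomogeneousLocalization.fromZeroRingHom (𝒮L.deg V hV)
      (Submonoid.powers (u.gradedAt D hD V hV hVD f)))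
  have sq2 : l ≫ pG = Spec.map ψ₀ ≫ hV.fromSpec := by
    rw [hpG, ← Category.assoc, hl]
    change (Proj.awayι _ _ _ _ ≫ emb pL chartL V hV) ≫ pL = _
    rw [Category.assoc, RelProjLib.emb_comp hPL, Proj.awayι_toSpecZero_assoc, ← Spec.map_comp_assoc]
  have hk₀ : ∀ h, k₀.appLE O ⊤ h c = (Scheme.ΓSpecIso _).inv
      (HomogeneousLocalization.Away.mk (𝒮.deg D hD) hf 1 N (by simpa using hN)) := fun h => by
    have hle' : (⊤ : (Spec _).Opens) ≤ Proj.awayι (𝒮.deg D hD) f hf hd ⁻¹ᵁ Proj.basicOpen (𝒮.deg D hD) f :=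
      fun t _ => by
        rw [← Proj.opensRange_awayι (𝒮.deg D hD) f hf hd]
        exact ⟨t, rfl⟩
    have hD' : Proj.basicOpen (𝒮.deg D hD) f ≤ emb p chart D hD ⁻¹ᵁ O :=
      (Scheme.Hom.preimage_image_eq _ _).ge.trans ((emb p chart D hD).preimage_mono hO)
    rw [← Scheme.Hom.appLE_comp_appLE (Proj.awayι (𝒮.deg D hD) f hf hd) (emb p chart D hD) O
      (Proj.basicOpen (𝒮.deg D hD) f) ⊤ hD' hle', ConcreteCategory.comp_apply,
      ← CycLib.ProjBdl.awayι_appLE hf hd _ hle']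
    refine congrArg _ (GrModLib.funVal_ext fun y hy => ?_)
    refine Eq.trans (b := fv p chart D hD c y (hD' hy)) rfl ?_
    have hy' : f ∉ y.asHomogeneousIdeal := hy
    rw [hc y (hD' hy) hy']
    refine Eq.trans ?_ (ProjectiveSpectrum.Proj.awayToSection_apply (𝒮.deg D hD) f _ ⟨y, hy⟩).symm
    symm
    rw [HomogeneousLocalization.Away.val_mk, Localization.mk_eq_mk', IsLocalization.map_mk',
      Localization.mk_eq_mk']
    simp
  have hval : φ.hom (HomogeneousLocalization.Away.mk (𝒮.deg D hD) hf 1 N (by simpa using hN)) = ψ₀.hom τ := by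
    refine HomogeneousLocalization.val_injective _ ?_
    change (HomogeneousLocalization.Away.map (u.gradedAt D hD V hV hVD) f _).val = _
    rw [HomogeneousLocalization.Away.map_mk, HomogeneousLocalization.Away.val_mk]
    change _ = (HomogeneousLocalization.fromZeroRingHom (𝒮L.deg V hV) _ ((𝒮L.strZero V hV).hom τ)).val
    change _ = algebraMap _ _ ((𝒮L.str.app (op V)).hom τ)
    rw [← Localization.mk_one_eq_algebraMap, Localization.mk_eq_mk_iff, Localization.r_iff_exists]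
    refine ⟨1, ?_⟩
    simp only [OneMemClass.coe_one, one_mul, pow_one]
    change (u.appLE D V hVD).hom N = (u.appLE D V hVD).hom f * (𝒮L.str.app (op V)).hom τ
    rw [hNν, hfδ, ← hτ, map_mul]
    ring
  -- compare on the chart
  have htop : l ⁻¹ᵁ (pG ⁻¹ᵁ V) = ⊤ := by
    refine top_le_iff.1 fun t _ => ?_
    change (l ≫ pG) t ∈ V
    rw [sq2, Scheme.Hom.comp_apply]
    exact hV.range_fromSpec.le ⟨_, rfl⟩
  have : IsIso (l.app (pG ⁻¹ᵁ V)) := Scheme.Hom.isIso_app _ _ hrange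
  apply (ConcreteCategory.bijective_of_isIso (l.app (pG ⁻¹ᵁ V) ≫ (Spec _).presheaf.map (eqToHom htop.symm).op)).1
  have e : l.app (pG ⁻¹ᵁ V) ≫ (Spec _).presheaf.map (eqToHom htop.symm).op = l.appLE (pG ⁻¹ᵁ V) ⊤ htop.ge := rfl
  rw [e, ← Scheme.Hom.appLE_eq_app pG, ← ConcreteCategory.comp_apply, ← ConcreteCategory.comp_apply,
    Scheme.Hom.appLE_comp_appLE, Scheme.Hom.appLE_comp_appLE]
  have aux : ∀ {Z T : Scheme.{u}} (g g' : Z ⟶ T), g = g' → ∀ (A : T.Opens) (hg : ⊤ ≤ g ⁻¹ᵁ A) (a : Γ(T, A)),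
      ∃ hg', g.appLE A ⊤ hg a = g'.appLE A ⊤ hg' a := by
    rintro Z T g _ rfl A hg a
    exact ⟨hg, rfl⟩
  obtain ⟨h1, e1⟩ := aux _ _ sq O (htop.ge.trans (l.preimage_mono hle)) c
  obtain ⟨h2, e2⟩ := aux _ _ sq2 V htop.ge τ
  refine e1.trans (Eq.trans ?_ e2.symm)
  have hk : (⊤ : (Spec _).Opens) ≤ k₀ ⁻¹ᵁ O := fun t _ => by
    refine hO ⟨_, ?_, rfl⟩
    rw [← Proj.opensRange_awayι (𝒮.deg D hD) f hf hd]
    exact ⟨t, rfl⟩
  have hfs : (⊤ : (Spec _).Opens) ≤ hV.fromSpec ⁻¹ᵁ V := hV.fromSpec_preimage_self.ge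
  rw [← Scheme.Hom.appLE_comp_appLE (Spec.map φ) k₀ O ⊤ ⊤ hk le_top,
    ← Scheme.Hom.appLE_comp_appLE (Spec.map ψ₀) hV.fromSpec V ⊤ ⊤ hfs le_top,
    ConcreteCategory.comp_apply, ConcreteCategory.comp_apply, hk₀ hk]
  have e3 : hV.fromSpec.appLE V ⊤ hfs = (Scheme.ΓSpecIso Γ(X, V)).inv := by
    rw [Scheme.Hom.appLE, hV.fromSpec_app_self, Category.assoc, ← Functor.map_comp,
      Subsingleton.elim (_ ≫ _) (𝟙 _)]
    simp
  have eφ : ∀ {R S : CommRingCat.{u}} (g : R ⟶ S) hh, (Spec.map g).appLE ⊤ ⊤ hh = (Spec.map g).appTop := by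
    intro R S g hh
    rw [Scheme.Hom.appLE, Subsingleton.elim (homOfLE hh).op (𝟙 _)]
    exact (congrArg (_ ≫ ·) ((Spec S).presheaf.map_id _)).trans (Category.comp_id _)
  rw [e3, eφ, eφ]
  change ((Scheme.ΓSpecIso _).inv ≫ (Spec.map φ).appTop) _ = ((Scheme.ΓSpecIso _).inv ≫ (Spec.map ψ₀).appTop) τ
  rw [← Scheme.ΓSpecIso_inv_naturality, ← Scheme.ΓSpecIso_inv_naturality]
  exact congrArg (fun z => (Scheme.ΓSpecIso _).inv z) hval

include hjL hPL hr in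
/-- `r^* O(n) ≅ L^n`. -/
theorem nonempty_iso [QuasiCompact q] (hu : ∀ (U : Y.Opens), IsAffineOpen U → Function.Bijective (u.app U).hom)
    (h : RelAmple.IsRelAmple q L) (hL : PicF.IsInvertible L) (hP : IsRelProj 𝒮 p chart) (n : ℕ) {On : P.Modules}
    {lamn : ∀ (U : Y.Opens) (hU : IsAffineOpen U),
      On ⟶ (Scheme.Modules.pushforward (emb p chart U hU)).obj (GrTwist.twist (𝒮.deg U hU) (n : ℤ))}
    (hOn : IsRelTwist 𝒮 p chart (n : ℤ) On lamn) :
    Nonempty ((Scheme.Modules.pullback r).obj On ≅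
      (Scheme.Modules.pullback ((domQ u pL chartL).ι ≫ pL)).obj (CohB1.tensorPow L n)) := by
  set pG := (domQ u pL chartL).ι ≫ pL with hpG
  choose U hU V hV hVU ε hε K a b α γ hxV ha hb hα hγ hψa hψb using
    fun z : ((domQ u pL chartL : PL.Opens) : Scheme.{u}) => exists_pair hjL u hu h hL (pG z)
  let F := fun z => a z * b z
  have hF : ∀ z, F z ∈ 𝒮.deg (U z) (hU z) (K z + (K z + 1)) := fun z =>
    SetLike.mul_mem_graded (A := 𝒮.deg (U z) (hU z)) (ha z) (hb z)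
  let Ω := fun z => emb p chart (U z) (hU z) ''ᵁ Proj.basicOpen (𝒮.deg (U z) (hU z)) (F z)
  have hnin : ∀ z (y : ProjectiveSpectrum (𝒮.deg (U z) (hU z))), (emb p chart (U z) (hU z)).base y ∈ Ω z →
      a z ∉ y.asHomogeneousIdeal ∧ b z ∉ y.asHomogeneousIdeal := fun z y hy => by
    have h1 := (mem_image_dPlus_iff (F z) y).1 hy
    exact ⟨fun h2 => h1 (Ideal.mul_mem_right _ _ h2), fun h2 => h1 (Ideal.mul_mem_left _ _ h2)⟩
  have hanin : ∀ z (y : ProjectiveSpectrum (𝒮.deg (U z) (hU z))), (emb p chart (U z) (hU z)).base y ∈ Ω z →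
      a z ^ n ∉ y.asHomogeneousIdeal := fun z y hy h2 => (hnin z y hy).1 (y.isPrime.mem_of_pow_mem n h2)
  choose e he using fun z => exists_tv_eq hOn (hU z) (W := Ω z) (image_le_preimage (hU z) _)
    (GrModLib.pow_mem_deg' (hb z) n) (GrModLib.pow_mem_deg' (ha z) n) (by push_cast; ring) (hanin z)
  have hge : ∀ z, IsGen On (Ω z) (e z) := fun z => isGen_of_isUnit_chart hOn (hU z) (image_le_preimage (hU z) _) _
    fun y hy => by
      rw [he z y hy, isUnit_mk_iff]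
      exact fun h2 => (hnin z y hy).2 (y.isPrime.mem_of_pow_mem n h2)
  have hWr : ∀ z, pG ⁻¹ᵁ V z ≤ r ⁻¹ᵁ Ω z := fun z =>
    preimage_le_image hjL u hPL hr (hU z) (hV z) (hVU z) (hε z) (Nat.add_pos_right _ (Nat.succ_pos _)) (hF z)
      ((hγ z).mul (hα z) |>.mul (hα z)) (by
        rw [show (u.appLE (U z) (V z) (hVU z)).hom (F z) = _ from map_mul _ _ _, hψa, hψb, map_mul _ (γ z * α z) (α z),
          pow_add]
        simp only [Nat.succ_eq_add_one]
        ring)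
  let σ := fun z => pw L (γ z • ε z) n
  obtain ⟨iso, -⟩ := AmpleLib.exists_iso_of_gen (fun z => pG ⁻¹ᵁ V z)
    (fun z _ => Opens.mem_iSup.2 ⟨z, hxV z⟩)
    (fun z => res _ (hWr z) (Props.GenPull.pb r (e z)))
    (fun z => (Props.GenPull.isGen_pb r (hge z)).restrict (hWr z))
    (fun z => Props.GenPull.pb pG (σ z))
    (fun z => Props.GenPull.isGen_pb pG (isGen_pw ((hε z).smul_unit (hγ z)) n)) fun i k Vc hi hk w hw => by
      set O := Ω i ⊓ Ω k with hOdef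
      obtain ⟨c, hc, -⟩ := (hge i).exists_eq (inf_le_left : O ≤ _) (QCoh.res On inf_le_right (e k))
      have hVO : Vc ≤ r ⁻¹ᵁ O := fun z hz => ⟨hWr i (hi hz), hWr k (hk hz)⟩
      obtain rfl : w = QCoh.rres hVO (r.app O c) := by
        refine ((Props.GenPull.isGen_pb r (hge i)).restrict (hWr i)).injective hi ?_
        rw [← hw, QCoh.res_res, QCoh.res_res]
        have h1 := congrArg (fun t ↦ QCoh.res ((Scheme.Modules.pullback r).obj On) hVO
          (LFFrame.unitSec r On O t)) hc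
        rw [LFFrame.unitSec_smul, LFFrame.unitSec_res, LFFrame.unitSec_res, QCoh.res_smul] at h1
        refine Eq.trans ?_ (h1.trans (congrArg _ (QCoh.res_res _ _ _ _)))
        exact (QCoh.res_res _ _ _ _).symm
      have key : ∀ x : Vc, ∃ (V' : X.Opens), pG x.1 ∈ V' ∧
          QCoh.res _ (inf_le_left : Vc ⊓ pG ⁻¹ᵁ V' ≤ Vc) (QCoh.res _ hk (Props.GenPull.pb pG (σ k))) =
          QCoh.res _ (inf_le_left : Vc ⊓ pG ⁻¹ᵁ V' ≤ Vc)
            (QCoh.rres hVO (r.app O c) • QCoh.res _ hi (Props.GenPull.pb pG (σ i))) := by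
        rintro ⟨x, hx⟩
        obtain ⟨r₀, s₀, er, hqr⟩ := exists_basicOpen_le_affine_inter (hU i) (hU k) (q (pG x))
          ⟨hVU i (hi hx), hVU k (hk hx)⟩
        set D := Y.basicOpen r₀
        have hD : IsAffineOpen D := (hU i).basicOpen r₀
        obtain ⟨V', hV', hxV', hV'le⟩ := exists_isAffineOpen_mem_and_subset (X := X) (x := pG x)
          (U := V i ⊓ V k ⊓ q ⁻¹ᵁ D) ⟨⟨hi hx, hk hx⟩, hqr⟩
        have hi' : V' ≤ V i := fun z hz => (hV'le hz).1.1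
        have hk' : V' ≤ V k := fun z hz => (hV'le hz).1.2
        have hVD : V' ≤ q ⁻¹ᵁ D := fun z hz => (hV'le hz).2
        have hDi : D ≤ U i := Y.basicOpen_le r₀
        have hDk : D ≤ U k := er ▸ Y.basicOpen_le s₀
        refine ⟨V', hxV', ?_⟩
        have hε' := (hε i).restrict hi'
        obtain ⟨t, ht, htk⟩ := exists_unit_smul hε' ((hε k).restrict hk')
        let g := gen (res L hi' (ε i)) jL le_rfl
        have hgk : gen (res L hk' (ε k)) jL le_rfl = (𝒮L.str.app (op V')).hom t * g := by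
          change jL.app V' (res L le_rfl (res L hk' (ε k))) = _
          rw [htk, res_smul, Scheme.Modules.Hom.app_smul]
          simp only [rres_self]
          rfl
        have trans : ∀ {U₁ : Y.Opens} (hDU : D ≤ U₁) {V₁ : X.Opens} (h₁ : V₁ ≤ q ⁻¹ᵁ U₁) (hV₁ : V' ≤ V₁)
            (e₁ : Γ(L, V₁)) (A : 𝒮.presheaf.obj (op U₁)) (m : ℕ) (co₁ : Γ(X, V₁)),
            (u.appLE U₁ V₁ h₁).hom A = (𝒮L.str.app (op V₁)).hom co₁ * gen e₁ jL le_rfl ^ m →
            (u.appLE D V' hVD).hom ((𝒮.presheaf.map (homOfLE hDU).op).hom A) =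
              (𝒮L.str.app (op V')).hom (QCoh.rres hV₁ co₁) * gen (res L hV₁ e₁) jL le_rfl ^ m := by
          intro U₁ hDU V₁ h₁ hV₁ e₁ A m co₁ hA
          have h2 := congrArg (rh 𝒮L hV₁) hA
          rw [map_mul, map_pow, rh_str, rh_gen] at h2
          rw [show gen (res L hV₁ e₁) jL le_rfl = gen e₁ jL (hV₁.trans le_rfl) from
            congrArg (jL.app V') (res_res _ _ _ _), ← h2]
          exact (congr($(u.toQHom.map_appLE hDU hVD).hom A)).trans (Restr.appLE_appLE u h₁ hV₁ A).symm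
        set A1 := (𝒮.presheaf.map (homOfLE hDi).op).hom (a i)
        set B1 := (𝒮.presheaf.map (homOfLE hDi).op).hom (b i)
        set A2 := (𝒮.presheaf.map (homOfLE hDk).op).hom (a k)
        set B2 := (𝒮.presheaf.map (homOfLE hDk).op).hom (b k)
        set α1 := QCoh.rres hi' (α i)
        set γ1 := QCoh.rres hi' (γ i)
        set α2 := QCoh.rres hk' (α k)
        set γ2 := QCoh.rres hk' (γ k)
        have hA1 : (u.appLE D V' hVD).hom A1 = (𝒮L.str.app (op V')).hom α1 * g ^ K i :=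
          trans hDi (hVU i) hi' _ _ _ _ (hψa i)
        have hB1 : (u.appLE D V' hVD).hom B1 = (𝒮L.str.app (op V')).hom (γ1 * α1) * g ^ (K i + 1) :=
          (trans hDi (hVU i) hi' _ _ _ _ (hψb i)).trans (by rw [map_mul (QCoh.rres hi').hom])
        have hA2 : (u.appLE D V' hVD).hom A2 = (𝒮L.str.app (op V')).hom (α2 * t ^ K k) * g ^ K k := by
          rw [trans hDk (hVU k) hk' _ _ _ _ (hψa k), hgk, mul_pow, map_mul, map_pow, mul_assoc]
        have hB2 : (u.appLE D V' hVD).hom B2 =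
            (𝒮L.str.app (op V')).hom (γ2 * α2 * t ^ (K k + 1)) * g ^ (K k + 1) := by
          rw [trans hDk (hVU k) hk' _ _ _ _ (hψb k), hgk, mul_pow, map_mul (QCoh.rres hk').hom, map_mul _ _ (t ^ (K k + 1)),
            map_pow, mul_assoc]
        have mA1 : A1 ∈ 𝒮.deg D hD (K i) := 𝒮.map_mem (hU i) hD hDi (ha i)
        have mB1 : B1 ∈ 𝒮.deg D hD (K i + 1) := 𝒮.map_mem (hU i) hD hDi (hb i)
        have mA2 : A2 ∈ 𝒮.deg D hD (K k) := 𝒮.map_mem (hU k) hD hDk (ha k)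
        have mB2 : B2 ∈ 𝒮.deg D hD (K k + 1) := 𝒮.map_mem (hU k) hD hDk (hb k)
        let M := A1 * B1 * (A2 * B2)
        have mM : M ∈ 𝒮.deg D hD (K i + (K i + 1) + (K k + (K k + 1))) :=
          SetLike.mul_mem_graded (A := 𝒮.deg D hD) (SetLike.mul_mem_graded (A := 𝒮.deg D hD) mA1 mB1)
            (SetLike.mul_mem_graded (A := 𝒮.deg D hD) mA2 mB2)
        let d := n * K k + n * (K i + 1) + (K i + (K i + 1) + (K k + (K k + 1)))
        have mden : A2 ^ n * B1 ^ n * M ∈ 𝒮.deg D hD d :=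
          SetLike.mul_mem_graded (A := 𝒮.deg D hD) (SetLike.mul_mem_graded (A := 𝒮.deg D hD)
            (GrModLib.pow_mem_deg' mA2 n) (GrModLib.pow_mem_deg' mB1 n)) mM
        have mnum : B2 ^ n * A1 ^ n * M ∈ 𝒮.deg D hD d := by
          have := SetLike.mul_mem_graded (A := 𝒮.deg D hD) (SetLike.mul_mem_graded (A := 𝒮.deg D hD)
            (GrModLib.pow_mem_deg' mB2 n) (GrModLib.pow_mem_deg' mA1 n)) mM
          rwa [show n * (K k + 1) + n * K i = n * K k + n * (K i + 1) by ring] at this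
        have hα1 : IsUnit α1 := (hα i).map (QCoh.rres hi').hom
        have hγ1 : IsUnit γ1 := (hγ i).map (QCoh.rres hi').hom
        have hα2 : IsUnit α2 := (hα k).map (QCoh.rres hk').hom
        have hγ2 : IsUnit γ2 := (hγ k).map (QCoh.rres hk').hom
        let μ := α1 * (γ1 * α1) * (α2 * t ^ K k * (γ2 * α2 * t ^ (K k + 1)))
        obtain ⟨γ1', hγ1'⟩ := isUnit_iff_exists_inv.1 hγ1
        let τ := (γ2 * t * γ1') ^ n
        have hden : (u.appLE D V' hVD).hom (A2 ^ n * B1 ^ n * M) =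
            (𝒮L.str.app (op V')).hom ((α2 * t ^ K k) ^ n * (γ1 * α1) ^ n * μ) * g ^ d := by
          simp only [M, μ, d, map_mul, map_pow, hA1, hB1, hA2, hB2]
          ring
        have hnum : (u.appLE D V' hVD).hom (B2 ^ n * A1 ^ n * M) =
            (𝒮L.str.app (op V')).hom ((γ2 * α2 * t ^ (K k + 1)) ^ n * α1 ^ n * μ) * g ^ d := by
          simp only [M, μ, d, map_mul, map_pow, hA1, hB1, hA2, hB2]
          ring
        have hτ : τ * ((α2 * t ^ K k) ^ n * (γ1 * α1) ^ n * μ) =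
            (γ2 * α2 * t ^ (K k + 1)) ^ n * α1 ^ n * μ := by
          calc τ * ((α2 * t ^ K k) ^ n * (γ1 * α1) ^ n * μ) =
              (γ1 * γ1') ^ n * ((γ2 * α2 * t ^ (K k + 1)) ^ n * α1 ^ n * μ) := by
                simp only [τ, pow_succ]; ring
            _ = _ := by rw [hγ1', one_pow, one_mul]
        have hμ : IsUnit μ :=
          (hα1.mul (hγ1.mul hα1)).mul ((hα2.mul (ht.pow _)).mul ((hγ2.mul hα2).mul (ht.pow _)))
        have hmem : ∀ {U₁ : Y.Opens} (hU₁ : IsAffineOpen U₁) (r₁ : Γ(Y, U₁)) {D' : Y.Opens} (hD' : IsAffineOpen D')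
            (_ : Y.basicOpen r₁ = D') (hDU : D' ≤ U₁) (A : 𝒮.presheaf.obj (op U₁))
            (y : ProjectiveSpectrum (𝒮.deg D' hD')),
            (𝒮.presheaf.map (homOfLE hDU).op).hom A ∉ y.asHomogeneousIdeal →
            (emb p chart D' hD').base y ∈ emb p chart U₁ hU₁ ''ᵁ Proj.basicOpen (𝒮.deg U₁ hU₁) A := by
          intro U₁ hU₁ r₁ D' hD' er₁ hDU A y hA
          subst er₁
          rw [← map_res_emb hP U₁ hU₁ r₁]
          exact ⟨_, (Proj.mem_basicOpen (𝒮.deg U₁ hU₁) A _).2 hA, rfl⟩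
        have hOle : emb p chart D hD ''ᵁ Proj.basicOpen (𝒮.deg D hD) (A2 ^ n * B1 ^ n * M) ≤ O := by
          rintro _ ⟨y, hy, rfl⟩
          have hy' : A2 ^ n * B1 ^ n * M ∉ y.asHomogeneousIdeal := (Proj.mem_basicOpen _ _ y).1 hy
          refine ⟨hmem (hU i) r₀ hD rfl hDi (F i) y fun h2 => hy' ?_, hmem (hU k) s₀ hD er.symm hDk (F k) y fun h2 => hy' ?_⟩
          · refine Ideal.mul_mem_left _ _ (Ideal.mul_mem_right _ _ ?_)
            rwa [map_mul] at h2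
          · refine Ideal.mul_mem_left _ _ (Ideal.mul_mem_left _ _ ?_)
            rwa [map_mul] at h2
        have hc' : ∀ y hy (hfy : A2 ^ n * B1 ^ n * M ∉ y.asHomogeneousIdeal),
            fv p chart D hD c y hy = Localization.mk (B2 ^ n * A1 ^ n * M) ⟨A2 ^ n * B1 ^ n * M, hfy⟩ := by
          intro y hy hfy
          obtain ⟨hb1, v1⟩ := tv_mk_basic hOn hP (hU i) hD hDi r₀ rfl (e i) _ _
            (fun y hy => ⟨_, he i y hy⟩) y hy.1
          obtain ⟨hb2, v2⟩ := tv_mk_basic hOn hP (hU k) hD hDk s₀ er.symm (e k) _ _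
            (fun y hy => ⟨_, he k y hy⟩) y hy.2
          have h3 := congrArg (fun z => tv lamn D hD z y hy) hc
          simp only [tv_res, tv_smul, v1, v2] at h3
          have hB1n : B1 ^ n ∉ y.asHomogeneousIdeal := fun h2 =>
            hfy (Ideal.mul_mem_right _ _ (Ideal.mul_mem_left _ _ h2))
          have h4 := congrArg (· * (Localization.mk (A1 ^ n) ⟨B1 ^ n, hB1n⟩ : GrTwist.Loc (𝒮.deg D hD) y)) h3
          simp only [map_pow] at h4
          rw [mul_assoc, Localization.mk_mul, Localization.mk_mul] at h4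
          refine Eq.trans (Eq.trans ?_ h4.symm) ?_
          · convert (mul_one (fv p chart D hD c y hy)).symm using 2
            rw [← Localization.mk_one, Localization.mk_eq_mk_iff, Localization.r_iff_exists]
            exact ⟨1, by simp only [Submonoid.coe_mul, OneMemClass.coe_one]; ring⟩
          · rw [Localization.mk_eq_mk_iff, Localization.r_iff_exists]
            exact ⟨1, by simp only [Submonoid.coe_mul, OneMemClass.coe_one]; ring⟩
        have hle : pG ⁻¹ᵁ V' ≤ r ⁻¹ᵁ O := fun z hz => ⟨hWr i (hi' hz), hWr k (hk' hz)⟩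
        have hu' := app_fraction hjL u hPL hr hD hV' hVD hε' (Nat.lt_of_lt_of_le (Nat.succ_pos (K i))
          (by simp only [d]; omega)) mden (((hα2.mul (ht.pow _)).pow n).mul ((hγ1.mul hα1).pow n) |>.mul hμ)
          hden mnum hnum hτ hOle c hc' hle
        set W' := Vc ⊓ pG ⁻¹ᵁ V'
        rw [res_smul, res_res, res_res]
        have hρ : QCoh.rres (inf_le_left : W' ≤ Vc) (QCoh.rres hVO (r.app O c)) =
            QCoh.rres (inf_le_right : W' ≤ pG ⁻¹ᵁ V') (r.appLE O (pG ⁻¹ᵁ V') hle c) := by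
          rw [QCoh.rres_rres, Scheme.Hom.appLE, ConcreteCategory.comp_apply]
          exact (QCoh.rres_rres _ _ _).symm
        rw [hρ, hu']
        have hσk : res _ hk' (σ k) = τ • res _ hi' (σ i) := by
          simp only [σ, res_pw, res_smul, htk, smul_smul]
          rw [pw_smul, pw_smul, smul_smul]
          congr 1
          calc (γ2 * t) ^ n = (γ1 * γ1') ^ n * (γ2 * t) ^ n := by rw [hγ1', one_pow, one_mul]
            _ = _ := by simp only [τ]; ring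
        have h5 := congrArg (fun z => res _ (inf_le_right : W' ≤ pG ⁻¹ᵁ V')
          (LFFrame.unitSec pG (CohB1.tensorPow L n) V' z)) hσk
        simp only [LFFrame.unitSec_smul, LFFrame.unitSec_res, res_smul, res_res] at h5
        exact h5
      choose V' hxV' hkey using key
      exact QCoh.eq_of_locally_eq _ (U := fun x : Vc => Vc ⊓ pG ⁻¹ᵁ V' x) (fun _ => inf_le_left)
        (fun x hx => Opens.mem_iSup.2 ⟨⟨x, hx⟩, hx, hxV' ⟨x, hx⟩⟩) _ _ hkey
  exact ⟨iso⟩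

end maps

end Groth.Agent.ProjBundleLib.PullPow
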