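import Groth.Agent.SymLib.InvProj
import Groth.Agent.SymLib.Sheaf
import Groth.Agent.RelProjLib.Basic
import Groth.Agent.RelProjLib.Res
import Groth.Agent.RelProjLib.QMap
import Groth.Prelude.Def_RelProj4

/-! Restriction of graded algebras and their relative `Proj` to an open. -/

noncomputable section

universe u

open CategoryTheory CategoryTheory.Limits AlgebraicGeometry TopologicalSpace Opposite
open RelProj

namespace Groth.Agent.ProjBundleLib.Restr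

variable {S : Scheme.{u}} (U₀ : S.Opens)

lemma img_basicOpen {V : U₀.toScheme.Opens} (r : Γ(U₀.toScheme, V)) :
    U₀.ι ''ᵁ U₀.toScheme.basicOpen r = S.basicOpen (show Γ(S, U₀.ι ''ᵁ V) from r) := by
  rw [Scheme.image_basicOpen, Scheme.Opens.ι_appIso]
  rfl

variable (𝒮 : QCGrAlg S)

/-- The restriction of an algebra. -/
def alg : RelSpec.QCAlg U₀.toScheme where
  presheaf := U₀.ι.opensFunctor.op ⋙ 𝒮.presheaf
  isSheaf := TopCat.Presheaf.isSheaf_of_isOpenEmbedding U₀.ι.isOpenEmbedding 𝒮.isSheaf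
  str := Functor.whiskerLeft U₀.ι.opensFunctor.op 𝒮.str
  isQC := fun V hV r => by
    have key : ∀ (D : S.Opens) (hD : D ≤ U₀.ι ''ᵁ V), D = S.basicOpen (show Γ(S, U₀.ι ''ᵁ V) from r) →
        letI := (𝒮.presheaf.map (homOfLE hD).op).hom.toAlgebra
        IsLocalization.Away ((𝒮.str.app (op (U₀.ι ''ᵁ V))).hom r) (𝒮.presheaf.obj (op D)) := by
      rintro D hD rfl
      exact 𝒮.isQC (U₀.ι ''ᵁ V) (hV.image_of_isOpenImmersion _) r
    exact key _ (U₀.ι.image_mono (U₀.toScheme.basicOpen_le r)) (img_basicOpen U₀ r)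

/-- The restriction of a graded algebra. -/
def grAlg : QCGrAlg U₀.toScheme where
  toQCAlg := alg U₀ 𝒮
  deg V hV := 𝒮.deg (U₀.ι ''ᵁ V) (hV.image_of_isOpenImmersion _)
  graded V hV := 𝒮.graded _ _
  map_mem {V W} hV hW i {d x} hx :=
    𝒮.map_mem (hV.image_of_isOpenImmersion U₀.ι) (hW.image_of_isOpenImmersion U₀.ι) (U₀.ι.image_mono i) hx
  str_mem V hV r := 𝒮.str_mem _ _ r

variable {L : S.Modules} (j : L ⟶ 𝒮.toModule)

/-- The restriction of the generators. -/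
def gens : L.restrict U₀.ι ⟶ (grAlg U₀ 𝒮).toModule :=
  ⟨PresheafOfModules.homMk
    { app := fun V => AddCommGrpCat.ofHom (AddMonoidHom.mk'
        (fun x => (show (𝒮.presheaf.obj (op (U₀.ι ''ᵁ V.unop)) : Type u) from j.app (U₀.ι ''ᵁ V.unop) x))
        fun a b => map_add _ a b)
      naturality := fun V W i => by
        ext x
        exact QCoh.app_res j (U₀.ι.image_mono i.unop.le) x }
    fun V r x => by
      change j.app (U₀.ι ''ᵁ V.unop) ((U₀.ι.appIso V.unop).inv r • (show Γ(L, U₀.ι ''ᵁ V.unop) from x)) = _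
      rw [j.app_smul, Scheme.Opens.ι_appIso]
      rfl⟩

lemma gens_app (V : U₀.toScheme.Opens) (x : Γ(L, U₀.ι ''ᵁ V)) :
    (gens U₀ 𝒮 j).app V x = j.app (U₀.ι ''ᵁ V) x := rfl

/-- Bijectivity over the affine opens characterises symmetric algebras. -/
theorem isSymAlg_of_bijective {E : S.Modules} {A : RelSpec.QCAlg S} {j : E ⟶ A.toModule}
    (h : ∀ (U : S.Opens), IsAffineOpen U → Function.Bijective (SymLib.affLift j U)) : RelSpec.IsSymAlg E A j := by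
  intro B φ
  let Lh : ∀ U : S.Opens, SymmetricAlgebra Γ(S, U) Γ(E, U) →+* B.presheaf.obj (op U) := fun U =>
    SymLib.affLift φ U
  let F : ∀ (U : S.Opens), IsAffineOpen U → ((A.presheaf.obj (op U) : Type u) →+* B.presheaf.obj (op U)) :=
    fun U hU => (Lh U).comp (RingEquiv.ofBijective _ (h U hU)).symm.toRingHom
  have hFs : ∀ U hU r, F U hU ((A.str.app (op U)).hom r) = (B.str.app (op U)).hom r := fun U hU r => by
    have : (RingEquiv.ofBijective _ (h U hU)).symm ((A.str.app (op U)).hom r) = algebraMap _ _ r :=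
      (RingEquiv.ofBijective _ (h U hU)).symm_apply_eq.2 (SymLib.affLift_algebraMap j U r).symm
    exact (congrArg (Lh U) this).trans (SymLib.affLift_algebraMap φ U r)
  have hFj : ∀ U hU m, F U hU (j.app U m) = φ.app U m := fun U hU m => by
    have : (RingEquiv.ofBijective _ (h U hU)).symm (j.app U m) = SymmetricAlgebra.ι _ _ m :=
      (RingEquiv.ofBijective _ (h U hU)).symm_apply_eq.2 (SymLib.affLift_ι j U m).symm
    exact (congrArg (Lh U) this).trans (SymLib.affLift_ι φ U m)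
  have hext : ∀ (U : S.Opens) (hU : IsAffineOpen U) {T : Type u} [CommRing T]
      (G H : (A.presheaf.obj (op U) : Type u) →+* T),
      (∀ r, G ((A.str.app (op U)).hom r) = H ((A.str.app (op U)).hom r)) →
      (∀ m, G (j.app U m) = H (j.app U m)) → G = H := fun U hU T _ G H h0 h1 => by
    refine RingHom.ext fun a => ?_
    obtain ⟨b, rfl⟩ := (h U hU).2 a
    refine RingHom.congr_fun (f := G.comp (SymLib.affLift j U)) (g := H.comp (SymLib.affLift j U))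
      (SymLib.ringHom_ext (fun r => ?_) fun m => ?_) b
    · simp only [RingHom.comp_apply, SymLib.affLift_algebraMap]
      exact h0 r
    · simp only [RingHom.comp_apply, SymLib.affLift_ι]
      exact h1 m
  let η : (Scheme.AffineZariskiSite.toOpensFunctor S).op ⋙ A.presheaf ⟶
      (Scheme.AffineZariskiSite.toOpensFunctor S).op ⋙ B.presheaf :=
    { app := fun U => CommRingCat.ofHom (F U.unop.1 U.unop.2)
      naturality := fun U V i => by
        have hVU : V.unop.1 ≤ U.unop.1 := Scheme.AffineZariskiSite.toOpens_mono i.unop.le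
        refine CommRingCat.hom_ext (hext _ U.unop.2 _ _ (fun r => ?_) fun m => ?_)
        · change F V.unop.1 V.unop.2 ((A.presheaf.map (homOfLE hVU).op).hom ((A.str.app (op U.unop.1)).hom r)) =
            (B.presheaf.map (homOfLE hVU).op).hom (F U.unop.1 U.unop.2 ((A.str.app (op U.unop.1)).hom r))
          rw [hFs U.unop.1 U.unop.2]
          exact ((congrArg (F V.unop.1 V.unop.2) (congr($(A.str.naturality (homOfLE hVU).op).hom r)).symm).trans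
            (hFs _ V.unop.2 _)).trans (congr($(B.str.naturality (homOfLE hVU).op).hom r))
        · change F V.unop.1 V.unop.2 ((A.presheaf.map (homOfLE hVU).op).hom (j.app U.unop.1 m)) =
            (B.presheaf.map (homOfLE hVU).op).hom (F U.unop.1 U.unop.2 (j.app U.unop.1 m))
          rw [hFj U.unop.1 U.unop.2]
          exact ((congrArg (F V.unop.1 V.unop.2) (QCoh.app_res j hVU m).symm).trans (hFj _ V.unop.2 _)).trans (QCoh.app_res φ hVU m) }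
  let ψ : A ⟶ B := QCAlgLib.homOfSite η fun U => CommRingCat.hom_ext (RingHom.ext fun r => hFs U.1 U.2 r)
  have hψ : ∀ (U : S.Opens) (hU : IsAffineOpen U), ψ.hom.app (op U) = CommRingCat.ofHom (F U hU) :=
    fun U hU => QCAlgLib.homOfSite_app η _ U hU
  refine ⟨ψ, SymLib.hom_ext_affine fun U hU => ?_, fun χ hχ => QCAlgLib.hom_ext_affine fun U hU => ?_⟩
  · ext m
    change (ψ.hom.app (op U)).hom (j.app U m) = φ.app U m
    rw [hψ U hU]
    exact hFj U hU m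
  · rw [hψ U hU]
    refine CommRingCat.hom_ext (hext U hU _ _ (fun r => ?_) fun m => ?_)
    · exact (congr($(NatTrans.congr_app χ.comm (op U)).hom r)).trans (hFs U hU r).symm
    · exact (congr(($(hχ).app U) m)).trans (hFj U hU m).symm

variable [L.IsQuasicoherent]

/-- The restriction of a symmetric algebra. -/
theorem isGrSymAlg (hj : IsGrSymAlg L 𝒮 j) :
    IsGrSymAlg (L.restrict U₀.ι) (grAlg U₀ 𝒮) (gens U₀ 𝒮 j) := by
  refine ⟨isSymAlg_of_bijective fun V hV => ?_, fun V hV x => hj.2 _ (hV.image_of_isOpenImmersion _) x⟩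
  have h := SymLib.affLift_bijective hj.1 (hV.image_of_isOpenImmersion U₀.ι)
  have hr : ∀ (r : Γ(U₀.toScheme, V)) (x : Γ(L.restrict U₀.ι, V)), (r • x : Γ(L.restrict U₀.ι, V)) =
      ((show Γ(S, U₀.ι ''ᵁ V) from r) • (show Γ(L, U₀.ι ''ᵁ V) from x) : Γ(L, U₀.ι ''ᵁ V)) := fun r x => by
    change (U₀.ι.appIso V).inv r • (show Γ(L, U₀.ι ''ᵁ V) from x) = _
    rw [Scheme.Opens.ι_appIso]
    rfl
  let φ : Γ(S, U₀.ι ''ᵁ V) →+* Γ(U₀.toScheme, V) := RingHom.id _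
  let ψ : Γ(U₀.toScheme, V) →+* Γ(S, U₀.ι ''ᵁ V) := RingHom.id _
  let a : Γ(L, U₀.ι ''ᵁ V) →+ Γ(L.restrict U₀.ι, V) := AddMonoidHom.id _
  let b : Γ(L.restrict U₀.ι, V) →+ Γ(L, U₀.ι ''ᵁ V) := AddMonoidHom.id _
  let f := SymLib.symMap φ a fun r m => (hr r m).symm
  let g := SymLib.symMap ψ b hr
  have hg : Function.Bijective g := Function.bijective_iff_has_inverse.2 ⟨f, RingHom.congr_fun
    (SymLib.ringHom_ext (F := f.comp g) (G := RingHom.id _)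
      (fun r => (congrArg f (SymLib.symMap_algebraMap ψ b hr r)).trans (SymLib.symMap_algebraMap φ a _ _))
      fun m => (congrArg f (SymLib.symMap_ι ψ b hr m)).trans (SymLib.symMap_ι φ a _ _)), RingHom.congr_fun
    (SymLib.ringHom_ext (F := g.comp f) (G := RingHom.id _)
      (fun r => (congrArg g (SymLib.symMap_algebraMap φ a _ r)).trans (SymLib.symMap_algebraMap ψ b hr _))
      fun m => (congrArg g (SymLib.symMap_ι φ a _ m)).trans (SymLib.symMap_ι ψ b hr _))⟩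
  have e : SymLib.affLift (gens U₀ 𝒮 j) V = (SymLib.affLift j (U₀.ι ''ᵁ V)).comp g :=
    SymLib.ringHom_ext (fun r => (SymLib.affLift_algebraMap _ V r).trans
      ((congrArg (SymLib.affLift j _) (SymLib.symMap_algebraMap ψ b hr r)).trans
        (SymLib.affLift_algebraMap j _ _)).symm) fun m => (SymLib.affLift_ι _ V m).trans
      ((congrArg (SymLib.affLift j _) (SymLib.symMap_ι ψ b hr m)).trans (SymLib.affLift_ι j _ _)).symm
  rw [e]
  exact h.comp hg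

omit [L.IsQuasicoherent] in
lemma fromSpec_ι {V : U₀.toScheme.Opens} (hV : IsAffineOpen V) :
    hV.fromSpec ≫ U₀.ι = (hV.image_of_isOpenImmersion U₀.ι).fromSpec := by
  rw [← IsAffineOpen.SpecMap_appLE_fromSpec U₀.ι (hV.image_of_isOpenImmersion U₀.ι) hV
    (U₀.ι.preimage_image_eq V).ge, Scheme.Opens.ι_appLE]
  simp
  erw [Spec.map_id, Category.id_comp]

variable {P : Scheme.{u}} (p : P ⟶ S)
  (chart : ∀ (U : S.Opens) (hU : IsAffineOpen U), (((p ⁻¹ᵁ U : P.Opens) : Scheme.{u}) ≅ Proj (𝒮.deg U hU)))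

/-- The charts of the restriction. -/
def chartR (V : U₀.toScheme.Opens) (hV : IsAffineOpen V) :
    ((((p ∣_ U₀) ⁻¹ᵁ V : (p ⁻¹ᵁ U₀).toScheme.Opens) : Scheme.{u}) ≅ Proj ((grAlg U₀ 𝒮).deg V hV)) :=
  (p ⁻¹ᵁ U₀).ι.isoImage _ ≪≫ P.isoOfEq (image_morphismRestrict_preimage p U₀ V) ≪≫
    chart (U₀.ι ''ᵁ V) (hV.image_of_isOpenImmersion _)

omit [L.IsQuasicoherent] in
lemma emb_chartR (V : U₀.toScheme.Opens) (hV : IsAffineOpen V) :
    emb (p ∣_ U₀) (chartR U₀ 𝒮 p chart) V hV ≫ (p ⁻¹ᵁ U₀).ι =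
      emb p chart (U₀.ι ''ᵁ V) (hV.image_of_isOpenImmersion _) := by
  simp only [emb, chartR, Iso.trans_inv, Category.assoc, Scheme.Hom.isoImage_inv_ι]
  rw [Scheme.isoOfEq_inv_ι]
  rfl

variable {chart} in
omit [L.IsQuasicoherent] in
/-- The restriction of a relative `Proj`. -/
theorem isRelProj (hP : IsRelProj 𝒮 p chart) :
    IsRelProj (grAlg U₀ 𝒮) (p ∣_ U₀) (chartR U₀ 𝒮 p chart) := by
  constructor
  · intro V hV
    have e : emb (p ∣_ U₀) (chartR U₀ 𝒮 p chart) V hV ≫ (p ∣_ U₀) =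
        Proj.toSpecZero ((grAlg U₀ 𝒮).deg V hV) ≫ Spec.map ((grAlg U₀ 𝒮).strZero V hV) ≫ hV.fromSpec := by
      rw [← cancel_mono U₀.ι]
      simp only [Category.assoc, morphismRestrict_ι, fromSpec_ι]
      rw [reassoc_of% emb_chartR U₀ 𝒮 p chart V hV]
      exact RelProjLib.emb_comp hP _ _
    rw [← e, emb, Category.assoc, Iso.hom_inv_id_assoc]
  · intro V hV r
    rw [← cancel_mono (emb (p ∣_ U₀) (chartR U₀ 𝒮 p chart) V hV ≫ (p ⁻¹ᵁ U₀).ι), Category.assoc,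
      Category.assoc, reassoc_of% RelProjLib.chart_hom_emb (p := p ∣_ U₀) (chart := chartR U₀ 𝒮 p chart) V hV,
      Scheme.homOfLE_ι_assoc, emb_chartR U₀ 𝒮 p chart V hV]
    refine Eq.trans ?_ (congrArg ((chartR U₀ 𝒮 p chart _ (hV.basicOpen r)).hom ≫ ·)
      (RelProjLib.map_res_emb_affine 𝒮 hP (hV.image_of_isOpenImmersion U₀.ι)
        ((hV.basicOpen r).image_of_isOpenImmersion U₀.ι) (U₀.ι.image_mono (U₀.toScheme.basicOpen_le r))).symm)
    beta_reduce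
    rw [← emb_chartR U₀ 𝒮 p chart _ (hV.basicOpen r),
      reassoc_of% RelProjLib.chart_hom_emb (p := p ∣_ U₀) (chart := chartR U₀ 𝒮 p chart) _ (hV.basicOpen r)]

end Groth.Agent.ProjBundleLib.Restr

namespace Groth.Agent.ProjBundleLib.Restr

variable {X Y : Scheme.{u}} {q : X ⟶ Y} (U₀ : Y.Opens) {𝒮 : QCGrAlg Y} {𝒮L : QCGrAlg X} (u : QGrHom q 𝒮 𝒮L)

lemma appLE_appLE {V : Y.Opens} {W W' : X.Opens} (h : W ≤ q ⁻¹ᵁ V) (h' : W' ≤ W) (x : 𝒮.presheaf.obj (op V)) :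
    (𝒮L.presheaf.map (homOfLE h').op).hom ((u.appLE V W h).hom x) = (u.appLE V W' (h'.trans h)).hom x :=
  congr($(u.toQHom.appLE_map h h').hom x)

/-- The restriction of a graded morphism. -/
def qHom : QGrHom (q ∣_ U₀) (grAlg U₀ 𝒮) (grAlg (q ⁻¹ᵁ U₀) 𝒮L) where
  app V := u.appLE (U₀.ι ''ᵁ V) ((q ⁻¹ᵁ U₀).ι ''ᵁ ((q ∣_ U₀) ⁻¹ᵁ V)) (image_morphismRestrict_preimage q U₀ V).le
  naturality {V W} i := (u.toQHom.appLE_map _ ((q ⁻¹ᵁ U₀).ι.image_mono ((q ∣_ U₀).preimage_mono i))).trans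
    (u.toQHom.map_appLE (U₀.ι.image_mono i) _).symm
  str_app V := by
    refine (u.toQHom.str_appLE _ _ _).trans ?_
    rw [morphismRestrict_app]
    rfl
  map_mem V hV W hW hle {d x} hx := by
    change (𝒮L.presheaf.map (homOfLE ((q ⁻¹ᵁ U₀).ι.image_mono hle)).op).hom ((u.appLE _ _ _).hom x) ∈ _
    rw [appLE_appLE]
    exact u.map_mem _ (hV.image_of_isOpenImmersion U₀.ι) _ (hW.image_of_isOpenImmersion _) _ hx

lemma qHom_gradedAt {V : U₀.toScheme.Opens} (hV : IsAffineOpen V) {W : (q ⁻¹ᵁ U₀).toScheme.Opens}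
    (hW : IsAffineOpen W) (hle : W ≤ (q ∣_ U₀) ⁻¹ᵁ V) :
    (qHom U₀ u).gradedAt V hV W hW hle = u.gradedAt (U₀.ι ''ᵁ V) (hV.image_of_isOpenImmersion _)
      ((q ⁻¹ᵁ U₀).ι ''ᵁ W) (hW.image_of_isOpenImmersion _)
      (((q ⁻¹ᵁ U₀).ι.image_mono hle).trans (image_morphismRestrict_preimage q U₀ V).le) :=
  GradedRingHom.ext fun x => appLE_appLE u _ ((q ⁻¹ᵁ U₀).ι.image_mono hle) x

lemma chart_congr {A B σ τ : Type u} [CommRing A] [SetLike σ A] [AddSubgroupClass σ A] [CommRing B] [SetLike τ B]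
    [AddSubgroupClass τ B] {𝒜 : ℕ → σ} {ℬ : ℕ → τ} [GradedRing 𝒜] [GradedRing ℬ] {T P' : Scheme.{u}}
    (W : T.Opens) (r : (W : Scheme.{u}) ⟶ P') {d : ℕ} (hd : 0 < d) (f : A) (hf : f ∈ 𝒜 d) (a : Proj ℬ ⟶ T)
    (c : Spec (CommRingCat.of (HomogeneousLocalization.Away 𝒜 f)) ⟶ P')
    {ψ ψ' : 𝒜 →+*ᵍ ℬ} (e : ψ = ψ')
    (h : ∃ h1 : Set.range (Proj.awayι ℬ (ψ f) (ψ.map_mem hf) hd ≫ a).base ⊆ Set.range W.ι.base,
      IsOpenImmersion.lift W.ι (Proj.awayι ℬ (ψ f) (ψ.map_mem hf) hd ≫ a) h1 ≫ r =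
        Spec.map (CommRingCat.ofHom (HomogeneousLocalization.Away.map ψ f)) ≫ c) :
    ∃ h1 : Set.range (Proj.awayι ℬ (ψ' f) (ψ'.map_mem hf) hd ≫ a).base ⊆ Set.range W.ι.base,
      IsOpenImmersion.lift W.ι (Proj.awayι ℬ (ψ' f) (ψ'.map_mem hf) hd ≫ a) h1 ≫ r =
        Spec.map (CommRingCat.ofHom (HomogeneousLocalization.Away.map ψ' f)) ≫ c := by
  subst e
  exact h

variable {P PL : Scheme.{u}} {p : P ⟶ Y}
  {chart : ∀ (U : Y.Opens) (hU : IsAffineOpen U), (((p ⁻¹ᵁ U : P.Opens) : Scheme.{u}) ≅ Proj (𝒮.deg U hU))}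
  {pL : PL ⟶ X}
  {chartL : ∀ (U : X.Opens) (hU : IsAffineOpen U), (((pL ⁻¹ᵁ U : PL.Opens) : Scheme.{u}) ≅ Proj (𝒮L.deg U hU))}

/-- The restricted morphism is the restriction of the morphism. -/
theorem exists_compare {r : ((domQ u pL chartL : PL.Opens) : Scheme.{u}) ⟶ P}
    (hr : IsProjQMapOn u p chart pL chartL (domQ u pL chartL) r)
    {r₀ : ((domQ (qHom U₀ u) (pL ∣_ (q ⁻¹ᵁ U₀)) (chartR (q ⁻¹ᵁ U₀) 𝒮L pL chartL) :
      (pL ⁻¹ᵁ (q ⁻¹ᵁ U₀)).toScheme.Opens) : Scheme.{u}) ⟶ (p ⁻¹ᵁ U₀ : Scheme.{u})}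
    (hr₀ : IsProjQMapOn (qHom U₀ u) (p ∣_ U₀) (chartR U₀ 𝒮 p chart) (pL ∣_ (q ⁻¹ᵁ U₀))
      (chartR (q ⁻¹ᵁ U₀) 𝒮L pL chartL) (domQ (qHom U₀ u) (pL ∣_ (q ⁻¹ᵁ U₀)) (chartR (q ⁻¹ᵁ U₀) 𝒮L pL chartL)) r₀) :
    ∃ l : ((domQ (qHom U₀ u) (pL ∣_ (q ⁻¹ᵁ U₀)) (chartR (q ⁻¹ᵁ U₀) 𝒮L pL chartL) :
        (pL ⁻¹ᵁ (q ⁻¹ᵁ U₀)).toScheme.Opens) : Scheme.{u}) ⟶ (domQ u pL chartL : Scheme.{u}),
      l ≫ (domQ u pL chartL).ι = (domQ (qHom U₀ u) (pL ∣_ (q ⁻¹ᵁ U₀)) (chartR (q ⁻¹ᵁ U₀) 𝒮L pL chartL)).ι ≫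
        (pL ⁻¹ᵁ (q ⁻¹ᵁ U₀)).ι ∧
      l ≫ r = r₀ ≫ (p ⁻¹ᵁ U₀).ι := by
  let X₀ := q ⁻¹ᵁ U₀
  let D := domQ (qHom U₀ u) (pL ∣_ X₀) (chartR X₀ 𝒮L pL chartL)
  have key : ∀ z : (D : Scheme.{u}), ∃ i : RelProjLib.ChartIdx (g := q ∣_ U₀) (𝒮 := grAlg U₀ 𝒮),
      D.ι z ∈ Set.range (i.e (qHom U₀ u) (pL ∣_ X₀) (chartR X₀ 𝒮L pL chartL)) := fun z =>
    RelProjLib.exists_chart_of_mem_domQ (qHom U₀ u) (pL ∣_ X₀) (chartR X₀ 𝒮L pL chartL) z.2
  have big : ∀ i : RelProjLib.ChartIdx (g := q ∣_ U₀) (𝒮 := grAlg U₀ 𝒮),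
      ∃ h1 : Set.range (i.e (qHom U₀ u) (pL ∣_ X₀) (chartR X₀ 𝒮L pL chartL) ≫ (pL ⁻¹ᵁ X₀).ι).base ⊆
          Set.range (domQ u pL chartL).ι.base,
        IsOpenImmersion.lift (domQ u pL chartL).ι
            (i.e (qHom U₀ u) (pL ∣_ X₀) (chartR X₀ 𝒮L pL chartL) ≫ (pL ⁻¹ᵁ X₀).ι) h1 ≫ r =
          Spec.map (CommRingCat.ofHom (HomogeneousLocalization.Away.map
            ((qHom U₀ u).gradedAt i.U i.hU i.U' i.hU' i.hle) i.f)) ≫
            Proj.awayι ((grAlg U₀ 𝒮).deg i.U i.hU) i.f i.hf i.hd ≫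
              emb (p ∣_ U₀) (chartR U₀ 𝒮 p chart) i.U i.hU ≫ (p ⁻¹ᵁ U₀).ι := by
    intro i
    have hW := range_awayEmb_subset_domQ u pL chartL (U₀.ι ''ᵁ i.U) (i.hU.image_of_isOpenImmersion _)
      (X₀.ι ''ᵁ i.U') (i.hU'.image_of_isOpenImmersion _)
      ((X₀.ι.image_mono i.hle).trans (image_morphismRestrict_preimage q U₀ i.U).le) i.hd i.f i.hf
    have h := chart_congr (domQ u pL chartL) r i.hd i.f i.hf
      (emb pL chartL (X₀.ι ''ᵁ i.U') (i.hU'.image_of_isOpenImmersion _))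
      (Proj.awayι ((grAlg U₀ 𝒮).deg i.U i.hU) i.f i.hf i.hd ≫
        emb p chart (U₀.ι ''ᵁ i.U) (i.hU.image_of_isOpenImmersion _))
      (qHom_gradedAt U₀ u i.hU i.hU' i.hle).symm ⟨hW, hr _ _ _ _ _ _ _ _ _ hW⟩
    rw [← emb_chartR X₀ 𝒮L pL chartL i.U' i.hU', ← emb_chartR U₀ 𝒮 p chart i.U i.hU] at h
    unfold RelProjLib.ChartIdx.e
    simp only [awayEmb, Category.assoc]
    exact h
  have hrange : Set.range (D.ι ≫ (pL ⁻¹ᵁ X₀).ι).base ⊆ Set.range (domQ u pL chartL).ι.base := by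
    rintro _ ⟨z, rfl⟩
    obtain ⟨i, w, hw⟩ := key z
    refine (big i).choose ⟨w, ?_⟩
    rw [Scheme.Hom.comp_apply, hw]
    rfl
  refine ⟨IsOpenImmersion.lift _ _ hrange, IsOpenImmersion.lift_fac _ _ _, ?_⟩
  refine Scheme.hom_ext_of_forall _ _ fun z => ?_
  obtain ⟨i, hi⟩ := key z
  have := RelProjLib.isOpenImmersion_e (qHom U₀ u) (pL ∣_ X₀) (chartR X₀ 𝒮L pL chartL) i
  have hW := range_awayEmb_subset_domQ (qHom U₀ u) (pL ∣_ X₀) (chartR X₀ 𝒮L pL chartL) i.U i.hU i.U' i.hU'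
    i.hle i.hd i.f i.hf
  let k := IsOpenImmersion.lift D.ι (i.e (qHom U₀ u) (pL ∣_ X₀) (chartR X₀ 𝒮L pL chartL)) hW
  have hk : k ≫ D.ι = i.e (qHom U₀ u) (pL ∣_ X₀) (chartR X₀ 𝒮L pL chartL) := IsOpenImmersion.lift_fac _ _ _
  have : IsOpenImmersion (k ≫ D.ι) := by rw [hk]; infer_instance
  have : IsOpenImmersion k := IsOpenImmersion.of_comp k D.ι
  refine ⟨k.opensRange, ?_, ?_⟩
  · obtain ⟨w, hw⟩ := hi
    refine ⟨w, D.ι.isOpenEmbedding.injective ?_⟩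
    rw [← Scheme.Hom.comp_apply, hk]
    exact hw
  obtain ⟨h1, h2⟩ := big i
  have e0 : k ≫ IsOpenImmersion.lift (domQ u pL chartL).ι _ hrange =
      IsOpenImmersion.lift (domQ u pL chartL).ι
        (i.e (qHom U₀ u) (pL ∣_ X₀) (chartR X₀ 𝒮L pL chartL) ≫ (pL ⁻¹ᵁ X₀).ι) h1 := by
    rw [← cancel_mono (domQ u pL chartL).ι, Category.assoc, IsOpenImmersion.lift_fac, IsOpenImmersion.lift_fac,
      ← Category.assoc, hk]
  have e1 : k ≫ IsOpenImmersion.lift (domQ u pL chartL).ι _ hrange ≫ r = k ≫ r₀ ≫ (p ⁻¹ᵁ U₀).ι := by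
    refine (Category.assoc _ _ _).symm.trans ((congrArg (· ≫ r) e0).trans (h2.trans ?_))
    refine Eq.trans ?_ (Category.assoc k r₀ _)
    rw [hr₀ i.U i.hU i.U' i.hU' i.hle i.d i.hd i.f i.hf hW]
    simp only [Category.assoc]
  rw [← Scheme.Hom.isoOpensRange_inv_comp k, Category.assoc, Category.assoc, e1]

end Groth.Agent.ProjBundleLib.Restr
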