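import Groth.Agent.ProjBundleLib.Restrict
import Groth.Agent.ProjBundleLib.PushId
import Groth.Agent.RelProjLib.ColimImm
import Groth.Agent.S12683
import Groth.Prelude.Def_LCI2

/-! `r_{L,σ}` for a relatively ample module. -/

noncomputable section

universe u

open CategoryTheory CategoryTheory.Limits AlgebraicGeometry TopologicalSpace Opposite
open RelProj

namespace Groth.Agent.ProjBundleLib.Restr

variable {X Y P PL : Scheme.{u}} {q : X ⟶ Y} {𝒮 : QCGrAlg Y} {𝒮L : QCGrAlg X} (u : QGrHom q 𝒮 𝒮L)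
  {L : X.Modules} [L.IsQuasicoherent] {jL : L ⟶ 𝒮L.toModule} (hjL : IsGrSymAlg L 𝒮L jL)
  {p : P ⟶ Y} {chart : ∀ (U : Y.Opens) (hU : IsAffineOpen U), (((p ⁻¹ᵁ U : P.Opens) : Scheme.{u}) ≅ Proj (𝒮.deg U hU))}
  (hP : IsRelProj 𝒮 p chart) {pL : PL ⟶ X}
  {chartL : ∀ (U : X.Opens) (hU : IsAffineOpen U), (((pL ⁻¹ᵁ U : PL.Opens) : Scheme.{u}) ≅ Proj (𝒮L.deg U hU))}
  (hPL : IsRelProj 𝒮L pL chartL)

lemma bijective_appLE_of_eq {V : Y.Opens} {W : X.Opens} (e : W = q ⁻¹ᵁ V) (h : Function.Bijective (u.app V).hom) :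
    Function.Bijective (u.appLE V W e.le).hom := by
  subst e
  have : u.appLE V (q ⁻¹ᵁ V) le_rfl = u.app V := by
    rw [RelSpec.QHom.appLE_eq]
    exact (congrArg (u.app V ≫ ·) (𝒮L.presheaf.map_id _)).trans (Category.comp_id _)
  rw [this]
  exact h

include hjL hP hPL in
/-- Everywhere defined, open immersion, dominant. -/
theorem isOpenImmersion_of_isRelAmple [QuasiCompact q]
    {r : ((domQ u pL chartL : PL.Opens) : Scheme.{u}) ⟶ P}
    (hr : IsProjQMapOn u p chart pL chartL (domQ u pL chartL) r)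
    (hu : ∀ (U : Y.Opens), IsAffineOpen U → Function.Bijective (u.app U).hom) (h : RelAmple.IsRelAmple q L) :
    domQ u pL chartL = ⊤ ∧ IsOpenImmersion r ∧ IsDominant r := by
  have loc : ∀ (U : Y.Opens), IsAffineOpen U →
      ((pL ⁻¹ᵁ (q ⁻¹ᵁ U) : PL.Opens) ≤ domQ u pL chartL) ∧
        IsOpenImmersion (r ∣_ (p ⁻¹ᵁ U)) ∧ IsDominant (r ∣_ (p ⁻¹ᵁ U)) := by
    intro U hU
    have hamp : CohB1.IsAmple (L.restrict (q ⁻¹ᵁ U).ι) := h.2 ⟨U, hU⟩
    have : IsAffine U.toScheme := hU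
    have : CompactSpace (q ⁻¹ᵁ U : X.Opens).toScheme := hamp.2.1
    have hq : QuasiCompact (q ∣_ U) := IsZariskiLocalAtTarget.restrict (P := @QuasiCompact) ‹_› U
    obtain ⟨r₀, hr₀, -⟩ := RelProjLib.existsUnique_isProjQMapOn (qHom U u) (p ∣_ U) (pL ∣_ (q ⁻¹ᵁ U))
      (isRelProj U 𝒮 p hP) (isRelProj (q ⁻¹ᵁ U) 𝒮L pL hPL)
    have hbij : Function.Bijective ((qHom U u).app ⊤).hom :=
      bijective_appLE_of_eq u (image_morphismRestrict_preimage q U ⊤) (hu _ ((isAffineOpen_top _).image_of_isOpenImmersion _))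
    obtain ⟨hdom, hopen, hqc, hstd⟩ := Groth.Agent.S12683.result (q ∣_ U) (isAffineOpen_top _)
      (L.restrict (q ⁻¹ᵁ U).ι) hamp.1 (ProjTwist.isQCoh_of_isInvertible hamp.1) (grAlg (q ⁻¹ᵁ U) 𝒮L)
      (gens (q ⁻¹ᵁ U) 𝒮L jL) (isGrSymAlg (q ⁻¹ᵁ U) 𝒮L jL hjL) (pL ∣_ (q ⁻¹ᵁ U)) _
      (isRelProj (q ⁻¹ᵁ U) 𝒮L pL hPL) hamp (grAlg U 𝒮) (qHom U u) (p ∣_ U) _ (isRelProj U 𝒮 p hP) r₀ hr₀ hbij
    obtain ⟨l, hl, hl'⟩ := exists_compare U u hr hr₀
    have hle : (pL ⁻¹ᵁ (q ⁻¹ᵁ U) : PL.Opens) ≤ domQ u pL chartL := fun x hx => by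
      have hx' : (⟨x, hx⟩ : (pL ⁻¹ᵁ (q ⁻¹ᵁ U) : PL.Opens).toScheme) ∈
          domQ (qHom U u) (pL ∣_ (q ⁻¹ᵁ U)) (chartR (q ⁻¹ᵁ U) 𝒮L pL chartL) := hdom.ge trivial
      have e := congr($(hl) ⟨⟨x, hx⟩, hx'⟩)
      rw [Scheme.Hom.comp_apply] at e
      have h2 : (domQ u pL chartL).ι (l ⟨⟨x, hx⟩, hx'⟩) ∈ domQ u pL chartL := (l ⟨⟨x, hx⟩, hx'⟩).2
      rw [e] at h2
      exact h2
    have : IsOpenImmersion (l ≫ (domQ u pL chartL).ι) := by rw [hl]; infer_instance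
    have : IsOpenImmersion l := IsOpenImmersion.of_comp l (domQ u pL chartL).ι
    have hrange : r ⁻¹ᵁ (p ⁻¹ᵁ U).ι.opensRange = l.opensRange := by
      rw [Scheme.Opens.opensRange_ι]
      have hc := RelProjLib.comp_of_isProjQMapOn u p pL hP hPL hr
      ext z
      constructor
      · intro hz
        have hzU : q (pL z.1) ∈ U := by
          have e := congr($(hc) z)
          exact e ▸ hz
        refine ⟨⟨⟨z.1, hzU⟩, hdom.ge trivial⟩, (domQ u pL chartL).ι.isOpenEmbedding.injective ?_⟩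
        rw [← Scheme.Hom.comp_apply, hl]
        rfl
      · rintro ⟨w, rfl⟩
        have e := congr($(hl') w)
        rw [Scheme.Hom.comp_apply, Scheme.Hom.comp_apply] at e
        change r (l w) ∈ p ⁻¹ᵁ U
        rw [e]
        exact (r₀ w).2
    refine ⟨hle, ?_, ?_⟩
    · have := RelProjLib.restrict_of_square @IsOpenImmersion r₀ l (p ⁻¹ᵁ U).ι r hl' hrange hopen
      rwa [Scheme.Opens.opensRange_ι] at this
    · have : QuasiCompact r₀ := by
        assumption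
      have hd : IsDominant r₀ := inferInstance
      have := RelProjLib.restrict_of_square @IsDominant r₀ l (p ⁻¹ᵁ U).ι r hl' hrange hd
      rwa [Scheme.Opens.opensRange_ι] at this
  have hsup : (⨆ U : Y.affineOpens, p ⁻¹ᵁ U.1) = ⊤ := top_le_iff.1 fun z _ => by
    obtain ⟨U, hU, hz, -⟩ := exists_isAffineOpen_mem_and_subset (X := Y) (x := p z) (U := ⊤) trivial
    exact Opens.mem_iSup.2 ⟨⟨U, hU⟩, hz⟩
  refine ⟨top_le_iff.1 fun x _ => ?_, ?_, ?_⟩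
  · obtain ⟨U, hU, hx, -⟩ := exists_isAffineOpen_mem_and_subset (X := Y) (x := q (pL x)) (U := ⊤) trivial
    exact (loc U hU).1 hx
  · exact (IsZariskiLocalAtTarget.iff_of_iSup_eq_top (P := @IsOpenImmersion) _ hsup).2 fun U => (loc U.1 U.2).2.1
  · exact (IsZariskiLocalAtTarget.iff_of_iSup_eq_top (P := @IsDominant) _ hsup).2 fun U => (loc U.1 U.2).2.2

end Groth.Agent.ProjBundleLib.Restr
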