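import Groth.Agent.ProjBundleLib.RestrictAmple
import Groth.Agent.ProjBundleLib.EmbAmple

/-! A topological embedding `r_{L,ψ}` makes `L` relatively ample. -/

noncomputable section

universe u

open CategoryTheory CategoryTheory.Limits AlgebraicGeometry TopologicalSpace Opposite
open RelProj

namespace Groth.Agent.ProjBundleLib.Restr

variable {X Y P PL : Scheme.{u}} {q : X ⟶ Y} {𝒮 : QCGrAlg Y} {𝒮L : QCGrAlg X} (u : QGrHom q 𝒮 𝒮L)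
  {L : X.Modules} [L.IsQuasicoherent] {jL : L ⟶ 𝒮L.toModule} (hjL : IsGrSymAlg L 𝒮L jL)
  {p : P ⟶ Y} {chart : ∀ (U : Y.Opens) (hU : IsAffineOpen U), (((p ⁻¹ᵁ U : P.Opens) : Scheme.{u}) ≅ Proj (𝒮.deg U hU))}
  (hP : IsRelProj 𝒮 p chart) {pL : PL ⟶ X}
  {chartL : ∀ (U : X.Opens) (hU : IsAffineOpen U), (((pL ⁻¹ᵁ U : PL.Opens) : Scheme.{u}) ≅ Proj (𝒮L.deg U hU))}
  (hPL : IsRelProj 𝒮L pL chartL)

lemma mem_domOpen_congr {A B σ τ : Type u} [CommRing A] [SetLike σ A] [AddSubgroupClass σ A] [CommRing B]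
    [SetLike τ B] [AddSubgroupClass τ B] {𝒜 : ℕ → σ} {ℬ : ℕ → τ} [GradedRing 𝒜] [GradedRing ℬ]
    {ψ ψ' : 𝒜 →+*ᵍ ℬ} (e : ψ = ψ') {w : Proj ℬ} (h : w ∈ RelCone.domOpen ψ') : w ∈ RelCone.domOpen ψ := e ▸ h

include hP hPL in
/-- `G(u)` restricts. -/
theorem domQ_qHom_eq_top (U₀ : Y.Opens) (hU₀ : IsAffineOpen U₀) (hdom : domQ u pL chartL = ⊤) :
    domQ (qHom U₀ u) (pL ∣_ (q ⁻¹ᵁ U₀)) (chartR (q ⁻¹ᵁ U₀) 𝒮L pL chartL) = ⊤ := by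
  refine top_le_iff.1 fun z _ => ?_
  have : IsAffine U₀.toScheme := hU₀
  obtain ⟨W, hW, hzW, -⟩ := exists_isAffineOpen_mem_and_subset (X := (q ⁻¹ᵁ U₀).toScheme)
    (x := (pL ∣_ (q ⁻¹ᵁ U₀)) z) (U := ⊤) trivial
  obtain ⟨w, hw⟩ := RelProjLib.exists_emb_eq (grAlg (q ⁻¹ᵁ U₀) 𝒮L) (p := pL ∣_ (q ⁻¹ᵁ U₀))
    (chart := chartR (q ⁻¹ᵁ U₀) 𝒮L pL chartL) hW hzW
  subst hw
  have hle : W ≤ (q ∣_ U₀) ⁻¹ᵁ ⊤ := le_top
  rw [RelProjLib.mem_domQ_iff (qHom U₀ u) (p ∣_ U₀) (pL ∣_ (q ⁻¹ᵁ U₀)) (isRelProj U₀ 𝒮 p hP)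
    (isRelProj (q ⁻¹ᵁ U₀) 𝒮L pL hPL) (isAffineOpen_top _) hW hle]
  refine mem_domOpen_congr (qHom_gradedAt U₀ u (isAffineOpen_top _) hW hle) ?_
  exact (RelProjLib.mem_domQ_iff u p pL hP hPL ((isAffineOpen_top _).image_of_isOpenImmersion U₀.ι)
    (hW.image_of_isOpenImmersion (q ⁻¹ᵁ U₀).ι) _ w).1 (hdom.ge trivial)

include hjL hP hPL in
/-- Embedding implies relatively ample. -/
theorem isRelAmple_of_isInducing [QuasiCompact q] (hL : PicF.IsInvertible L)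
    {r : ((domQ u pL chartL : PL.Opens) : Scheme.{u}) ⟶ P}
    (hr : IsProjQMapOn u p chart pL chartL (domQ u pL chartL) r) (hdom : domQ u pL chartL = ⊤)
    (hemb : Topology.IsInducing r.base) : RelAmple.IsRelAmple q L := by
  refine ⟨inferInstance, fun ⟨U, hU⟩ => ?_⟩
  have : IsAffine U.toScheme := hU
  have hq : QuasiCompact (q ∣_ U) := IsZariskiLocalAtTarget.restrict (P := @QuasiCompact) ‹_› U
  have : CompactSpace (q ⁻¹ᵁ U : X.Opens).toScheme := QuasiCompact.compactSpace_of_compactSpace (q ∣_ U)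
  have hLU : PicF.IsInvertible (L.restrict (q ⁻¹ᵁ U).ι) := PicCl.isInvertible_of_iso ((Scheme.Modules.restrictFunctorIsoPullback (q ⁻¹ᵁ U).ι).app L).symm (PicCl.isInvertible_pullback (q ⁻¹ᵁ U).ι hL)
  have : (L.restrict (q ⁻¹ᵁ U).ι).IsQuasicoherent := ProjTwist.isQCoh_of_isInvertible hLU
  obtain ⟨r₀, hr₀, -⟩ := RelProjLib.existsUnique_isProjQMapOn (qHom U u) (p ∣_ U) (pL ∣_ (q ⁻¹ᵁ U))
    (isRelProj U 𝒮 p hP) (isRelProj (q ⁻¹ᵁ U) 𝒮L pL hPL)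
  obtain ⟨l, hl, hl'⟩ := exists_compare U u hr hr₀
  have : IsOpenImmersion (l ≫ (domQ u pL chartL).ι) := by rw [hl]; infer_instance
  have : IsOpenImmersion l := IsOpenImmersion.of_comp l (domQ u pL chartL).ι
  have hind : Topology.IsInducing r₀.base := by
    refine ((p ⁻¹ᵁ U).ι.isOpenEmbedding.isInducing.of_comp_iff).1 ?_
    have e : ((p ⁻¹ᵁ U).ι.base ∘ r₀.base : _ → P) = r.base ∘ l.base := by
      funext w
      exact congr($(hl') w).symm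
    rw [e]
    exact hemb.comp l.isOpenEmbedding.isInducing
  exact isAmple_of_isEmbedding (qHom U u) (isGrSymAlg (q ⁻¹ᵁ U) 𝒮L jL hjL) (isAffineOpen_top _) hLU
    (isRelProj U 𝒮 p hP) (isRelProj (q ⁻¹ᵁ U) 𝒮L pL hPL) hr₀ (domQ_qHom_eq_top u hP hPL U hU hdom) hind

end Groth.Agent.ProjBundleLib.Restr
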