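import Groth.Agent.ProjBundleLib.Algebra
import Groth.Agent.SymLib.Sheaf
import Groth.Agent.RelProjLib.Basic

/-! The canonical map `E → p_* O(1)` on a projective bundle and the frames it gives. -/

noncomputable section

universe u

open CategoryTheory CategoryTheory.Limits AlgebraicGeometry TopologicalSpace Opposite
open HomogeneousLocalization
open RelProj Groth.Agent.QCoh Groth.Agent.Props.GenLocus

namespace Groth.Agent.ProjBundleLib

/-- The section `f / 1` of `O(1)`. -/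
def degOneSec {A σ : Type u} [CommRing A] [SetLike σ A] [AddSubgroupClass σ A] {𝒜 : ℕ → σ} [GradedRing 𝒜]
    {f : A} (hf : f ∈ 𝒜 1) (V : (Proj 𝒜).Opens) : Γ(GrTwist.twist 𝒜 1, V) :=
  (⟨fun x => (GrTwist.globalOf 𝒜 ⟨f, hf⟩).1 ⟨x.1, trivial⟩,
    fun x => ⟨V, x.2, 𝟙 _, 1, 0, ⟨f, hf⟩, ⟨1, SetLike.GradedOne.one_mem⟩,
      fun y h => y.1.isPrime.ne_top ((Ideal.eq_top_iff_one _).mpr h), Or.inl (by simp), fun _ => rfl⟩⟩ :
    GrTwist.sectN (𝒜 := 𝒜) 1 (op V))

lemma val_degOneSec {A σ : Type u} [CommRing A] [SetLike σ A] [AddSubgroupClass σ A] {𝒜 : ℕ → σ}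
    [GradedRing 𝒜] {f : A} (hf : f ∈ 𝒜 1) (V : (Proj 𝒜).Opens) (y : V) :
    GrTwist.val (degOneSec hf V) y = algebraMap A (GrTwist.Loc 𝒜 y.1) f :=
  Localization.mk_one_eq_algebraMap f

lemma bijective_smul_degOneSec {A σ : Type u} [CommRing A] [SetLike σ A] [AddSubgroupClass σ A]
    {𝒜 : ℕ → σ} [GradedRing 𝒜] {f : A} (hf : f ∈ 𝒜 1) (V : (Proj 𝒜).Opens)
    (hV : ∀ y : V, f ∉ y.1.asHomogeneousIdeal) :
    Function.Bijective fun c : Γ(Proj 𝒜, V) => c • degOneSec hf V := by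
  have hb := GrModLib.bijective_smul_powSec (n := 1) (a := 1) (b := 0) hf (by norm_num) hV
  have e : degOneSec hf V = (GrModLib.powSec (n := 1) (a := 1) (b := 0) hf (by norm_num) hV :
      GrMod.sect 𝒜 𝒜 1 (op V)) := by
    refine Subtype.ext (funext fun y => Subtype.ext ?_)
    refine (val_degOneSec hf V y).trans ?_
    rw [← Localization.mk_one_eq_algebraMap]
    refine Localization.mk_eq_mk_iff.2 (Localization.r_iff_exists.2 ⟨1, ?_⟩)
    simp
  rw [e]
  exact hb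

/-- `(a / f) * (f / 1) = a / 1`. -/
lemma val_mapId_mk_mul {A σ : Type u} [CommRing A] [SetLike σ A] [AddSubgroupClass σ A] {𝒜 : ℕ → σ}
    [GradedRing 𝒜] {f a : A} (hf : f ∈ 𝒜 1) (ha : a ∈ 𝒜 (1 • 1)) (y : ProjectiveSpectrum 𝒜)
    (hy : f ∉ y.asHomogeneousIdeal) :
    (mapId 𝒜 (Submonoid.powers_le.mpr hy) (Away.mk 𝒜 hf 1 a ha) : GrTwist.A0 𝒜 y).val *
      algebraMap A (GrTwist.Loc 𝒜 y) f = algebraMap A (GrTwist.Loc 𝒜 y) a := by
  simp only [Away.mk, mapId]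
  erw [HomogeneousLocalization.map_mk, HomogeneousLocalization.val_mk]
  rw [← Localization.mk_one_eq_algebraMap, ← Localization.mk_one_eq_algebraMap, Localization.mk_mul]
  refine Localization.mk_eq_mk_iff.2 (Localization.r_iff_exists.2 ⟨1, ?_⟩)
  simp [mul_comm]

variable {Y P : Scheme.{u}} {E : Y.Modules} {𝒮 : QCGrAlg Y} {j : E ⟶ 𝒮.toModule} {p : P ⟶ Y}
  {chart : ∀ (U : Y.Opens) (hU : IsAffineOpen U), ((p ⁻¹ᵁ U : P.Opens) : Scheme.{u}) ≅ Proj (𝒮.deg U hU)}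
  {O1 : P.Modules}
  {lam : ∀ (U : Y.Opens) (hU : IsAffineOpen U),
    O1 ⟶ (Scheme.Modules.pushforward (emb p chart U hU)).obj (GrTwist.twist (𝒮.deg U hU) 1)}

variable (j p chart) in
/-- The chart of `e₀` as an open of the projective bundle. -/
def Dop (U : Y.Opens) (hU : IsAffineOpen U) (e₀ : Γ(E, U)) : P.Opens :=
  emb p chart U hU ''ᵁ Proj.basicOpen (𝒮.deg U hU) (el j U e₀)

variable (j p chart) in
/-- The functions on the chart of `e₀`. -/
def chartRing (U : Y.Opens) (hU : IsAffineOpen U) (e₀ : Γ(E, U)) :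
    Away (𝒮.deg U hU) (el j U e₀) →+* Γ(P, Dop j p chart U hU e₀) :=
  ((emb p chart U hU).appIso _).inv.hom.comp (Proj.awayToSection (𝒮.deg U hU) (el j U e₀)).hom

variable (j p chart lam) in
/-- `φ` is the canonical map `E → p_* O(1)`. -/
def IsCan (φ : E ⟶ (Scheme.Modules.pushforward p).obj O1) : Prop :=
  ∀ (U : Y.Opens) (hU : IsAffineOpen U) (e : Γ(E, U))
    (y : ↥(emb p chart U hU ⁻¹ᵁ (p ⁻¹ᵁ U))),
    GrTwist.val (V := emb p chart U hU ⁻¹ᵁ (p ⁻¹ᵁ U))
        ((lam U hU).app (p ⁻¹ᵁ U) ((φ.app U) e)) y =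
      algebraMap (𝒮.presheaf.obj (op U)) (GrTwist.Loc (𝒮.deg U hU) y.1)
        ((j.app U) e : 𝒮.presheaf.obj (op U))

lemma Dop_le (U : Y.Opens) (hU : IsAffineOpen U) (e₀ : Γ(E, U)) :
    Dop j p chart U hU e₀ ≤ p ⁻¹ᵁ U := by
  rw [← RelProjLib.emb_opensRange (chart := chart) U hU]
  exact Scheme.Hom.image_le_opensRange _ _

lemma emb_mem_Dop_iff (U : Y.Opens) (hU : IsAffineOpen U) (e₀ : Γ(E, U)) (y : Proj (𝒮.deg U hU)) :
    emb p chart U hU y ∈ Dop j p chart U hU e₀ ↔ el j U e₀ ∉ y.asHomogeneousIdeal := by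
  refine ⟨?_, fun h => ⟨y, h, rfl⟩⟩
  rintro ⟨y', hy', e⟩
  exact (emb p chart U hU).isOpenEmbedding.injective e ▸ hy'

lemma exists_mem_Dop [E.IsQuasicoherent] (hj : IsGrSymAlg E 𝒮 j) (U : Y.Opens) (hU : IsAffineOpen U)
    {x : P} (hx : x ∈ p ⁻¹ᵁ U) : ∃ e₀, x ∈ Dop j p chart U hU e₀ := by
  rw [← RelProjLib.emb_opensRange (chart := chart) U hU] at hx
  obtain ⟨y, rfl⟩ := hx
  obtain ⟨e, he⟩ := exists_el_notMem hj hU y
  exact ⟨e, (emb_mem_Dop_iff U hU e y).2 he⟩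

/-- Sections of `O(1)` over a part of `p ⁻¹ U` are determined by their values on the chart. -/
lemma ext_of_val (hO1 : IsRelTwist 𝒮 p chart 1 O1 lam) {U : Y.Opens} (hU : IsAffineOpen U) {W : P.Opens}
    (hW : W ≤ p ⁻¹ᵁ U) {s t : Γ(O1, W)}
    (h : ∀ y : ↥(emb p chart U hU ⁻¹ᵁ W),
      GrTwist.val (V := emb p chart U hU ⁻¹ᵁ W) ((lam U hU).app W s) y =
        GrTwist.val (V := emb p chart U hU ⁻¹ᵁ W) ((lam U hU).app W t) y) : s = t :=
  (hO1.bijective U hU W hW).1 (Subtype.ext (funext fun y => Subtype.ext (h y)))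

lemma val_res {U : Y.Opens} (hU : IsAffineOpen U) {W W' : P.Opens} (hle : W' ≤ W) (s : Γ(O1, W))
    (y : ↥(emb p chart U hU ⁻¹ᵁ W')) :
    GrTwist.val (V := emb p chart U hU ⁻¹ᵁ W') ((lam U hU).app W' (res O1 hle s)) y =
      GrTwist.val (V := emb p chart U hU ⁻¹ᵁ W) ((lam U hU).app W s) ⟨y.1, hle y.2⟩ := by
  rw [app_res]
  rfl

lemma val_smul {U : Y.Opens} (hU : IsAffineOpen U) {W : P.Opens} (c : Γ(P, W)) (s : Γ(O1, W))
    (y : ↥(emb p chart U hU ⁻¹ᵁ W)) :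
    GrTwist.val (V := emb p chart U hU ⁻¹ᵁ W) ((lam U hU).app W (c • s)) y =
      ((((emb p chart U hU).app W c : GrTwist.O (𝒜 := 𝒮.deg U hU) (op (emb p chart U hU ⁻¹ᵁ W))).1 y).val) *
        GrTwist.val (V := emb p chart U hU ⁻¹ᵁ W) ((lam U hU).app W s) y := by
  rw [Scheme.Modules.Hom.app_smul]
  exact GrTwist.coe_smul_val _ y.1 _ _

lemma emb_app_chartRing (U : Y.Opens) (hU : IsAffineOpen U) (e₀ : Γ(E, U))
    (z : Away (𝒮.deg U hU) (el j U e₀))
    (y : ↥(emb p chart U hU ⁻¹ᵁ Dop j p chart U hU e₀)) (hy : el j U e₀ ∉ y.1.asHomogeneousIdeal) :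
    (((emb p chart U hU).app _ (chartRing j p chart U hU e₀ z) :
        GrTwist.O (𝒜 := 𝒮.deg U hU) (op (emb p chart U hU ⁻¹ᵁ Dop j p chart U hU e₀))).1 y).val =
      ((mapId (𝒮.deg U hU) (Submonoid.powers_le.mpr hy) z :
        GrTwist.A0 (𝒮.deg U hU) y.1).val) := by
  have h := ConcreteCategory.congr_hom ((emb p chart U hU).appIso_inv_app
    (Proj.basicOpen (𝒮.deg U hU) (el j U e₀))) (Proj.awayToSection (𝒮.deg U hU) (el j U e₀) z)
  exact congrArg (fun s : GrTwist.O (𝒜 := 𝒮.deg U hU) (op (emb p chart U hU ⁻¹ᵁ Dop j p chart U hU e₀)) =>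
    (s.1 y).val) h

variable {φ : E ⟶ (Scheme.Modules.pushforward p).obj O1}

/-- The section of `O(1)` given by `e`. -/
def te (φ : E ⟶ (Scheme.Modules.pushforward p).obj O1) (U : Y.Opens) (e : Γ(E, U)) :
    Γ(O1, p ⁻¹ᵁ U) := φ.app U e

lemma te_res (φ : E ⟶ (Scheme.Modules.pushforward p).obj O1) {U V : Y.Opens} (h : V ≤ U) (e : Γ(E, U)) :
    te φ V (res E h e) = res O1 (p.preimage_mono h) (te φ U e) :=
  app_res φ h e

lemma val_te (hφ : IsCan j p chart lam φ) (U : Y.Opens) (hU : IsAffineOpen U) (e : Γ(E, U)) {W : P.Opens}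
    (hW : W ≤ p ⁻¹ᵁ U) (y : ↥(emb p chart U hU ⁻¹ᵁ W)) :
    GrTwist.val (V := emb p chart U hU ⁻¹ᵁ W) ((lam U hU).app W (res O1 hW (te φ U e))) y =
      algebraMap (𝒮.presheaf.obj (op U)) (GrTwist.Loc (𝒮.deg U hU) y.1) (el j U e) :=
  (val_res hU hW _ y).trans (hφ U hU e ⟨y.1, hW y.2⟩)

variable [E.IsQuasicoherent] (hj : IsGrSymAlg E 𝒮 j)
include hj

lemma te_eq_smul (hO1 : IsRelTwist 𝒮 p chart 1 O1 lam) (hφ : IsCan j p chart lam φ) (U : Y.Opens)
    (hU : IsAffineOpen U) (e₀ e : Γ(E, U)) :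
    res O1 (Dop_le U hU e₀) (te φ U e) =
      chartRing j p chart U hU e₀ (ratio hj hU e₀ e) •
        res O1 (Dop_le (j := j) (chart := chart) U hU e₀) (te φ U e₀) := by
  refine ext_of_val hO1 hU (Dop_le U hU e₀) fun y => ?_
  have hy := (emb_mem_Dop_iff (j := j) (p := p) (chart := chart) U hU e₀ y.1).1 y.2
  have e1 := val_te hφ U hU e (Dop_le U hU e₀) y
  have e0 := val_te hφ U hU e₀ (Dop_le U hU e₀) y
  have ec := emb_app_chartRing (p := p) (chart := chart) U hU e₀ (ratio hj hU e₀ e) y hy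
  have em := val_mapId_mk_mul (el_mem hj hU e₀) (by rw [smul_eq_mul, one_mul]; exact el_mem hj hU e) y.1 hy
  have es := val_smul (lam := lam) hU (chartRing j p chart U hU e₀ (ratio hj hU e₀ e))
    (res O1 (Dop_le (j := j) (chart := chart) U hU e₀) (te φ U e₀)) y
  have k1 := congrArg₂ (· * ·) ec e0
  refine e1.trans ?_
  refine Eq.trans ?_ es.symm
  refine Eq.trans ?_ k1.symm
  exact em.symm

/-- `e₀` gives a frame of `O(1)` on its chart. -/
lemma isGen_te (hO1 : IsRelTwist 𝒮 p chart 1 O1 lam) (hφ : IsCan j p chart lam φ) (U : Y.Opens)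
    (hU : IsAffineOpen U) (e₀ : Γ(E, U)) :
    IsGen O1 (Dop j p chart U hU e₀) (res O1 (Dop_le U hU e₀) (te φ U e₀)) := by
  intro V hV
  have hVU := hV.trans (Dop_le U hU e₀)
  have hyV : ∀ y : ↥(emb p chart U hU ⁻¹ᵁ V), el j U e₀ ∉ y.1.asHomogeneousIdeal :=
    fun y => (emb_mem_Dop_iff U hU e₀ y.1).1 (hV y.2)
  have hbV : Function.Bijective ((emb p chart U hU).app V) := by
    have : IsIso ((emb p chart U hU).app V) :=
      Scheme.Hom.isIso_app _ V (hVU.trans (RelProjLib.emb_opensRange (chart := chart) U hU).ge)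
    exact ConcreteCategory.bijective_of_isIso _
  let V' : (Proj (𝒮.deg U hU)).Opens := emb p chart U hU ⁻¹ᵁ V
  have hb' := bijective_smul_degOneSec (el_mem hj hU e₀) V' hyV
  have hσ : (lam U hU).app V (res O1 hVU (te φ U e₀)) = degOneSec (el_mem hj hU e₀) V' :=
    Subtype.ext (funext fun y => Subtype.ext
      ((val_te hφ U hU e₀ hVU y).trans (val_degOneSec _ V' y).symm))
  refine ((hO1.bijective U hU V hVU).of_comp_iff' (sm _ hV)).1 ?_
  have e1 : ((lam U hU).app V : _ → _) ∘ sm (res O1 (Dop_le U hU e₀) (te φ U e₀)) hV =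
      (fun c : Γ(Proj (𝒮.deg U hU), V') => c • degOneSec (el_mem hj hU e₀) V') ∘
        ((emb p chart U hU).app V) := by
    funext c
    change (lam U hU).app V (c • res O1 hV (res O1 _ (te φ U e₀))) = _
    rw [res_res, Scheme.Modules.Hom.app_smul, hσ]
    rfl
  rw [e1]
  exact hb'.comp hbV

lemma chartRing_str (hP : IsRelProj 𝒮 p chart) (U : Y.Opens) (hU : IsAffineOpen U) (e₀ : Γ(E, U))
    (r : Γ(Y, U)) :
    chartRing j p chart U hU e₀ (fromZeroRingHom _ _ ((𝒮.strZero U hU).hom r)) =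
      p.appLE U _ (Dop_le U hU e₀) r := by
  have hk : (1 : ℕ) > 0 := one_pos
  let ι' := Proj.awayι (𝒮.deg U hU) (el j U e₀) (el_mem hj hU e₀) hk
  let D := Proj.basicOpen (𝒮.deg U hU) (el j U e₀)
  have h1 : D.ι ≫ emb p chart U hU ≫ p = D.toSpecΓ ≫ Spec.map
      (𝒮.strZero U hU ≫ CommRingCat.ofHom (fromZeroRingHom (𝒮.deg U hU) (Submonoid.powers (el j U e₀))) ≫
        Proj.awayToSection (𝒮.deg U hU) (el j U e₀)) ≫ hU.fromSpec := by
    rw [RelProjLib.emb_comp hP, ι_comp_eq_awayHom_id (hg := el_mem hj hU e₀) (hk := hk)]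
    rw [awayHom, Category.assoc, Category.assoc]
    rw [Proj.awayι_toSpecZero_assoc, ← Spec.map_comp_assoc, ← Spec.map_comp_assoc]
    rfl
  have hle : D ≤ (emb p chart U hU ≫ p) ⁻¹ᵁ U := by
    rw [Scheme.Hom.comp_preimage]
    exact (Scheme.Hom.preimage_image_eq _ D).ge.trans
      ((emb p chart U hU).preimage_mono (Dop_le (j := j) (chart := chart) U hU e₀))
  have h2 : D.ι ≫ emb p chart U hU ≫ p =
      D.toSpecΓ ≫ Spec.map ((emb p chart U hU ≫ p).appLE U D hle) ≫ hU.fromSpec := by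
    rw [Scheme.Opens.toSpecΓ_SpecMap_appLE_assoc, IsAffineOpen.toSpecΓ_fromSpec, Scheme.Hom.resLE_comp_ι]
  have h3 := h1.symm.trans h2
  simp only [← Category.assoc, cancel_mono] at h3
  have h4 := congrArg Scheme.Hom.appTop h3
  simp only [Scheme.Hom.comp_appTop, Scheme.Opens.toSpecΓ_appTop, Scheme.ΓSpecIso_naturality_assoc,
    cancel_epi] at h4
  have h5 := congrArg (fun f => f r) (congrArg CommRingCat.Hom.hom ((cancel_mono _).mp h4))
  refine (congrArg ((emb p chart U hU).appIso D).inv.hom h5).trans ?_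
  have h6 : (emb p chart U hU ≫ p).appLE U D hle ≫ ((emb p chart U hU).appIso D).inv =
      p.appLE U (emb p chart U hU ''ᵁ D) (Dop_le (j := j) (chart := chart) U hU e₀) := by
    rw [Iso.comp_inv_eq, Scheme.Hom.appIso_hom']
    exact (Scheme.Hom.appLE_comp_appLE (emb p chart U hU) p U (emb p chart U hU ''ᵁ D) D _ _).symm
  exact ConcreteCategory.congr_hom h6 r

lemma basicOpen_chartRing (U : Y.Opens) (hU : IsAffineOpen U) (e₀ e : Γ(E, U)) :
    P.basicOpen (chartRing j p chart U hU e₀ (ratio hj hU e₀ e)) =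
      Dop j p chart U hU e₀ ⊓ Dop j p chart U hU e := by
  let A := 𝒮.deg U hU
  let D := Proj.basicOpen A (el j U e₀)
  have h1 : (Proj A).basicOpen (Proj.awayToSection A (el j U e₀) (ratio hj hU e₀ e)) =
      D ⊓ Proj.basicOpen A (el j U e) := by
    have h := awayHom_preimage (W := D) (hg := el_mem hj hU e₀) (hk := one_pos)
      (Proj.awayToSection A (el j U e₀)).hom (el_mem hj hU e) one_pos
    rw [← ι_comp_eq_awayHom_id (hg := el_mem hj hU e₀) (hk := one_pos)] at h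
    have e3 : Away.isLocalizationElem (el_mem hj hU e₀) (el_mem hj hU e) = ratio hj hU e₀ e := by
      refine val_injective _ ?_
      simp [Away.isLocalizationElem, ratio, Away.val_mk]
    rw [e3] at h
    have h' := congrArg (D.ι ''ᵁ ·) h
    simp only [Scheme.Hom.image_preimage_eq_opensRange_inf, Scheme.Opens.opensRange_ι] at h'
    exact ((inf_eq_right.2 ((Proj A).basicOpen_le _)).symm.trans h'.symm).trans
      ((D.ι.image_preimage_eq_opensRange_inf _).trans (by rw [Scheme.Opens.opensRange_ι]))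
  have h2 : emb p chart U hU ⁻¹ᵁ P.basicOpen (chartRing j p chart U hU e₀ (ratio hj hU e₀ e)) =
      (Proj A).basicOpen (Proj.awayToSection A (el j U e₀) (ratio hj hU e₀ e)) := by
    rw [Scheme.preimage_basicOpen]
    have h := ConcreteCategory.congr_hom ((emb p chart U hU).appIso_inv_app D)
      (Proj.awayToSection A (el j U e₀) (ratio hj hU e₀ e))
    refine (congrArg _ h).trans ?_
    refine (Scheme.basicOpen_res _ _ _).trans (inf_eq_right.2 ?_)
    exact ((Proj A).basicOpen_le _).trans (Scheme.Hom.preimage_image_eq _ _).ge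
  have hle : P.basicOpen (chartRing j p chart U hU e₀ (ratio hj hU e₀ e)) ≤
      (emb p chart U hU).opensRange :=
    (P.basicOpen_le _).trans (Scheme.Hom.image_le_opensRange _ _)
  rw [← inf_eq_right.2 hle, ← Scheme.Hom.image_preimage_eq_opensRange_inf, h2, h1]
  ext x
  constructor
  · rintro ⟨y, ⟨ha, hb⟩, rfl⟩
    exact ⟨⟨y, ha, rfl⟩, ⟨y, hb, rfl⟩⟩
  · rintro ⟨⟨y, ha, rfl⟩, ⟨y', hb, e⟩⟩
    exact ⟨y, ⟨ha, (emb p chart U hU).isOpenEmbedding.injective e ▸ hb⟩, rfl⟩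

end Groth.Agent.ProjBundleLib
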