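import Groth.Agent.ProjBundleLib.FTEpi
import Groth.Agent.RelTildeLib.TwistMul
import Groth.Agent.ProjTwist.Tensor
import Groth.Agent.S12485

/-! Twisting sheaves as powers. -/

noncomputable section

universe u

open CategoryTheory CategoryTheory.Limits AlgebraicGeometry TopologicalSpace Opposite
open RelProj Groth.Agent.QCoh Groth.Agent.Props.GenLocus Groth.Agent.Props.GenProd

namespace Groth.Agent.ProjBundleLib

variable {X Y P : Scheme.{u}}

/-- An invertible module isomorphic to its square is trivial. -/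
lemma nonempty_iso_one {M : X.Modules} (hM : PicF.IsInvertible M) (φ : CohB1.tensorMod M M ≅ M) :
    Nonempty (M ≅ Coh.structureModule X) := by
  have key : ∀ x : X, ∃ (W : X.Opens) (e : Γ(M, W)), x ∈ W ∧ IsGen M W e ∧
      φ.hom.app W (Props.GenTensor.tmul e e) = e := fun x => by
    obtain ⟨W, e, hxW, he⟩ := exists_isGen hM x
    obtain ⟨c, hc, hce⟩ := exists_unit_smul he (AmpleLib.isGen_app_iso φ (Props.GenTensor.isGen_tmul he he))
    obtain ⟨c', rfl⟩ := hc
    refine ⟨W, (↑c'⁻¹ : Γ(X, W)) • e, hxW, he.smul_unit (c'⁻¹).isUnit, ?_⟩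
    rw [Props.GenTensor.tmul_smul_left, Props.GenTensor.tmul_smul_right, smul_smul,
      Scheme.Modules.Hom.app_smul, hce, smul_smul, mul_assoc, Units.inv_mul, mul_one]
  choose W e hxW he hsq using key
  obtain ⟨ψ, -⟩ := AmpleLib.exists_iso_of_gen (M := M) (N := Coh.structureModule X) W
    (fun x _ => Opens.mem_iSup.mpr ⟨x, hxW x⟩) e he (fun x => one' (W x))
    (fun x => Props.GenTensor.isGen_one (W x)) (by
      intro x z V hx hz u hu
      have h1 := congrArg (res M hz) (hsq z)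
      rw [← app_res, Props.GenTensor.res_tmul, hu, Props.GenTensor.tmul_smul_left, Props.GenTensor.tmul_smul_right,
        smul_smul, Scheme.Modules.Hom.app_smul, ← Props.GenTensor.res_tmul, app_res, hsq x] at h1
      have h2 := (he x).injective hx h1
      have hgz := (he z).restrict hz
      rw [hu] at hgz
      obtain ⟨w, hw, hwe⟩ := exists_unit_smul ((he x).restrict hx) hgz
      obtain rfl : u = w := (he x).injective hx hwe
      obtain rfl : u = 1 := hw.mul_left_cancel (by rw [mul_one]; first | exact h2 | exact h2.symm)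
      rw [one_smul]
      exact ((X.presheaf.map (homOfLE hz).op).hom.map_one).trans
        (X.presheaf.map (homOfLE hx).op).hom.map_one.symm)
  exact ⟨ψ⟩

variable {𝒮 : QCGrAlg Y} {p : P ⟶ Y}
  {chart : ∀ (U : Y.Opens) (hU : IsAffineOpen U), (((p ⁻¹ᵁ U : P.Opens) : Scheme.{u}) ≅ Proj (𝒮.deg U hU))}

/-- `O(0)` is trivial. -/
lemma nonempty_twist_zero (hP : IsRelProj 𝒮 p chart) (hgen : 𝒮.IsGenDegOne) {L : P.Modules}
    {lam : ∀ (U : Y.Opens) (hU : IsAffineOpen U),
      L ⟶ (Scheme.Modules.pushforward (emb p chart U hU)).obj (GrTwist.twist (𝒮.deg U hU) 0)}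
    (hL : IsRelTwist 𝒮 p chart 0 L lam) : Nonempty (L ≅ Coh.structureModule P) := by
  have key : ∀ (k : ℤ) (lam' : ∀ (U : Y.Opens) (hU : IsAffineOpen U),
      L ⟶ (Scheme.Modules.pushforward (emb p chart U hU)).obj (GrTwist.twist (𝒮.deg U hU) k)),
      k = 0 + 0 → IsRelTwist 𝒮 p chart k L lam' → Nonempty (CohB1.tensorMod L L ≅ L) := by
    rintro k lam' rfl hL'
    exact RelTildeLib.nonempty_tensor_iso hP hgen hL hL hL'
  obtain ⟨φ⟩ := key 0 lam (by simp) hL
  exact nonempty_iso_one (GrModLib.isInvertible_relTwist hgen hL) φ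

/-- `O(n) ≅ O(1)^n` for positive `n`. -/
lemma nonempty_twist_pow (hP : IsRelProj 𝒮 p chart) (hgen : 𝒮.IsGenDegOne) {O1 : P.Modules}
    {lam1 : ∀ (U : Y.Opens) (hU : IsAffineOpen U),
      O1 ⟶ (Scheme.Modules.pushforward (emb p chart U hU)).obj (GrTwist.twist (𝒮.deg U hU) 1)}
    (hO1 : IsRelTwist 𝒮 p chart 1 O1 lam1) (n : ℕ) :
    ∀ (k : ℤ), k = n + 1 → ∀ (L : P.Modules)
      (lam : ∀ (U : Y.Opens) (hU : IsAffineOpen U),
        L ⟶ (Scheme.Modules.pushforward (emb p chart U hU)).obj (GrTwist.twist (𝒮.deg U hU) k)),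
      IsRelTwist 𝒮 p chart k L lam → Nonempty (CohB1.tensorPow O1 (n + 1) ≅ L) := by
  induction n with
  | zero =>
    intro k hk L lam hL
    obtain ⟨O0, lam0, hO0⟩ := RelTildeLib.exists_isRelTwist hP 0
    obtain rfl : k = 0 + 1 := by simpa using hk
    obtain ⟨φ⟩ := RelTildeLib.nonempty_tensor_iso hP hgen hO0 hO1 hL
    obtain ⟨ψ⟩ := nonempty_twist_zero hP hgen hO0
    exact ⟨ProjTwist.tensCongr ψ.symm (Iso.refl O1) ≪≫ φ⟩
  | succ n ih =>
    intro k hk L lam hL
    obtain ⟨On, lamn, hOn⟩ := RelTildeLib.exists_isRelTwist hP ((n : ℤ) + 1)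
    obtain ⟨ψ⟩ := ih _ rfl On lamn hOn
    obtain rfl : k = ((n : ℤ) + 1) + 1 := by rw [hk]; push_cast; rfl
    obtain ⟨φ⟩ := RelTildeLib.nonempty_tensor_iso hP hgen hOn hO1 hL
    exact ⟨ProjTwist.tensCongr ψ (Iso.refl O1) ≪≫ φ⟩

/-- `O(1)` is relatively ample. -/
lemma isRelAmple_twist_one (hP : IsRelProj 𝒮 p chart) (hgen : 𝒮.IsGenDegOne) (hft : 𝒮.IsFTDeg 1) {O1 : P.Modules}
    {lam1 : ∀ (U : Y.Opens) (hU : IsAffineOpen U),
      O1 ⟶ (Scheme.Modules.pushforward (emb p chart U hU)).obj (GrTwist.twist (𝒮.deg U hU) 1)}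
    (hO1 : IsRelTwist 𝒮 p chart 1 O1 lam1) :
    PicF.IsInvertible O1 ∧ RelAmple.IsRelAmple p O1 ∧ IsProper p := by
  have hI : PicF.IsInvertible O1 := GrModLib.isInvertible_relTwist hgen hO1
  have : IsProper p := ProjMor.isProper_of_isProjective
    ⟨𝒮, P, p, chart, Iso.refl P, hgen, hft, hP, Category.id_comp p⟩
  refine ⟨hI, isRelAmple_of_isRelVeryAmple hI ?_, this⟩
  exact S12485.result p O1 hI 𝒮 hgen p chart hP O1 lam1 hO1 (𝟙 P) (Category.id_comp p)
    (((Scheme.Modules.pullbackId P).app O1).symm)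

/-- Tensoring with an invertible module preserves epimorphisms. -/
lemma exists_epi_tensor {L A B : X.Modules} (hL : PicF.IsInvertible L) (q : A ⟶ B) [Epi q] :
    ∃ q' : CohB1.tensorMod A L ⟶ CohB1.tensorMod B L, Epi q' := by
  let S := ShortComplex.mk (kernel.ι q) q (kernel.condition q)
  have hS : S.ShortExact := { exact := S.exact_of_f_is_kernel (kernelIsKernel q) }
  exact ⟨_, (ProjTwist.shortExact_tensor hL hS).epi_g⟩

end Groth.Agent.ProjBundleLib
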