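import Groth.Agent.ProjBundleLib.Tensor
import Groth.Agent.ProjBundleLib.TwistPow
import Groth.Agent.AmpleLib.Twist
import Groth.Agent.AmpleLib.Tensor
import Groth.Agent.KFlat.PullTensor
import Groth.Agent.QCoh.Pullback

/-! `P(E ⊗ L) ≅ P(E)` for an invertible `L`. -/

noncomputable section

universe u

open CategoryTheory CategoryTheory.Limits AlgebraicGeometry TopologicalSpace Opposite
open HomogeneousLocalization
open RelProj Groth.Agent.QCoh Groth.Agent.Props.GenLocus Groth.Agent.Props.GenTensor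

namespace Groth.Agent.ProjBundleLib.TensInv

theorem nonempty_pow_pullback {X Y : Scheme.{u}} (f : X ⟶ Y) (L : Y.Modules) : ∀ d : ℕ,
    Nonempty (CohB1.tensorPow ((Scheme.Modules.pullback f).obj L) d ≅
      (Scheme.Modules.pullback f).obj (CohB1.tensorPow L d))
  | 0 => ⟨(QCoh.pullbackUnitIso f).symm⟩
  | d + 1 => let ⟨t⟩ := nonempty_pow_pullback f L d
    ⟨ProjTwist.tensCongr t (Iso.refl _) ≪≫ (KFlat.PullTensor.pullTensorIso f (CohB1.tensorPow L d) L).symm⟩

theorem nonempty_pow_congr {X : Scheme.{u}} {L L' : X.Modules} (e : L ≅ L') : ∀ d : ℕ,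
    Nonempty (CohB1.tensorPow L d ≅ CohB1.tensorPow L' d)
  | 0 => ⟨Iso.refl _⟩
  | d + 1 => let ⟨t⟩ := nonempty_pow_congr e d; ⟨ProjTwist.tensCongr t e⟩

variable {Y : Scheme.{u}} {E : Y.Modules} [E.IsQuasicoherent] {𝒮 : QCGrAlg Y} {j : E ⟶ 𝒮.toModule}
  (hj : IsGrSymAlg E 𝒮 j) {U : Y.Opens} (hU : IsAffineOpen U)

/-- The base ring in a chart. -/
def zeroMap (e₀ : Γ(E, U)) : Γ(Y, U) →+* Away (𝒮.deg U hU) (el j U e₀) :=
  (fromZeroRingHom (𝒮.deg U hU) (Submonoid.powers (el j U e₀))).comp (𝒮.strZero U hU).hom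

lemma ratio_add (e₀ a b : Γ(E, U)) : ratio hj hU e₀ (a + b) = ratio hj hU e₀ a + ratio hj hU e₀ b := by
  refine val_injective _ ?_
  rw [val_add, ratio, ratio, ratio, Away.val_mk, Away.val_mk, Away.val_mk, Localization.add_mk_self, el_add]

lemma ratio_smul (e₀ : Γ(E, U)) (r : Γ(Y, U)) (a : Γ(E, U)) :
    ratio hj hU e₀ (r • a) = zeroMap hU e₀ r * ratio hj hU e₀ a := by
  refine val_injective _ ?_
  rw [val_mul, ratio, ratio, Away.val_mk, Away.val_mk]
  change _ = Localization.mk ((𝒮.str.app (op U)).hom r) 1 * _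
  rw [Localization.mk_mul, one_mul, el_smul]

lemma ratio_self (e₀ : Γ(E, U)) : ratio hj hU e₀ e₀ = 1 := by
  refine val_injective _ ?_
  rw [val_one, ratio, Away.val_mk, ← Localization.mk_one, Localization.mk_eq_mk_iff, Localization.r_iff_exists]
  exact ⟨1, by simp⟩

variable {E' : Y.Modules} [E'.IsQuasicoherent] {𝒯 : QCGrAlg Y} {k : E' ⟶ 𝒯.toModule} (hk : IsGrSymAlg E' 𝒯 k)

/-- A semilinear bijection of the modules identifies the charts. -/
theorem exists_chartEquiv (ω : Γ(E, U) →+ Γ(E', U)) (hω : ∀ (r : Γ(Y, U)) a, ω (r • a) = r • ω a)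
    (hb : Function.Bijective ω) (e : Γ(E, U)) :
    ∃ ν : Away (𝒯.deg U hU) (el k U (ω e)) →+* Away (𝒮.deg U hU) (el j U e), Function.Bijective ν ∧
      (∀ r, ν (zeroMap hU (ω e) r) = zeroMap hU e r) ∧
      ∀ a, ν (ratio hk hU (ω e) (ω a)) = ratio hj hU e a := by
  have hinv : ∀ b, ω ((Equiv.ofBijective ω hb).symm b) = b := (Equiv.ofBijective ω hb).apply_symm_apply
  let f : Γ(E', U) →+ Away (𝒮.deg U hU) (el j U e) :=
    AddMonoidHom.mk' (fun b => ratio hj hU e ((Equiv.ofBijective ω hb).symm b)) fun a b => by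
      rw [← ratio_add]
      exact congrArg _ (hb.1 ((hinv _).trans (by rw [map_add, hinv, hinv])))
  obtain ⟨F, hF0, hF1⟩ := exists_lift hk (zeroMap (𝒮 := 𝒮) (j := j) hU e) f hU fun r m => by
    change ratio hj hU e _ = _ * ratio hj hU e _
    rw [← ratio_smul]
    exact congrArg _ (hb.1 (by rw [hω, hinv, hinv]))
  let g : Γ(E, U) →+ Away (𝒯.deg U hU) (el k U (ω e)) :=
    AddMonoidHom.mk' (fun a => ratio hk hU (ω e) (ω a)) fun a b => by rw [map_add, ratio_add]
  obtain ⟨G, hG0, hG1⟩ := exists_lift hj (zeroMap (𝒮 := 𝒯) (j := k) hU (ω e)) g hU fun r m => by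
    change ratio hk hU (ω e) _ = _ * ratio hk hU (ω e) _
    rw [hω, ratio_smul]
  have hFe : F (el k U (ω e)) = 1 := by
    rw [hF1]
    change ratio hj hU e _ = 1
    rw [show (Equiv.ofBijective ω hb).symm (ω e) = e from hb.1 (hinv _), ratio_self]
  have hGe : G (el j U e) = 1 := by
    rw [hG1]
    exact ratio_self hk hU _
  have hFu : IsUnit (F (el k U (ω e))) := hFe ▸ isUnit_one
  have hGu : IsUnit (G (el j U e)) := hGe ▸ isUnit_one
  let ν := liftAway (𝒯.deg U hU) F hFu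
  let μ := liftAway (𝒮.deg U hU) G hGu
  have ν0 : ∀ r, ν (zeroMap hU (ω e) r) = zeroMap hU e r := fun r =>
    (liftAway_fromZero F hFu _).trans (hF0 r)
  have μ0 : ∀ r, μ (zeroMap hU e r) = zeroMap hU (ω e) r := fun r =>
    (liftAway_fromZero G hGu _).trans (hG0 r)
  have ν1 : ∀ a, ν (ratio hk hU (ω e) (ω a)) = ratio hj hU e a := fun a => by
    have h := liftAway_mk (𝒜 := 𝒯.deg U hU) F hFu (el_mem hk hU (ω e)) 1 (el k U (ω a))
      (by rw [smul_eq_mul, one_mul]; exact el_mem hk hU _)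
    rw [hFe, one_pow, mul_one] at h
    refine h.trans ((hF1 _).trans (congrArg (ratio hj hU e) ?_))
    exact hb.1 (hinv _)
  have μ1 : ∀ a, μ (ratio hj hU e a) = ratio hk hU (ω e) (ω a) := fun a => by
    have h := liftAway_mk (𝒜 := 𝒮.deg U hU) G hGu (el_mem hj hU e) 1 (el j U a)
      (by rw [smul_eq_mul, one_mul]; exact el_mem hj hU _)
    rw [hGe, one_pow, mul_one] at h
    exact h.trans (hG1 _)
  have h1 : μ.comp ν = RingHom.id _ := away_ext hk (hU := hU) (ω e)
    (fun r => (congrArg μ (ν0 r)).trans (μ0 r)) fun b => by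
      obtain ⟨a, rfl⟩ := hb.2 b
      exact (congrArg μ (ν1 a)).trans (μ1 a)
  have h2 : ν.comp μ = RingHom.id _ := away_ext hj (hU := hU) e
    (fun r => (congrArg ν (μ0 r)).trans (ν0 r)) fun a => (congrArg ν (μ1 a)).trans (ν1 a)
  exact ⟨ν, ⟨Function.LeftInverse.injective (g := μ) (RingHom.congr_fun h1),
    Function.RightInverse.surjective (g := μ) (RingHom.congr_fun h2)⟩, ν0, ν1⟩

end Groth.Agent.ProjBundleLib.TensInv

namespace Groth.Agent.ProjBundleLib.TensInv

variable {Y P Q : Scheme.{u}} {E L : Y.Modules} [E.IsQuasicoherent] (hL : PicF.IsInvertible L)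
  [(CohB1.tensorMod E L).IsQuasicoherent]
  {𝒮 : QCGrAlg Y} {j : E ⟶ 𝒮.toModule} (hj : IsGrSymAlg E 𝒮 j)
  {𝒯 : QCGrAlg Y} {k : CohB1.tensorMod E L ⟶ 𝒯.toModule} (hk : IsGrSymAlg (CohB1.tensorMod E L) 𝒯 k)
  {p : P ⟶ Y}
  {chart : ∀ (U : Y.Opens) (hU : IsAffineOpen U), ((p ⁻¹ᵁ U : P.Opens) : Scheme.{u}) ≅ Proj (𝒮.deg U hU)}
  (hP : IsRelProj 𝒮 p chart) {q : Q ⟶ Y}
  {chartQ : ∀ (U : Y.Opens) (hU : IsAffineOpen U), ((q ⁻¹ᵁ U : Q.Opens) : Scheme.{u}) ≅ Proj (𝒯.deg U hU)}
  (hQ : IsRelProj 𝒯 q chartQ)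

include hL hj hk hP hQ in
/-- `P(E ⊗ L) ≅ P(E)`, with the twists. -/
theorem exists_iso [L.IsQuasicoherent] :
    ∃ i : P ≅ Q, i.hom ≫ q = p ∧
      ∀ (n : ℕ) (OP : P.Modules)
        (lamP : ∀ (U : Y.Opens) (hU : IsAffineOpen U),
          OP ⟶ (Scheme.Modules.pushforward (RelProj.emb p chart U hU)).obj (GrTwist.twist (𝒮.deg U hU) (n : ℤ)))
        (OQ : Q.Modules)
        (lamQ : ∀ (U : Y.Opens) (hU : IsAffineOpen U),
          OQ ⟶ (Scheme.Modules.pushforward (RelProj.emb q chartQ U hU)).obj (GrTwist.twist (𝒯.deg U hU) (n : ℤ))),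
        RelProj.IsRelTwist 𝒮 p chart (n : ℤ) OP lamP → RelProj.IsRelTwist 𝒯 q chartQ (n : ℤ) OQ lamQ →
          Nonempty ((Scheme.Modules.pullback i.hom).obj OQ ≅
            CohB1.tensorMod OP ((Scheme.Modules.pullback p).obj (CohB1.tensorPow L n))) := by
  obtain ⟨O1, lam1, hO1⟩ := RelTildeLib.exists_isRelTwist hP 1
  obtain ⟨φ, hφ⟩ := exists_isCan hj hO1 hP
  obtain ⟨O1', lam1', hO1'⟩ := RelTildeLib.exists_isRelTwist hQ 1
  obtain ⟨φ', hφ'⟩ := exists_isCan hk hO1' hQ
  let K := (Scheme.Modules.pullback p).obj L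
  let a : L ⟶ (Scheme.Modules.pushforward p).obj K := adjMap (𝟙 K)
  let v := tensV φ a
  have hgφ := gens_can hj hO1 hφ
  have hv : Gens v := gens_tensV hgφ (gens_pullback hL)
  obtain ⟨i, hi, -⟩ := existsUnique_cls hk hQ hv
  have hip : i ≫ q = p := Cls.comp_eq hk hQ hv hi
  have hI1 : PicF.IsInvertible O1 := GrModLib.isInvertible_relTwist (SymLib.isGenDegOne hj) hO1
  have hIK : PicF.IsInvertible K := PicCl.isInvertible_pullback p hL
  -- small charts
  have loc : ∀ x : Q, ∃ (U : Y.Opens) (hU : IsAffineOpen U) (l : Γ(L, U)) (e : Γ(E, U)),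
      IsGen L U l ∧ x ∈ Dop k q chartQ U hU (tmul e l) := by
    intro x
    obtain ⟨W, l, hxW, hl⟩ := exists_isGen hL (q x)
    obtain ⟨U, hU, hxU, hUW⟩ := exists_isAffineOpen_mem_and_subset (U := W) (x := q x) hxW
    obtain ⟨w, hw⟩ := exists_mem_Dop (chart := chartQ) hk U hU (show x ∈ q ⁻¹ᵁ U from hxU)
    obtain ⟨e, rfl⟩ := (AmpleLib.tmul_gen_bijective hl E hUW).2 w
    exact ⟨U, hU, _, e, hl.restrict hUW, hw⟩
  have main : ∀ {U : Y.Opens} (hU : IsAffineOpen U) (l : Γ(L, U)) (_ : IsGen L U l) (e : Γ(E, U)),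
      i ⁻¹ᵁ Dop k q chartQ U hU (tmul e l) = Dop j p chart U hU e ∧
      IsOpenImmersion ((Dop j p chart U hU e).ι ≫ i) ∧
      Set.range ((Dop j p chart U hU e).ι ≫ i) = Dop k q chartQ U hU (tmul e l) := by
    intro U hU l hl e
    set V := Dop j p chart U hU e
    have hVU : V ≤ p ⁻¹ᵁ U := Dop_le U hU e
    have hla : IsGen K (p ⁻¹ᵁ U) (vsec a U l) := by
      rw [show vsec a U l = LFFrame.unitSec p L U l from vsec_adjMap (𝟙 K) U l]
      exact Props.GenPull.isGen_pb p hl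
    have hf0 : Frame φ U e V := ⟨hVU, isGen_te hj hO1 hφ U hU e⟩
    have hf : Frame v U (tmul e l) V :=
      hf0.tmul (⟨hVU, hla.restrict hVU⟩ : Frame a U l V)
    have hpre : i ⁻¹ᵁ Dop k q chartQ U hU (tmul e l) = V := by
      refine le_antisymm (fun x hx => ?_) (le_preimage_Dop_of_cls hk hi hf)
      have hxU : x ∈ p ⁻¹ᵁ U := preimage_le hip U (i.preimage_mono (Dop_le U hU _) hx)
      obtain ⟨e₁, he₁⟩ := exists_mem_Dop (chart := chart) hj U hU hxU
      let B : Bundle (CohB1.tensorMod E L) := ⟨𝒯, k, hk, Q, q, chartQ, hQ, O1', lam1', hO1', φ', hφ'⟩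
      have hfx : Frame v U (tmul e l) (i ⁻¹ᵁ Dop k q chartQ U hU (tmul e l)) :=
        mem_preimage_Dop_iff B hv (r := i) hi hU (tmul e l)
      let W := Dop j p chart U hU e₁ ⊓ i ⁻¹ᵁ Dop k q chartQ U hU (tmul e l)
      have hW1 : W ≤ Dop j p chart U hU e₁ := inf_le_left
      have hWU : W ≤ p ⁻¹ᵁ U := hW1.trans (Dop_le U hU e₁)
      let c := chartRing j p chart U hU e₁ (ratio hj hU e₁ e)
      have h1 := congrArg (res O1 hW1) (te_eq_smul hj hO1 hφ U hU e₁ e)
      rw [res_smul, res_res, res_res] at h1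
      have hg1 : IsGen O1 W (res O1 hWU (te φ U e₁)) := by
        have := (isGen_te hj hO1 hφ U hU e₁).restrict hW1
        rwa [res_res] at this
      have hgl : IsGen K W (res K hWU (vsec a U l)) := hla.restrict hWU
      have hg := (hfx.restrict (inf_le_right : W ≤ _)).gen
      rw [vsec_tensV, res_tmul] at hg
      change IsGen _ W (tmul (res O1 hWU (te φ U e)) (res K hWU (vsec a U l))) at hg
      rw [h1] at hg
      have hu : IsUnit (rres hW1 c) := isUnit_of_mul_gen hg1 hgl (b := 1) (by rwa [one_smul])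
      have hxW : x ∈ W := ⟨he₁, hx⟩
      have : x ∈ P.basicOpen c := by
        have h2 : x ∈ P.basicOpen (rres hW1 c) := by rw [Scheme.basicOpen_of_isUnit _ hu]; exact hxW
        rw [show P.basicOpen (rres hW1 c) = W ⊓ P.basicOpen c from Scheme.basicOpen_res _ _ _] at h2
        exact h2.2
      rw [basicOpen_chartRing] at this
      exact this.2
    let ω : Γ(E, U) →+ Γ(CohB1.tensorMod E L, U) :=
      AddMonoidHom.mk' (fun z => tmul z l) fun a b => KFlat.StalkTensor.tmulSec_add_left (U := U) a b l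
    have hωb : Function.Bijective ω := by
      have := AmpleLib.tmul_gen_bijective hl E (le_refl U)
      simp only [res_self] at this
      exact this
    obtain ⟨ν, hνb, hν0, hν1⟩ := exists_chartEquiv hj hU hk ω (fun r z => tmul_smul_left r z l) hωb e
    have hco : chartCo hk U hU (tmul e l) V hf = (chartRing j p chart U hU e).comp ν := by
      refine away_ext hk (hU := hU) (tmul e l) (fun r => ?_) fun b => ?_
      · rw [chartCo_zero]
        refine Eq.trans ?_ (congrArg (chartRing j p chart U hU e) (hν0 r)).symm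
        exact (chartRing_str hj hP U hU e r).symm
      · obtain ⟨z, rfl⟩ := hωb.2 b
        refine Eq.trans ?_ (congrArg (chartRing j p chart U hU e) (hν1 z)).symm
        rw [chartCo_ratio]
        refine chartAlg_unique hk hf ?_
        change res _ hVU (vsec v U (tmul z l)) = _ • res _ hVU (vsec v U (tmul e l))
        rw [vsec_tensV, vsec_tensV, res_tmul, res_tmul]
        change tmul (res O1 hVU (te φ U z)) _ = _ • tmul (res O1 hVU (te φ U e)) _
        rw [te_eq_smul hj hO1 hφ U hU e z, tmul_smul_left]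
    have hbij : Function.Bijective (chartCo hk U hU (tmul e l) V hf) := by
      rw [hco]
      suffices h : Function.Bijective (chartRing j p chart U hU e) from h.comp hνb
      have : IsIso (Proj.awayToSection (𝒮.deg U hU) (el j U e)) := by
        rw [show Proj.awayToSection (𝒮.deg U hU) (el j U e) =
          (Proj.basicOpenIsoAway (𝒮.deg U hU) (el j U e) (el_mem hj hU e) one_pos).hom from rfl]
        infer_instance
      exact (ConcreteCategory.bijective_of_isIso ((emb p chart U hU).appIso _).inv).comp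
        (ConcreteCategory.bijective_of_isIso (Proj.awayToSection (𝒮.deg U hU) (el j U e)))
    have hVaff : IsAffineOpen V :=
      (Proj.isAffineOpen_basicOpen (𝒮.deg U hU) (el j U e) (el_mem hj hU e) one_pos).image_of_isOpenImmersion _
    have hchart := hi U hU (tmul e l) V hf
    have : IsIso V.toSpecΓ := by rw [← IsAffineOpen.isoSpec_hom hVaff]; infer_instance
    have : IsIso (Spec.map (CommRingCat.ofHom (chartCo hk U hU (tmul e l) V hf))) :=
      have : IsIso (CommRingCat.ofHom (chartCo hk U hU (tmul e l) V hf)) :=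
        (ConcreteCategory.isIso_iff_bijective _).2 hbij
      inferInstance
    have hoi : IsOpenImmersion (chartMor q chartQ hk U hU (tmul e l) V hf) := by
      rw [chartMor, awayHom]; infer_instance
    refine ⟨hpre, hchart ▸ hoi, ?_⟩
    rw [hchart, chartMor, awayHom]
    simp only [Category.assoc, Scheme.Hom.comp_base, TopCat.coe_comp]
    rw [(Scheme.Hom.surjective V.toSpecΓ).range_comp,
      (Scheme.Hom.surjective (Spec.map (CommRingCat.ofHom (chartCo hk U hU (tmul e l) V hf)))).range_comp,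
      Set.range_comp]
    exact congrArg (fun O : (Proj (𝒯.deg U hU)).Opens => emb q chartQ U hU '' (O : Set _))
      (Proj.opensRange_awayι (𝒯.deg U hU) _ (el_mem hk hU (tmul e l)) one_pos)
  choose U hU l e hl hxD using loc
  have : IsOpenImmersion i := by
    refine IsZariskiLocalAtTarget.of_iSup_eq_top (P := @IsOpenImmersion) (fun x => Dop k q chartQ (U x) (hU x) (tmul (e x) (l x)))
      (top_le_iff.1 fun x _ => Opens.mem_iSup.2 ⟨x, hxD x⟩) fun x => ?_
    obtain ⟨hpre, ho, -⟩ := main (hU x) (l x) (hl x) (e x)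
    have : IsOpenImmersion ((i ⁻¹ᵁ Dop k q chartQ (U x) (hU x) (tmul (e x) (l x))).ι ≫ i) := by rw [hpre]; exact ho
    have h2 : IsOpenImmersion ((i ∣_ Dop k q chartQ (U x) (hU x) (tmul (e x) (l x))) ≫
        (Dop k q chartQ (U x) (hU x) (tmul (e x) (l x))).ι) := by rw [morphismRestrict_ι]; infer_instance
    exact IsOpenImmersion.of_comp _ (Dop k q chartQ (U x) (hU x) (tmul (e x) (l x))).ι
  have : Surjective i := ⟨fun x => by
    obtain ⟨-, -, hr⟩ := main (hU x) (l x) (hl x) (e x)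
    obtain ⟨z, hz⟩ := hr.ge (hxD x)
    exact ⟨_, hz⟩⟩
  have : IsIso i := (isIso_iff_isOpenImmersion_and_surjective i).2 ⟨inferInstance, inferInstance⟩
  obtain ⟨τ, -⟩ := exists_compat hk hQ hO1' hφ' hv hi
  refine ⟨asIso i, hip, fun n OP lamP OQ lamQ hOP hOQ => ?_⟩
  rcases n with _ | m
  · obtain ⟨αP⟩ := nonempty_twist_zero hP (SymLib.isGenDegOne hj) (lam := lamP) hOP
    obtain ⟨αQ⟩ := nonempty_twist_zero hQ (SymLib.isGenDegOne hk) (lam := lamQ) hOQ
    exact ⟨(Scheme.Modules.pullback i).mapIso αQ ≪≫ QCoh.pullbackUnitIso i ≪≫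
      (ProjTwist.oneTens _).symm ≪≫ ProjTwist.tensCongr αP.symm (QCoh.pullbackUnitIso p).symm⟩
  · obtain ⟨αP⟩ := nonempty_twist_pow hP (SymLib.isGenDegOne hj) hO1 m _ (by push_cast; rfl) OP lamP hOP
    obtain ⟨αQ⟩ := nonempty_twist_pow hQ (SymLib.isGenDegOne hk) hO1' m _ (by push_cast; rfl) OQ lamQ hOQ
    obtain ⟨β⟩ := nonempty_pow_pullback i O1' (m + 1)
    obtain ⟨γ⟩ := nonempty_pow_congr τ (m + 1)
    obtain ⟨δ, -⟩ := AmpleLib.exists_iso_tensorPow_tensor hI1 hIK (m + 1)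
    obtain ⟨ε⟩ := nonempty_pow_pullback p L (m + 1)
    exact ⟨(Scheme.Modules.pullback i).mapIso αQ.symm ≪≫ β.symm ≪≫ γ ≪≫ δ.symm ≪≫
      ProjTwist.tensCongr αP ε⟩

end Groth.Agent.ProjBundleLib.TensInv
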