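import Groth.Agent.ProjBundleLib.Projective
import Groth.Agent.AmpleLib.Rel
import Groth.Agent.ProjTwist.Tensor
import Groth.Agent.RelTildeLib.TwistPeriod
import Groth.Agent.RelTildeLib.TwistGen

/-! `O(d)` is relatively ample for algebras of finite type. -/

noncomputable section

universe u

open CategoryTheory CategoryTheory.Limits AlgebraicGeometry TopologicalSpace Opposite
open RelProj Groth.Agent.QCoh Groth.Agent.Props.GenLocus Groth.Agent.RelTildeLib Groth.Agent.GrModLib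
open scoped HomogeneousIdeal

namespace Groth.Agent.ProjBundleLib

/-- Some degree `d` part covers `Proj` of a graded algebra of finite type over a ring of degree zero. -/
theorem exists_degree_cover {R A : Type u} [CommRing R] [CommRing A] (𝒜 : ℕ → AddSubgroup A) [GradedRing 𝒜]
    (φ : R →+* A) (hφ : ∀ r, φ r ∈ 𝒜 0) (hft : φ.FiniteType) :
    ∃ d : ℕ, 0 < d ∧ ∀ D : ℕ, 0 < D → d ∣ D → ∃ T : Finset A, (∀ a ∈ T, a ∈ 𝒜 D) ∧
      ∀ y : ProjectiveSpectrum 𝒜, ∃ a ∈ T, a ∉ y.asHomogeneousIdeal := by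
  classical
  let := φ.toAlgebra
  obtain ⟨t, ht⟩ := (hft : Algebra.FiniteType R A).out
  let C : Finset (ℕ × A) := t.biUnion fun a =>
    ((DirectSum.decompose 𝒜 a).support.erase 0).image fun i => (i, (DirectSum.decompose 𝒜 a i : A))
  have hC : ∀ q ∈ C, 0 < q.1 ∧ q.2 ∈ 𝒜 q.1 := fun q hq => by
    obtain ⟨a, -, hq⟩ := Finset.mem_biUnion.mp hq
    obtain ⟨i, hi, rfl⟩ := Finset.mem_image.mp hq
    exact ⟨Nat.pos_of_ne_zero (Finset.mem_erase.mp hi).1, Subtype.coe_prop _⟩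
  refine ⟨∏ q ∈ C, q.1, Finset.prod_pos fun q hq => (hC q hq).1, fun D hD hdvd =>
    ⟨C.image fun q => q.2 ^ (D / q.1), fun b hb => ?_, fun y => ?_⟩⟩
  · obtain ⟨q, hq, rfl⟩ := Finset.mem_image.mp hb
    obtain ⟨k, rfl⟩ := (Finset.dvd_prod_of_mem _ hq).trans hdvd
    rw [Nat.mul_div_cancel_left k (hC q hq).1, mul_comm]
    exact SetLike.pow_mem_graded k (hC q hq).2
  by_contra! hne
  have hy : ∀ q ∈ C, q.2 ∈ y.asHomogeneousIdeal := fun q hq =>
    y.isPrime.mem_of_pow_mem (D / q.1) (hne _ (Finset.mem_image_of_mem _ hq))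
  have key : ∀ a : A, ∃ z ∈ 𝒜 0, a - z ∈ y.asHomogeneousIdeal.toIdeal := by
    intro a
    have ha : a ∈ Algebra.adjoin R (t : Set A) := ht.ge trivial
    induction ha using Algebra.adjoin_induction with
    | mem a ha =>
      refine ⟨DirectSum.decompose 𝒜 a 0, Subtype.coe_prop _, ?_⟩
      by_cases h0 : 0 ∈ (DirectSum.decompose 𝒜 a).support
      · have hsum : (∑ i ∈ (DirectSum.decompose 𝒜 a).support.erase 0, (DirectSum.decompose 𝒜 a i : A)) +
            (DirectSum.decompose 𝒜 a 0 : A) = a := by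
          rw [Finset.sum_erase_add _ _ h0]; exact DirectSum.sum_support_decompose 𝒜 a
        nth_rewrite 1 [← hsum]
        rw [add_sub_cancel_right]
        exact Ideal.sum_mem _ fun i hi => hy (i, _)
          (Finset.mem_biUnion.mpr ⟨a, ha, Finset.mem_image.mpr ⟨i, hi, rfl⟩⟩)
      · rw [DFinsupp.notMem_support_iff.mp h0, ZeroMemClass.coe_zero, sub_zero]
        rw [← DirectSum.sum_support_decompose 𝒜 a]
        exact Ideal.sum_mem _ fun i hi => hy (i, _) (Finset.mem_biUnion.mpr ⟨a, ha,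
          Finset.mem_image.mpr ⟨i, Finset.mem_erase.mpr ⟨fun h => h0 (h ▸ hi), hi⟩, rfl⟩⟩)
    | algebraMap r =>
      refine ⟨φ r, hφ r, ?_⟩
      rw [RingHom.algebraMap_toAlgebra, sub_self]
      exact Ideal.zero_mem _
    | add a b _ _ ha hb =>
      obtain ⟨z, hz, hza⟩ := ha
      obtain ⟨w, hw, hwb⟩ := hb
      refine ⟨z + w, add_mem hz hw, ?_⟩
      rw [add_sub_add_comm]
      exact Ideal.add_mem _ hza hwb
    | mul a b _ _ ha hb =>
      obtain ⟨z, hz, hza⟩ := ha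
      obtain ⟨w, hw, hwb⟩ := hb
      refine ⟨z * w, by simpa using SetLike.mul_mem_graded hz hw, ?_⟩
      rw [show a * b - z * w = (a - z) * b + z * (b - w) by ring]
      exact Ideal.add_mem _ (Ideal.mul_mem_right _ _ hza) (Ideal.mul_mem_left _ _ hwb)
  obtain ⟨m, f, hm, hf, hfy⟩ := exists_pos_nin y
  obtain ⟨z, hz, hzf⟩ := key f
  refine hfy ?_
  have h := y.asHomogeneousIdeal.2 m hzf
  rw [DirectSum.decompose_sub, DirectSum.sub_apply, AddSubgroupClass.coe_sub,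
    DirectSum.decompose_of_mem_same _ hf, DirectSum.decompose_of_mem_ne _ hz (by omega), sub_zero] at h
  exact h

variable {Y P : Scheme.{u}} {𝒮 : QCGrAlg Y} {p : P ⟶ Y}
  {chart : ∀ (U : Y.Opens) (hU : IsAffineOpen U), (((p ⁻¹ᵁ U : P.Opens) : Scheme.{u}) ≅ Proj (𝒮.deg U hU))}

/-- `O(d)` is invertible and ample for a period `d` of a finite cover. -/
theorem exists_twist_ample [CompactSpace Y] (hP : IsRelProj 𝒮 p chart)
    (hft : ∀ (U : Y.Opens) (_ : IsAffineOpen U), (𝒮.str.app (op U)).hom.FiniteType) :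
    ∃ d : ℕ, 0 < d ∧ ∀ (L : P.Modules)
      (lam : ∀ (U : Y.Opens) (hU : IsAffineOpen U),
        L ⟶ (Scheme.Modules.pushforward (emb p chart U hU)).obj (GrTwist.twist (𝒮.deg U hU) (d : ℤ))),
      IsRelTwist 𝒮 p chart (d : ℤ) L lam → PicF.IsInvertible L ∧ RelAmple.IsRelAmple p L := by
  classical
  have hstr : ∀ (U : Y.Opens) (hU : IsAffineOpen U) (r : Γ(Y, U)), (𝒮.str.app (op U)).hom r ∈ 𝒮.deg U hU 0 :=
    fun U hU r => ((𝒮.strZero U hU).hom r).2
  choose d hd hcov using fun U : Y.affineOpens =>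
    exists_degree_cover (𝒮.deg U.1 U.2) _ (hstr U.1 U.2) (hft U.1 U.2)
  have hqc : QuasiCompact p := quasiCompact_iff_forall_isAffineOpen.mpr fun U hU => by
    obtain ⟨T, hT, hTy⟩ := hcov ⟨U, hU⟩ (d ⟨U, hU⟩) (hd _) dvd_rfl
    have e : ((p ⁻¹ᵁ U : P.Opens) : Set P) = ⋃ a ∈ T, (emb p chart U hU ''ᵁ Proj.basicOpen (𝒮.deg U hU) a : Set P) := by
      ext x
      constructor
      · intro hx
        obtain ⟨y, rfl⟩ := exists_emb_eq (chart := chart) U hU hx
        obtain ⟨a, ha, hay⟩ := hTy y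
        exact Set.mem_iUnion₂.mpr ⟨a, ha, (mem_image_dPlus_iff a y).mpr hay⟩
      · intro hx
        obtain ⟨a, -, hx⟩ := Set.mem_iUnion₂.mp hx
        exact image_le_preimage hU _ hx
    rw [e]
    refine T.finite_toSet.isCompact_biUnion fun a ha => ?_
    exact ((Proj.isAffineOpen_basicOpen _ _ (hT a ha) (hd ⟨U, hU⟩)).image_of_isOpenImmersion _).isCompact
  obtain ⟨A, hA⟩ := isCompact_univ.elim_finite_subcover (fun U : Y.affineOpens => (U.1 : Set Y))
    (fun U => U.1.2) fun y _ => by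
      obtain ⟨V, hV, hy, -⟩ := exists_isAffineOpen_mem_and_subset (X := Y) (x := y) (U := ⊤) trivial
      exact Set.mem_iUnion.mpr ⟨⟨V, hV⟩, hy⟩
  have hD : 0 < ∏ U ∈ A, d U := Finset.prod_pos fun U _ => hd U
  refine ⟨∏ U ∈ A, d U, hD, fun L lam hL => ?_⟩
  have key : ∀ U : A, ∀ x ∈ p ⁻¹ᵁ U.1.1, ∃ σ : Γ(L, p ⁻¹ᵁ U.1.1),
      x ∈ AmpleLib.locus σ ∧ IsAffineOpen (AmpleLib.locus σ) := by
    intro U x hx
    obtain ⟨T, hT, hTy⟩ := hcov U.1 _ hD (Finset.dvd_prod_of_mem _ U.2)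
    obtain ⟨y, rfl⟩ := exists_emb_eq (chart := chart) U.1.1 U.1.2 hx
    obtain ⟨a, ha, hay⟩ := hTy y
    obtain ⟨σ, hσ⟩ := exists_tv_eq hL U.1.2 (W := p ⁻¹ᵁ U.1.1) le_rfl (hT a ha) (SetLike.one_mem_graded _)
      (by simp) fun z _ hz => z.isPrime.ne_top ((Ideal.eq_top_iff_one _).mpr hz)
    let W := emb p chart U.1.1 U.1.2 ''ᵁ Proj.basicOpen (𝒮.deg U.1.1 U.1.2) a
    have hW : W ≤ p ⁻¹ᵁ U.1.1 := image_le_preimage U.1.2 _
    have hloc : AmpleLib.locus σ = W := by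
      refine le_antisymm (fun z hz => ?_) (AmpleLib.le_locus hW (isGen_of_isUnit_chart hL U.1.2 hW _ fun z hz => ?_))
      · obtain ⟨z, rfl⟩ := exists_emb_eq (chart := chart) U.1.1 U.1.2 (AmpleLib.locus_le σ hz)
        obtain ⟨m, f, hm, hf, hfz⟩ := exists_pos_nin (show ProjectiveSpectrum (𝒮.deg U.1.1 U.1.2) from z)
        obtain ⟨b, hb, hbz⟩ := hTy z
        let W' := emb p chart U.1.1 U.1.2 ''ᵁ Proj.basicOpen (𝒮.deg U.1.1 U.1.2) b ⊓ AmpleLib.locus σ
        have hW' : W' ≤ p ⁻¹ᵁ U.1.1 := inf_le_left.trans (image_le_preimage U.1.2 _)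
        obtain ⟨e', he'⟩ := exists_tv_eq hL U.1.2 hW' (hT b hb) (SetLike.one_mem_graded _)
          (by simp) fun z _ hz => z.isPrime.ne_top ((Ideal.eq_top_iff_one _).mpr hz)
        have hz' : (emb p chart U.1.1 U.1.2).base z ∈ W' := ⟨(mem_image_dPlus_iff b z).mpr hbz, hz⟩
        have h1 := isUnit_tv_of_isGen (lam := lam) (AmpleLib.isGen_locus σ) (inf_le_right : W' ≤ _) e' z hz'
          (by rw [he' z hz', isUnit_mk_iff]; exact hbz)
        rw [tv_res, hσ, isUnit_mk_iff] at h1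
        exact (mem_image_dPlus_iff a z).mpr h1
      · rw [tv_res, hσ, isUnit_mk_iff]
        exact (mem_image_dPlus_iff a z).mp hz
    exact ⟨σ, hloc ▸ (mem_image_dPlus_iff a y).mpr hay, hloc ▸
      (Proj.isAffineOpen_basicOpen _ _ (hT a ha) hD).image_of_isOpenImmersion _⟩
  have hI : PicF.IsInvertible L := AmpleLib.isInvertible_of_exists_isGen fun x => by
    obtain ⟨U, hUA, hxU⟩ := Set.mem_iUnion₂.mp (hA (Set.mem_univ (p x)))
    obtain ⟨σ, hxσ, -⟩ := key ⟨U, hUA⟩ x hxU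
    exact ⟨_, _, hxσ, AmpleLib.isGen_locus σ⟩
  refine ⟨hI, AmpleLib.isRelAmple_of_cover p (fun U : A => U.1.1) (fun y _ => ?_) hI fun U => ?_⟩
  · obtain ⟨U, hUA, hyU⟩ := Set.mem_iUnion₂.mp (hA (Set.mem_univ y))
    exact Opens.mem_iSup.mpr ⟨⟨U, hUA⟩, hyU⟩
  · refine ⟨hqc.1 _ U.1.1.2 U.1.2.isCompact, fun x hx => ?_⟩
    obtain ⟨σ, hxσ, haff⟩ := key U x hx
    let e : L ≅ CohB1.tensorPow L 1 := (ProjTwist.oneTens L).symm
    have he : AmpleLib.locus (e.hom.app _ σ) = AmpleLib.locus σ := AmpleLib.locus_app_iso e σ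
    exact ⟨0, e.hom.app _ σ, he.symm ▸ hxσ, he.symm ▸ haff⟩

end Groth.Agent.ProjBundleLib
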